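import Cfsg.Agent.Lib.KnownB.Thompson.TwoBlock
import Cfsg.Prelude.Def_Classical

/-!
The class-square property for the projective symplectic groups.
-/

set_option autoImplicit false

namespace CfsgLib.Thompson

open Matrix

variable {F : Type*} [Field F] [Fintype F] {m : ℕ}

/-- a scalar of large multiplicative order -/
lemma exists_gen (h9 : 9 ≤ Fintype.card F) :
    ∃ γ : F, γ ≠ 0 ∧ ∀ n : ℕ, 0 < n → n < 8 → γ ^ n ≠ 1 := by
  obtain ⟨g, hg⟩ := IsCyclic.exists_generator (α := Fˣ)
  refine ⟨g.1, g.ne_zero, fun n hn hn8 e => ?_⟩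
  have h1 : orderOf g ∣ n := orderOf_dvd_of_pow_eq_one (Units.ext (by simpa using e))
  rw [orderOf_eq_card_of_forall_mem_zpowers hg, Nat.card_units, Nat.card_eq_fintype_card] at h1
  have := Nat.le_of_dvd hn h1
  omega

/-- the weights for the scalar `γ ^ s` on the two special lines -/
lemma dv_pow {γ : F} (hγ : γ ≠ 0) (k s : ℕ) (hs : s ≤ 2) (i : Fin (k + 2)) :
    γ ^ 2 * dv k (γ ^ s) i =
      γ ^ (if i.val < k then 2 else if i.val = k then 2 + s else 2 - s) := by
  unfold dv
  split_ifs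
  · rw [mul_one]
  · rw [pow_add]
  · rw [pow_sub₀ _ hγ hs]

theorem Spec.symplectic :
    Spec true ((symplecticGroup (Fin m) F).subtype.toHomUnits.range) := by
  intro g
  have key : g ∈ (symplecticGroup (Fin m) F).subtype.toHomUnits.range ↔
      g.1 ∈ symplecticGroup (Fin m) F := by
    constructor
    · rintro ⟨x, rfl⟩; exact x.2
    · intro h; exact ⟨⟨g.1, h⟩, Units.ext rfl⟩
  rw [key, SymplecticGroup.mem_iff']
  obtain ⟨A, B, C, D, e⟩ : ∃ A B C D, g.1 = fromBlocks A B C D :=
    ⟨_, _, _, _, (fromBlocks_toBlocks g.1).symm⟩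
  rw [e, cond_blocks, J, fromBlocks_transpose, fromBlocks_multiply, fromBlocks_multiply,
    fromBlocks_inj]
  simp only [IsA, eps, if_true, transpose_mul, transpose_transpose, Bool.true_eq_false,
    IsEmpty.forall_iff, and_true, Matrix.mul_zero, Matrix.mul_neg, Matrix.mul_one, zero_add,
    add_zero, neg_one_smul, Matrix.neg_mul]
  constructor
  · rintro ⟨h1, h2, -, h4⟩
    refine ⟨add_neg_eq_zero.1 ((add_comm _ _).trans ?_), add_neg_eq_zero.1 ((add_comm _ _).trans ?_), ?_⟩
    · rw [← h1]; abel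
    · rw [← h4]; abel
    · rw [← neg_inj, ← h2]; abel
  · rintro ⟨h1, h2, h3⟩
    refine ⟨by rw [h1, add_neg_cancel], ?_, ?_, by rw [h2, add_neg_cancel]⟩
    · rw [← h3]; abel
    · have := congrArg transpose h3
      simp only [transpose_add, transpose_neg, transpose_mul, transpose_transpose,
        transpose_one] at this
      rw [← this]

/-- the class-square property of the projective symplectic groups -/
theorem sq_PSp (h9 : 9 ≤ Fintype.card F) (hm : 2 ≤ m) : SqClass (Cfsg.PSp m F) := by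
  obtain ⟨k, rfl⟩ : ∃ k, m = k + 2 := ⟨m - 2, by omega⟩
  obtain ⟨γ, hγ, hord⟩ := exists_gen h9
  have ha : Adm γ := ⟨hγ, by simpa using hord 1 one_pos (by omega),
    fun h => hord 2 two_pos (by omega) (by rw [sq]; nth_rw 1 [← h]; exact inv_mul_cancel₀ hγ)⟩
  have h4 : 4 ≤ ENat.card F := by
    rw [ENat.card_eq_coe_fintype_card]; exact_mod_cast (by omega : 4 ≤ Fintype.card F)
  obtain ⟨B, -, hN, hfac⟩ := exists_scaled h4 ha (pow_ne_zero 2 hγ) k
  set f := (symplecticGroup (Fin (k + 2)) F).subtype.toHomUnits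
  have hG : Spec true f.range := Spec.symplectic
  have hΓ : SubSpec true f.range f.range :=
    { le := le_rfl
      norm := fun x hx g hg => mul_mem (mul_mem hx hg) (inv_mem hx)
      up := fun S hS => hG.upM_mem.2 hS
      lo := fun S hS => hG.loM_mem.2 hS
      square := fun h => absurd h (by simp)
      parity := fun h => absurd h (by simp)
      swap := fun h => absurd h (by simp) }
  have hinj : Function.Injective f := fun x y h => Subtype.ext (congrArg Units.val h)
  obtain ⟨c, hc⟩ := hG.levH_mem B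
  refine ⟨QuotientGroup.mk c, fun q => ?_⟩
  obtain ⟨g, rfl⟩ := QuotientGroup.mk_surjective q
  obtain ⟨g', e, hg'⟩ : ∃ g' : symplecticGroup (Fin (k + 2)) F,
      (QuotientGroup.mk g' : Cfsg.PSp (k + 2) F) = QuotientGroup.mk g ∧
      (f g' = 1 ∨ ((f g').1 ≠ 1 ∧ (f g').1 ≠ -1)) := by
    by_cases h : (f g).1 ≠ 1 ∧ (f g).1 ≠ -1
    · exact ⟨g, rfl, Or.inr h⟩
    refine ⟨1, ?_, Or.inl (map_one f)⟩
    rw [QuotientGroup.mk_one, eq_comm, QuotientGroup.eq_one_iff, Subgroup.mem_center_iff]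
    intro y
    refine Subtype.ext ?_
    show y.1 * g.1 = g.1 * y.1
    change ¬ (g.1 ≠ 1 ∧ g.1 ≠ -1) at h
    rw [not_and_or, not_not, not_not] at h
    rcases h with h | h <;> rw [h] <;> simp
  have hw : ∀ i j : Fin (k + 2), (true = false → i ≠ j) →
      γ ^ 2 * dv k γ i * (γ ^ 2 * dv k γ j) ≠ 1 := fun i j _ => by
    have e := dv_pow hγ k 1 (by omega)
    rw [pow_one] at e
    rw [e, e, ← pow_add]
    refine hord _ ?_ ?_ <;> split_ifs <;> omega
  obtain ⟨x, ⟨x', rfl⟩, z, ⟨z', rfl⟩, exz⟩ := two_block_square hG hΓ hN hw hfac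
    (by omega) (fun h => absurd h (by simp)) (g := f g') ⟨g', rfl⟩ hg'
  refine ⟨QuotientGroup.mk x', QuotientGroup.mk z', ?_⟩
  rw [← e, hinj (a₁ := g') (a₂ := (x' * c * x'⁻¹) * (z' * c * z'⁻¹))
    (by rw [exz, ← hc]; simp only [map_mul, map_inv])]
  rfl

end CfsgLib.Thompson
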