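import Cfsg.Agent.Lib.KnownB.Thompson.OddCell
import Cfsg.Agent.Lib.KnownB.Thompson.Sp

/-!
The class-square property for the orthogonal groups in odd dimension.
-/

set_option autoImplicit false

namespace CfsgLib.Thompson

open Matrix QuadraticMap CfsgLib.Geometry

variable {F : Type*} [Field F] {m : ℕ}

variable (F m) in
/-- upper unipotent subgroup, odd dimension -/
def UpperI : Subgroup (GL (Unit ⊕ (Fin m ⊕ Fin m)) F) where
  carrier := {g | ∃ r X, g = upU r X}
  one_mem' := ⟨0, 0, upU_zero.symm⟩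
  mul_mem' := by
    rintro _ _ ⟨r, X, rfl⟩ ⟨r', X', rfl⟩
    exact ⟨_, _, upU_mul r r' X X'⟩
  inv_mem' := by
    rintro _ ⟨r, X, rfl⟩
    exact ⟨_, _, upU_inv r X⟩

variable (F m) in
/-- lower unipotent subgroup, odd dimension -/
def LowerI : Subgroup (GL (Unit ⊕ (Fin m ⊕ Fin m)) F) :=
  (UpperI F m).map (MulAut.conj (flipI F m)).toMonoidHom

lemma mem_LowerI {g : GL (Unit ⊕ (Fin m ⊕ Fin m)) F} :
    g ∈ LowerI F m ↔ flipI F m * g * (flipI F m)⁻¹ ∈ UpperI F m := by
  constructor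
  · rintro ⟨u, hu, rfl⟩
    have : flipI F m * (flipI F m * u * (flipI F m)⁻¹) * (flipI F m)⁻¹ = u := by
      rw [flipI_inv]; simp only [mul_assoc, flipI_sq, mul_one]; simp [← mul_assoc, flipI_sq]
    exact this.symm ▸ hu
  · intro h
    refine ⟨_, h, ?_⟩
    show flipI F m * (flipI F m * g * (flipI F m)⁻¹) * (flipI F m)⁻¹ = g
    rw [flipI_inv]; simp only [mul_assoc, flipI_sq, mul_one]; simp [← mul_assoc, flipI_sq]

lemma norm_upper (M : GL (Fin m) F) (r : GL (Unit ⊕ (Fin m ⊕ Fin m)) F) :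
    levI F m M * r * (levI F m M)⁻¹ ∈ OO m F ⊓ UpperI F m ↔ r ∈ OO m F ⊓ UpperI F m := by
  have key : ∀ (N : GL (Fin m) F) r, r ∈ OO m F ⊓ UpperI F m →
      levI F m N * r * (levI F m N)⁻¹ ∈ OO m F ⊓ UpperI F m := by
    intro N r hr
    obtain ⟨hr1, s, X, rfl⟩ := hr
    exact ⟨(OO m F).mul_mem ((OO m F).mul_mem (levI_mem N) hr1) ((OO m F).inv_mem (levI_mem N)),
      _, _, levI_conj_upU N s X⟩
  refine ⟨fun h => ?_, key M r⟩
  have := key M⁻¹ _ h
  simpa [map_inv, mul_assoc] using this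

lemma flip_conj_mem {g : GL (Unit ⊕ (Fin m ⊕ Fin m)) F} :
    g ∈ OO m F ⊓ LowerI F m ↔ flipI F m * g * (flipI F m)⁻¹ ∈ OO m F ⊓ UpperI F m := by
  rw [Subgroup.mem_inf, Subgroup.mem_inf, mem_LowerI]
  refine and_congr_left fun _ => ⟨fun h => mul_mem (mul_mem flipI_mem h) (inv_mem flipI_mem),
    fun h => ?_⟩
  have h' := mul_mem (mul_mem (inv_mem flipI_mem) h) flipI_mem
  rwa [show (flipI F m)⁻¹ * (flipI F m * g * (flipI F m)⁻¹) * flipI F m = g by group] at h'

lemma norm_lower (M : GL (Fin m) F) (r : GL (Unit ⊕ (Fin m ⊕ Fin m)) F) :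
    levI F m M * r * (levI F m M)⁻¹ ∈ OO m F ⊓ LowerI F m ↔ r ∈ OO m F ⊓ LowerI F m := by
  rw [flip_conj_mem, flip_conj_mem, show flipI F m * (levI F m M * r * (levI F m M)⁻¹) *
    (flipI F m)⁻¹ = (flipI F m * levI F m M * (flipI F m)⁻¹) *
      (flipI F m * r * (flipI F m)⁻¹) * (flipI F m * levI F m M * (flipI F m)⁻¹)⁻¹ by group,
    flip_conj_levI]
  exact norm_upper _ _

theorem fpf_upperI {M : GL (Fin m) F} {N : ℕ} {d : Fin m → F} (hN : (M ^ N).1 = diagonal d)
    (h1 : ∀ i, d i ≠ 1) (h2 : ∀ i j, d i * d j ≠ 1) :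
    Fpf (OO m F ⊓ UpperI F m) (levI F m M) := by
  refine ⟨fun r hr => (norm_upper M r).2 hr, fun g hg e => ?_⟩
  obtain ⟨-, r, X, rfl⟩ := hg
  have hc := Commute.pow_left (show Commute (levI F m M) (upU r X) from e) N
  rw [← map_pow] at hc
  have h3 : levI F m (M ^ N) * upU r X * (levI F m (M ^ N))⁻¹ = upU r X :=
    mul_inv_eq_iff_eq_mul.2 hc.eq
  rw [levI_conj_upU] at h3
  have h4 : ∀ z x y, upMat ((M ^ N).1 *ᵥ r) ((M ^ N).1 * X * (M ^ N).1ᵀ) *ᵥ v3 z x y =
      upMat r X *ᵥ v3 z x y := fun z x y => by rw [← upU_val, h3, upU_val]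
  have hr : r = 0 := by
    funext i
    have := (v3_inj.1 ((upMat_mulVec _ _ _ _ _).symm.trans
      ((h4 0 0 (Pi.single i 1)).trans (upMat_mulVec _ _ _ _ _)))).1
    rw [hN] at this
    simp [mulVec_diagonal] at this
    rw [Pi.zero_apply]
    by_contra hne
    exact h1 i (mul_right_cancel₀ hne (this.trans (one_mul _).symm))
  have hX : X = 0 := by
    ext i j
    have := congrFun ((v3_inj.1 ((upMat_mulVec _ _ _ _ _).symm.trans
      ((h4 0 0 (Pi.single j 1)).trans (upMat_mulVec _ _ _ _ _)))).2.1) i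
    rw [hN] at this
    simp [diagonal_transpose] at this
    rw [Matrix.zero_apply]
    by_contra hne
    exact h2 i j (mul_right_cancel₀ hne (by rw [one_mul]; linear_combination this))
  rw [hr, hX, upU_zero]

theorem fpf_lowerI {M : GL (Fin m) F} {N : ℕ} {d : Fin m → F}
    (hN : ((ti M) ^ N).1 = diagonal d) (h1 : ∀ i, d i ≠ 1) (h2 : ∀ i j, d i * d j ≠ 1) :
    Fpf (OO m F ⊓ LowerI F m) (levI F m M) := by
  refine ⟨fun r hr => (norm_lower M r).2 hr, fun g hg e => ?_⟩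
  have h := (fpf_upperI hN h1 h2).fix _ (flip_conj_mem.1 hg) (by
    rw [← flip_conj_levI]
    calc flipI F m * levI F m M * (flipI F m)⁻¹ * (flipI F m * g * (flipI F m)⁻¹) =
          flipI F m * (levI F m M * g) * (flipI F m)⁻¹ := by group
      _ = flipI F m * (g * levI F m M) * (flipI F m)⁻¹ := by rw [e]
      _ = _ := by group)
  calc g = (flipI F m)⁻¹ * (flipI F m * g * (flipI F m)⁻¹) * flipI F m := by group
    _ = 1 := by rw [h]; group

/-- the class-square property of the orthogonal groups in odd dimension -/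
theorem sq_POmegaOdd [Fintype F] (h9 : 9 ≤ Fintype.card F) (hodd : Odd (Fintype.card F))
    (hm : 3 ≤ m) : SqClass (Cfsg.POmega F (Cfsg.quadFormOdd m F)) := by
  rw [← coe_matQuad_odd]
  obtain ⟨k, rfl⟩ : ∃ k, m = k + 2 := ⟨m - 2, by omega⟩
  have h2 : (2 : F) ≠ 0 := two_ne_zero_of_odd_card rfl hodd
  obtain ⟨γ, hγ, hord⟩ := exists_gen h9
  have ha : Adm γ := ⟨hγ, by simpa using hord 1 one_pos (by omega),
    fun h => hord 2 two_pos (by omega) (by
      rw [_root_.sq]; nth_rw 1 [← h]; exact inv_mul_cancel₀ hγ)⟩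
  have h4' : 4 ≤ Fintype.card F := by omega
  have h4 : 4 ≤ ENat.card F := by
    rw [ENat.card_eq_coe_fintype_card]; exact_mod_cast h4'
  obtain ⟨B, hB, hN, hfac⟩ := exists_scaled h4 ha (pow_ne_zero 2 hγ) k
  set d : Fin (k + 2) → F := fun i => γ ^ 2 * dv k γ i with hd
  have hdp := dv_pow hγ k 1 (by omega)
  rw [pow_one] at hdp
  have hd1 : ∀ i, (d i)⁻¹ ≠ 1 := fun i h => by
    rw [inv_eq_one, hd] at h
    exact hord _ (by split_ifs <;> omega) (by split_ifs <;> omega) ((hdp i).symm.trans h)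
  have hd2 : ∀ i j, (d i)⁻¹ * (d j)⁻¹ ≠ 1 := fun i j h => by
    rw [← mul_inv, inv_eq_one] at h
    simp only [hd, hdp, ← pow_add] at h
    exact hord _ (by split_ifs <;> omega) (by split_ifs <;> omega) h
  have hti : ((ti B) ^ (Fintype.card F ^ (k + 2))).1 = diagonal fun i => (d i)⁻¹ := by
    rw [← map_pow, ti_diag hN]
  have hF : GoodForm (qO (k + 2) F) := qO_good h9 h2
  have hlev : ∀ (M : GL (Fin (k + 2)) F), hF.invt (levJ (k + 2) F M) =
      (sqMk ((Matrix.isUnit_iff_isUnit_det _).1 M.isUnit).ne_zero, 1) := fun M =>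
    invt_levJ hF h4' (by omega) M _ rfl
  set l : Fin (k + 2) := ⟨k + 1, by omega⟩
  have hBdet : IsSquare B.1.det := by
    obtain ⟨hN'⟩ := model_form (F := F) (k := k) (a := γ) false
    simp only [Bool.false_eq_true, if_false] at hN'
    rw [hB, Matrix.det_smul, show (modelN k γ).det = 1 by
      rw [← LinearMap.det_toLin', ha.det_form hN'], mul_one, ← pow_mul]
    exact ⟨γ ^ Fintype.card (Fin (k + 2)), by rw [← pow_add]; congr 1; ring⟩
  have hcomm : ∀ a b : Fin (k + 2), a ≠ b → a = l ∨ b = l → B.1 a b = 0 := by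
    intro a b hab h
    have := a.isLt
    rw [hB, Matrix.smul_apply, modelN, Matrix.add_apply, Matrix.diagonal_apply, if_neg hab, shiftN,
      of_apply, if_neg (c := _ ∧ _) (by rcases h with rfl | rfl <;> simp [l] <;> omega), add_zero,
      smul_zero]
  refine hF.sq_pOmega (levJ (k + 2) F B) ?_ ?_ ?_ ?_
  · rw [hlev, (sqMk_eq_one_iff _).2 hBdet]; rfl
  · intro e he
    have hdet : (diagonal (Function.update (1 : Fin (k + 2) → F) l e)).det ≠ 0 := by
      rw [det_diagonal, Finset.prod_update_of_mem (Finset.mem_univ _)]; simpa using he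
    set D := Matrix.GeneralLinearGroup.mkOfDetNeZero _ hdet
    refine ⟨levJ (k + 2) F D, ?_, invt_diagJ hF l he (D := D) rfl⟩
    rw [← map_mul, ← map_mul]
    congr 1
    refine Units.ext ?_
    show diagonal (Function.update (1 : Fin (k + 2) → F) l e) * B.1 =
      B.1 * diagonal (Function.update (1 : Fin (k + 2) → F) l e)
    ext a b
    rw [diagonal_mul, mul_diagonal]
    rcases eq_or_ne a b with rfl | hab
    · ring
    · by_cases h1 : a = l
      · rw [hcomm a b hab (Or.inl h1)]; ring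
      · by_cases h2 : b = l
        · rw [hcomm a b hab (Or.inr h2)]; ring
        · rw [Function.update_of_ne h1, Function.update_of_ne h2]; simp
  · obtain ⟨s, c, hs, hsv⟩ := exists_refl_z hF
    refine ⟨s, c, Subtype.ext (gl3 fun z x y => ?_), hs⟩
    show (s.1 * levI F (k + 2) B).1 *ᵥ _ = (levI F (k + 2) B * s.1).1 *ᵥ _
    rw [Units.val_mul, Units.val_mul, ← mulVec_mulVec, ← mulVec_mulVec, levI_mulVec, hsv, hsv,
      levI_mulVec]
  · intro g hg hg'
    obtain ⟨x, r, T, r', X, M, hT, hX, hM, hM', e⟩ :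
        ∃ (x : OO (k + 2) F) (r : Fin (k + 2) → F) (T : Matrix (Fin (k + 2)) (Fin (k + 2)) F)
          (r' : Fin (k + 2) → F) (X : Matrix (Fin (k + 2)) (Fin (k + 2)) F)
          (M : GL (Fin (k + 2)) F), IsA false (T + vecMulVec r r) ∧
          IsA false (X + vecMulVec r' r') ∧ M.1.det = 1 ∧ (M = 1 ∨ ¬ ∃ l : F, M.1 = l • 1) ∧
          x.1 * g.1 * x.1⁻¹ = loU r T * levI F (k + 2) M * upU r' X := by
      rcases hg' with rfl | ⟨hg1, hg2⟩
      · refine ⟨1, 0, 0, 0, 0, 1, ?_, ?_, by simp, Or.inl rfl, ?_⟩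
        · simpa using isA_zero
        · simpa using isA_zero
        · simp [loU, upU_zero]
      · obtain ⟨x, r, T, r', X, M, hT, hX, hM, hM', e⟩ :=
          exists_bigI hF hm h4' h2 hg hg1 hg2
        exact ⟨x, r, T, r', X, M, hT, hX, hM, Or.inr hM', e⟩
    obtain ⟨S, S', -, -, rfl⟩ := hfac M hM hM'
    have hv : loU r T ∈ OO (k + 2) F ⊓ LowerI F (k + 2) :=
      ⟨loU_mem hT, Subgroup.mem_map_of_mem _ (⟨r, T, rfl⟩ : upU r T ∈ UpperI F (k + 2))⟩
    have hw : upU r' X ∈ OO (k + 2) F ⊓ UpperI F (k + 2) := ⟨upU_mem hX, r', X, rfl⟩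
    obtain ⟨a, ha', b, hb', eab⟩ := cover_levi (levI F (k + 2)) inf_le_left inf_le_left levI_mem
      norm_lower norm_upper flipI_mem (flip_conj_levI B) (fpf_lowerI hti hd1 hd2)
      (fpf_upperI hti hd1 hd2) x.2 hv hw e
    exact ⟨⟨a, ha'⟩, ⟨b, hb'⟩, Subtype.ext eab⟩

end CfsgLib.Thompson
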