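import Cfsg.Agent.Lib.StSL.Rel
import Cfsg.Agent.Lib.KnownB.Sourour.Unipotent

/-!
Regular unipotent elements of `SL_n`: a criterion, conjugacy, and products of two of them.
-/

set_option autoImplicit false

namespace CfsgLib.Thompson

open Matrix Module CfsgLib.KnownB.Sourour CfsgLib.StSL

variable {K : Type*} [Field K] {n : ℕ}

local notation "SLn" => Matrix.SpecialLinearGroup (Fin n) K

lemma cm (g g' : SLn) : (g * g').1 = g.1 * g'.1 := rfl

lemma co : (1 : SLn).1 = 1 := rfl

lemma sl_eq {g g' : SLn} (h : g.1 = g'.1) : g = g' :=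
  Matrix.SpecialLinearGroup.ext _ _ fun i j => congrFun (congrFun h i) j

/-- the bundled matrix of determinant one -/
def mkSL (A : Matrix (Fin n) (Fin n) K) (h : A.det = 1) : SLn := ⟨A, h⟩

lemma mkSL_val (A : Matrix (Fin n) (Fin n) K) (h : A.det = 1) : (mkSL A h).1 = A := rfl

/-- regular unipotent -/
def Reg (M : SLn) : Prop :=
  (M.1 - 1) ^ n = 0 ∧ (M.1 - 1) ^ (n - 1) ≠ 0

lemma Reg.form {M : SLn} (hn : 0 < n) (h : Reg M) :
    Nonempty (HasForm (Matrix.toLin' M.1) n (Fin.elim0 : Fin 0 → K)) := by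
  have e : ∀ i, (Matrix.toLin' M.1 - 1) ^ i = Matrix.toLin' ((M.1 - 1) ^ i) := fun i => by
    rw [Matrix.toLin'_pow, map_sub, Matrix.toLin'_one]; rfl
  obtain ⟨v, hv⟩ : ∃ v, Matrix.toLin' ((M.1 - 1) ^ (n - 1)) v ≠ 0 := by
    by_contra hh
    push Not at hh
    exact h.2 (Matrix.toLin'.injective (by rw [map_zero]; exact LinearMap.ext hh))
  exact ⟨{ v := v, w := Fin.elim0, top := by rw [e, h.1, map_zero]; rfl,
           pred := fun _ => by rw [e]; exact hv, eig := fun j => j.elim0, ne := fun j => j.elim0,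
           dim := by simp }⟩

lemma Reg.inv {M : SLn} (h : Reg M) : Reg M⁻¹ := by
  have h1 : M.1 * (M⁻¹).1 = 1 := by
    rw [← cm, mul_inv_cancel, co]
  have h2 : (M⁻¹).1 * M.1 = 1 := by
    rw [← cm, inv_mul_cancel, co]
  have hc : Commute (-(M⁻¹).1) (M.1 - 1) :=
    ((show Commute (M⁻¹).1 M.1 from h2.trans h1.symm).neg_left).sub_right (Commute.one_right _)
  have e : ∀ i, ((M⁻¹).1 - 1) ^ i = (-(M⁻¹).1) ^ i * (M.1 - 1) ^ i := fun i => by
    rw [← hc.mul_pow, mul_sub, neg_mul, h2, mul_one, neg_sub_neg]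
  refine ⟨by rw [e, h.1, mul_zero], fun h0 => h.2 ?_⟩
  rw [e] at h0
  have hcc : Commute (-M.1) (-(M⁻¹).1) :=
    (show Commute M.1 (M⁻¹).1 from h1.trans h2.symm).neg_left.neg_right
  have h3 := congrArg ((-M.1) ^ (n - 1) * ·) h0
  simp only [← mul_assoc, ← hcc.mul_pow, neg_mul_neg, h1, one_pow, one_mul, mul_zero] at h3
  exact h3

/-- lower unitriangular with nonzero subdiagonal -/
lemma pow_lower {N : Matrix (Fin n) (Fin n) K} (h : ∀ i j : Fin n, i.val ≤ j.val → N i j = 0) :
    ∀ k, (∀ i j : Fin n, i.val < j.val + k → (N ^ k) i j = 0) ∧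
      ((∀ i j : Fin n, i.val = j.val + 1 → N i j ≠ 0) →
        ∀ i j : Fin n, i.val = j.val + k → (N ^ k) i j ≠ 0) := by
  intro k
  induction k with
  | zero =>
    refine ⟨fun i j hij => ?_, fun _ i j hij => ?_⟩
    · rw [pow_zero, Matrix.one_apply_ne (fun e => by subst e; omega)]
    · rw [pow_zero, show i = j from Fin.ext (by omega), Matrix.one_apply_eq]; exact one_ne_zero
  | succ k ih =>
    refine ⟨fun i j hij => ?_, fun hs i j hij => ?_⟩
    · rw [pow_succ, Matrix.mul_apply]
      refine Finset.sum_eq_zero fun l _ => ?_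
      by_cases hl : l.val ≤ j.val
      · rw [h l j hl, mul_zero]
      · rw [ih.1 i l (by omega), zero_mul]
    · rw [pow_succ, Matrix.mul_apply]
      let l₀ : Fin n := ⟨j.val + 1, by omega⟩
      rw [Finset.sum_eq_single l₀]
      · exact mul_ne_zero (ih.2 hs i l₀ (by simp [l₀]; omega)) (hs l₀ j rfl)
      · intro l _ hl
        by_cases hlj : l.val ≤ j.val
        · rw [h l j hlj, mul_zero]
        · have : l.val ≠ j.val + 1 := fun e => hl (Fin.ext e)
          rw [ih.1 i l (by omega), zero_mul]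
      · simp

/-- lower (`b = false`) or upper (`b = true`) unitriangular -/
def IsTri (b : Bool) (M : Matrix (Fin n) (Fin n) K) : Prop :=
  ∀ i j : Fin n, (if b then j.val ≤ i.val else i.val ≤ j.val) → M i j = if i = j then 1 else 0

lemma reg_lower {M : SLn} (hn : 0 < n) (h : IsTri false M.1)
    (hs : ∀ i j : Fin n, i.val = j.val + 1 → M.1 i j ≠ 0) : Reg M := by
  have hN : ∀ i j : Fin n, i.val ≤ j.val → (M.1 - 1) i j = 0 := fun i j hij => by
    rw [Matrix.sub_apply, h i j (by simpa using hij), Matrix.one_apply, sub_self]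
  obtain ⟨h1, -⟩ := pow_lower hN n
  refine ⟨Matrix.ext fun i j => h1 i j (by omega), fun h0 => ?_⟩
  refine (pow_lower hN (n - 1)).2 (fun i j hij => ?_) ⟨n - 1, by omega⟩ ⟨0, hn⟩ (by simp) (by rw [h0]; rfl)
  rw [Matrix.sub_apply, Matrix.one_apply_ne (fun e => by subst e; omega), sub_zero]
  exact hs i j hij

lemma reg_upper {M : SLn} (hn : 0 < n) (h : IsTri true M.1)
    (hs : ∀ i j : Fin n, j.val = i.val + 1 → M.1 i j ≠ 0) : Reg M := by
  have := reg_lower (M := M.transpose) hn
    (fun i j hij => by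
      show M.1 j i = _
      rw [h j i (by simpa using hij)]
      simp only [eq_comm (a := i) (b := j)])
    (fun i j hij => hs j i hij)
  obtain ⟨h1, h2⟩ := this
  have e : ∀ k, ((M.transpose).1 - 1) ^ k = ((M.1 - 1) ^ k)ᵀ := fun k => by
    rw [Matrix.transpose_pow, Matrix.transpose_sub, Matrix.transpose_one]; rfl
  rw [e] at h1 h2
  exact ⟨by simpa using congrArg Matrix.transpose h1, fun h0 => h2 (by rw [h0, Matrix.transpose_zero])⟩

/-- conjugation by `diag(d, 1, …, 1)` -/
noncomputable def dconj (d : Kˣ) : SLn →* SLn where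
  toFun M := ⟨Matrix.of fun i j => (if i.val = 0 then (d : K) else 1) * M.1 i j *
      (if j.val = 0 then ((d⁻¹ : Kˣ) : K) else 1), by
    have : (Matrix.of fun i j => (if i.val = 0 then (d : K) else 1) * M.1 i j *
        (if j.val = 0 then ((d⁻¹ : Kˣ) : K) else 1)) =
        Matrix.diagonal (fun i : Fin n => if i.val = 0 then (d : K) else 1) * M.1 *
          Matrix.diagonal (fun i : Fin n => if i.val = 0 then ((d⁻¹ : Kˣ) : K) else 1) := by
      ext i j; simp [Matrix.mul_diagonal, Matrix.diagonal_mul]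
    rw [this, Matrix.det_mul, Matrix.det_mul, M.2, mul_one, Matrix.det_diagonal, Matrix.det_diagonal,
      ← Finset.prod_mul_distrib]
    exact Finset.prod_eq_one fun i _ => by split_ifs <;> simp⟩
  map_one' := by
    refine sl_eq (Matrix.ext fun i j => ?_)
    show _ * (1 : SLn).1 i j * _ = (1 : SLn).1 i j
    simp only [co, Matrix.one_apply]
    by_cases e : i = j
    · subst e; split_ifs <;> simp
    · simp [e]
  map_mul' M N := by
    refine sl_eq (Matrix.ext fun i j => ?_)
    show _ * (M * N).1 i j * _ = (_ * _ : Matrix (Fin n) (Fin n) K) i j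
    simp only [cm, Matrix.of_apply, Matrix.mul_apply, Finset.mul_sum,
      Finset.sum_mul]
    refine Finset.sum_congr rfl fun l _ => ?_
    have h1 : (if l.val = 0 then ((d⁻¹ : Kˣ) : K) else 1) * (if l.val = 0 then (d : K) else 1) = 1 := by
      split_ifs <;> simp
    linear_combination (-((if i.val = 0 then (d : K) else 1) * M.1 i l * N.1 l j *
      (if j.val = 0 then ((d⁻¹ : Kˣ) : K) else 1))) * h1

lemma dconj_apply (d : Kˣ) (M : SLn) (i j : Fin n) :
    (dconj d M).1 i j = (if i.val = 0 then (d : K) else 1) * M.1 i j *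
      (if j.val = 0 then ((d⁻¹ : Kˣ) : K) else 1) := rfl

lemma dconj_tv (d : Kˣ) {i j : Fin n} (h : i ≠ j) (t : K) :
    dconj d (tv i j t) = tv i j
      ((if i.val = 0 then (d : K) else 1) * t * (if j.val = 0 then ((d⁻¹ : Kˣ) : K) else 1)) := by
  refine sl_eq (Matrix.ext fun a b => ?_)
  rw [dconj_apply, tv_coe h, tv_coe h]
  simp only [Matrix.transvection, Matrix.add_apply, Matrix.one_apply, Matrix.single_apply]
  by_cases hab : a = b
  · subst hab
    have : ¬ (i = a ∧ j = a) := fun hh => h (hh.1.trans hh.2.symm)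
    simp only [if_true, this, if_false, add_zero, mul_one]
    split_ifs <;> simp
  · simp only [hab, if_false, zero_add]
    by_cases hij : i = a ∧ j = b
    · rw [if_pos hij, if_pos hij, hij.1, hij.2]
    · rw [if_neg hij, if_neg hij, mul_zero, zero_mul]

/-- regular unipotent elements are conjugate -/
theorem reg_conj {M X : SLn} (hn : 0 < n) (hM : Reg M) (hX : Reg X) :
    ∃ (S : SLn) (d : Kˣ), M = S * dconj d X * S⁻¹ := by
  obtain ⟨fM⟩ := hM.form hn
  obtain ⟨fX⟩ := hX.form hn
  obtain ⟨e, he⟩ := fX.conj fM (fun a => a.elim0) (fun a => a.elim0) (by omega)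
  obtain ⟨P, hP⟩ := exists_gl_conj (Matrix.SpecialLinearGroup.toGL X) (Matrix.toLin' M.1) e he
  rw [LinearMap.toMatrix'_toLin'] at hP
  let d : Kˣ := Matrix.GeneralLinearGroup.det P
  let S₀ : Matrix (Fin n) (Fin n) K :=
    P.1 * Matrix.diagonal (fun i : Fin n => if i.val = 0 then ((d⁻¹ : Kˣ) : K) else 1)
  have hS₀ : S₀.det = 1 := by
    rw [Matrix.det_mul, Matrix.det_diagonal, Finset.prod_eq_single ⟨0, hn⟩]
    · simp only [if_true, d]; rw [← Matrix.GeneralLinearGroup.val_det_apply, Units.mul_inv]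
    · intro b _ hb
      rw [if_neg fun e => hb (Fin.ext e)]
    · simp
  refine ⟨mkSL S₀ hS₀, d, ?_⟩
  rw [eq_mul_inv_iff_mul_eq]
  refine sl_eq ?_
  simp only [cm]
  have hD : (dconj d X).1 = Matrix.diagonal (fun i : Fin n => if i.val = 0 then (d : K) else 1) * X.1 *
      Matrix.diagonal (fun i : Fin n => if i.val = 0 then ((d⁻¹ : Kˣ) : K) else 1) := by
    ext i j; simp [dconj_apply, Matrix.mul_diagonal, Matrix.diagonal_mul]
  have hdd : Matrix.diagonal (fun i : Fin n => if i.val = 0 then ((d⁻¹ : Kˣ) : K) else 1) *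
      Matrix.diagonal (fun i : Fin n => if i.val = 0 then (d : K) else 1) = 1 := by
    rw [Matrix.diagonal_mul_diagonal, ← Matrix.diagonal_one]
    congr 1
    funext i
    split_ifs <;> simp
  have hPX : M.1 * P.1 = P.1 * X.1 := by
    rw [hP]
    simp [mul_assoc]
  show M.1 * S₀ = S₀ * (dconj d X).1
  simp only [S₀, hD]
  rw [← mul_assoc M.1, hPX]
  simp only [mul_assoc]
  congr 1
  rw [← mul_assoc (Matrix.diagonal _) (Matrix.diagonal _), hdd, one_mul]

/-- the matrices generated by elementary transvections on one side of the diagonal -/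
def triSub (b : Bool) : Subgroup SLn :=
  Subgroup.closure {M | ∃ i j : Fin n, (if b then i.val < j.val else j.val < i.val) ∧ ∃ t, M = tv i j t}

lemma isTri_one (b : Bool) : IsTri b (1 : Matrix (Fin n) (Fin n) K) :=
  fun _ _ _ => Matrix.one_apply

lemma IsTri.mul {b : Bool} {M N : Matrix (Fin n) (Fin n) K} (hM : IsTri b M) (hN : IsTri b N) :
    IsTri b (M * N) := by
  intro i j hij
  rw [Matrix.mul_apply, Finset.sum_eq_single i]
  · rw [hM i i (by cases b <;> simp), if_pos rfl, one_mul, hN i j hij]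
  · intro l _ hl
    by_cases h1 : (if b then l.val ≤ i.val else i.val ≤ l.val)
    · rw [hM i l h1, if_neg (Ne.symm hl), zero_mul]
    · have h2 : if b then j.val ≤ l.val else l.val ≤ j.val := by
        cases b <;> simp at h1 hij ⊢ <;> omega
      have hlj : l ≠ j := fun e => h1 (e ▸ hij)
      rw [hN l j h2, if_neg hlj, mul_zero]
  · simp

lemma isTri_tv {b : Bool} {i j : Fin n} (h : if b then i.val < j.val else j.val < i.val) (t : K) :
    IsTri b (tv i j t).1 := by
  have hne : i ≠ j := fun e => by subst e; cases b <;> simp at h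
  intro a c hac
  rw [tv_coe hne, Matrix.transvection, Matrix.add_apply, Matrix.one_apply, Matrix.single_apply,
    if_neg (c := i = a ∧ j = c) (fun hh => by
      rw [← hh.1, ← hh.2] at hac; cases b <;> simp at h hac <;> omega), add_zero]

lemma triSub_isTri (b : Bool) {M : SLn} (hM : M ∈ triSub b) : IsTri b M.1 := by
  suffices IsTri b M.1 ∧ IsTri b (M⁻¹).1 from this.1
  induction hM using Subgroup.closure_induction with
  | mem x hx =>
    obtain ⟨i, j, h, t, rfl⟩ := hx
    have hne : i ≠ j := fun e => by subst e; cases b <;> simp at h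
    rw [rel_tv.inv hne t]
    exact ⟨isTri_tv h t, isTri_tv h _⟩
  | one => exact ⟨isTri_one b, by rw [inv_one]; exact isTri_one b⟩
  | mul x y _ _ hx hy =>
    exact ⟨by rw [cm]; exact hx.1.mul hy.1,
      by rw [_root_.mul_inv_rev, cm]; exact hy.2.mul hx.2⟩
  | inv x _ hx => exact ⟨hx.2, by rw [inv_inv]; exact hx.1⟩

/-- the entry next to the diagonal is additive -/
lemma IsTri.mul_adj {b : Bool} {M N : Matrix (Fin n) (Fin n) K} (hM : IsTri b M) (hN : IsTri b N)
    {i j : Fin n} (h : if b then j.val = i.val + 1 else i.val = j.val + 1) :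
    (M * N) i j = M i j + N i j := by
  have hij : i ≠ j := fun e => by subst e; cases b <;> simp at h
  rw [Matrix.mul_apply, ← Finset.sum_erase_add _ _ (Finset.mem_univ j),
    ← Finset.sum_erase_add _ _ (Finset.mem_erase.2 ⟨hij, Finset.mem_univ i⟩),
    Finset.sum_eq_zero (fun l hl => ?_), zero_add, hM i i (by cases b <;> simp), if_pos rfl, one_mul,
    hN j j (by cases b <;> simp), if_pos rfl, mul_one, add_comm]
  obtain ⟨h1, h2, -⟩ : l ≠ i ∧ l ≠ j ∧ l ∈ Finset.univ := by simpa using hl
  have h1' : l.val ≠ i.val := fun e => h1 (Fin.ext e)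
  have h2' : l.val ≠ j.val := fun e => h2 (Fin.ext e)
  by_cases h3 : (if b then l.val ≤ i.val else i.val ≤ l.val)
  · rw [hM i l h3, if_neg (Ne.symm h1), zero_mul]
  · have h4 : if b then j.val ≤ l.val else l.val ≤ j.val := by
      cases b <;> simp at h3 h ⊢ <;> omega
    rw [hN l j h4, if_neg h2, mul_zero]

/-- every product of a lower and an upper unitriangular matrix is a product of two regular unipotent
ones -/
theorem exists_two_reg (h4 : 4 ≤ ENat.card K) (hn : 3 ≤ n) {L U : SLn}
    (hL : L ∈ triSub false) (hU : U ∈ triSub true) :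
    ∃ M N : SLn, Reg M ∧ Reg N ∧ L * U = M * N := by
  let Jm : Matrix (Fin n) (Fin n) K :=
    Matrix.of fun i j => if i = j then 1 else if j.val = i.val + 1 then 1 else 0
  have hJ : ∀ i j : Fin n, Jm i j = if i = j then 1 else if j.val = i.val + 1 then 1 else 0 :=
    fun _ _ => rfl
  have hJd : Jm.det = 1 := by
    rw [Matrix.det_of_isUpperTriangular]
    · simp [Jm]
    · intro i j hij
      simp only [id] at hij
      have : j.val < i.val := hij
      simp only [Jm, Matrix.of_apply, if_neg (fun e : i = j => by subst e; omega),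
        if_neg (show ¬ j.val = i.val + 1 by omega)]
  let J : SLn := mkSL Jm hJd
  have hJr : Reg J := reg_upper (by omega)
    (fun i j hij => by
      simp only [if_true] at hij
      show Jm i j = _
      rw [hJ]
      by_cases e : i = j
      · simp [e]
      · rw [if_neg e, if_neg (by omega), if_neg e])
    (fun i j hij => by
      show Jm i j ≠ 0
      rw [hJ, if_neg (fun e : i = j => by subst e; omega), if_pos hij]; exact one_ne_zero)
  by_cases hsc : ∃ a : K, Matrix.toLin' (L * U).1 = a • (1 : Module.End K (Fin n → K))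
  · obtain ⟨a, ha⟩ := hsc
    have ha' : (L * U).1 = a • (1 : Matrix (Fin n) (Fin n) K) :=
      Matrix.toLin'.injective (by rw [ha, map_smul, Matrix.toLin'_one]; rfl)
    have hl := triSub_isTri _ hL
    have hu := triSub_isTri _ hU
    let z : Fin n := ⟨0, by omega⟩
    have h00 : (L * U).1 z z = 1 := by
      rw [cm, Matrix.mul_apply, Finset.sum_eq_single z]
      · rw [hl z z (by simp), hu z z (by simp), if_pos rfl, one_mul]
      · intro l _ hlz
        rw [hl z l (by simp [z]), if_neg (Ne.symm hlz), zero_mul]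
      · simp
    have ha1 : a = 1 := by rw [ha'] at h00; simpa using h00
    have : L * U = 1 := sl_eq (by rw [ha', ha1, one_smul, co])
    exact ⟨J, J⁻¹, hJr, hJr.inv, by rw [this, mul_inv_cancel]⟩
  · obtain ⟨L', U', hLU, ⟨hL'⟩, ⟨hU'⟩⟩ := exists_unipotent_factors h4 (by omega : 2 ≤ n) Jm hJ
      (Matrix.toLin' (J⁻¹).1)
      (by rw [Module.End.mul_eq_comp, ← Matrix.toLin'_mul]
          show Matrix.toLin' (J.1 * (J⁻¹).1) = _
          rw [← cm, mul_inv_cancel, co,
            Matrix.toLin'_one]; rfl)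
      (by rw [Module.End.mul_eq_comp, ← Matrix.toLin'_mul]
          show Matrix.toLin' ((J⁻¹).1 * J.1) = _
          rw [← cm, inv_mul_cancel, co,
            Matrix.toLin'_one]; rfl)
      (Matrix.toLin' (L * U).1) (by rw [LinearMap.det_toLin']; exact (L * U).2) hsc
    obtain ⟨fJ⟩ := hJr.form (by omega)
    have mk : ∀ T : Module.End K (Fin n → K), HasForm T n (Fin.elim0 : Fin 0 → K) →
        ∃ M : SLn, Reg M ∧ M.1 = LinearMap.toMatrix' T := by
      intro T hT
      obtain ⟨e, he⟩ := fJ.conj hT (fun a => a.elim0) (fun a => a.elim0) (by omega)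
      obtain ⟨P, hP⟩ := exists_gl_conj (Matrix.SpecialLinearGroup.toGL J) T e he
      have hdet : (LinearMap.toMatrix' T).det = 1 := by
        rw [hP, Units.val_mul, Units.val_mul, Matrix.det_units_conj]
        exact J.2
      refine ⟨mkSL (LinearMap.toMatrix' T) hdet, ?_, rfl⟩
      have hpow : ∀ k, (LinearMap.toMatrix' T - 1) ^ k =
          P.1 * (J.1 - 1) ^ k * (P⁻¹).1 := fun k => by
        rw [← Units.conj_pow, hP]
        congr 1
        simp [mul_sub, sub_mul, mul_assoc]
      show (LinearMap.toMatrix' T - 1) ^ n = 0 ∧ (LinearMap.toMatrix' T - 1) ^ (n - 1) ≠ 0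
      rw [hpow, hpow]
      refine ⟨by rw [hJr.1, mul_zero, zero_mul], fun h0 => hJr.2 ?_⟩
      have := congrArg (fun Z => (P⁻¹).1 * Z * P.1) h0
      simpa [mul_assoc] using this
    obtain ⟨M, hM, eM⟩ := mk L' hL'
    obtain ⟨N, hN, eN⟩ := mk U' hU'
    refine ⟨M, N, hM, hN, sl_eq ?_⟩
    rw [cm M N, eM, eN, ← LinearMap.toMatrix'_mul, ← hLU,
      LinearMap.toMatrix'_toLin']

end CfsgLib.Thompson
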