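import Cfsg.Agent.Lib.KnownB.Thompson.BigCell
import Cfsg.Agent.Lib.KnownB.Thompson.SLRegular
import Cfsg.Agent.Lib.StSL.Enum
import Cfsg.Agent.Lib.Chev.Deg

/-!
A Levi subgroup whose components are images of special linear groups.
-/

set_option autoImplicit false

namespace CfsgLib.Thompson

open Cfsg.Lie Matrix CfsgLib.Chev
open scoped commutatorElement

/-- tables describing the Levi subgroup, a torus element and a flipping word -/
structure EData where
  comps : List (List ℕ)
  lam : List ℤ
  mu : List (List ℤ)
  l : List ℤ
  w0 : List ℕ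

namespace EData

variable (E : EData) (D : ChevalleyDatum) (A : Aux)

/-- number of components -/
def m : ℕ := E.comps.length

/-- the nodes of a component, in path order -/
def comp (k : ℕ) : List ℕ := E.comps.getD k []

/-- degree of the special linear group of a component -/
def deg (k : ℕ) : ℕ := (E.comp k).length + 1

/-- the grading -/
noncomputable def lv (r : ℕ) : ℤ := lev D A (fun j => E.l.getD j 0) r

/-- the coefficient at a node of the root `e_i - e_j` -/
def vec (k i j a : ℕ) : ℤ :=
  if i < j then ((((E.comp k).drop i).take (j - i)).count a : ℤ)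
  else -((((E.comp k).drop j).take (i - j)).count a : ℤ)

/-- the root `e_i - e_j` -/
noncomputable def rho (k i j : ℕ) : ℕ :=
  ((List.range D.nroots).find? fun r =>
    (List.range D.rank).all fun a => decide (A.a r a = E.vec k i j a)).getD D.nroots

/-- a structure constant -/
noncomputable def cst (r s : ℕ) : ℤ := ((A.terms r s).headD (0, 0, 0, 0)).2.1

/-- signs for ascending chains -/
noncomputable def epsUp (k : ℕ) : ℕ → ℕ → ℤ
  | 0, _ => 1
  | 1, _ => 1
  | d + 2, i => cst A (E.rho D A k i (i + 1)) (E.rho D A k (i + 1) (i + d + 2)) * epsUp k (d + 1) (i + 1)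

/-- signs for descending chains -/
noncomputable def epsDn (k : ℕ) : ℕ → ℕ → ℤ
  | 0, _ => 1
  | 1, _ => 1
  | d + 2, i => cst A (E.rho D A k (i + d + 2) (i + 1)) (E.rho D A k (i + 1) i) * epsDn k (d + 1) (i + 1)

/-- the sign of the root element `e_{ij}` -/
noncomputable def eps (k i j : ℕ) : ℤ :=
  if i < j then E.epsUp D A k (j - i) i else E.epsDn D A k (i - j) j

/-- two roots spanning no root -/
noncomputable def sepCheck (r s : ℕ) : Bool :=
  decide (s ≠ r ∧ s ≠ A.neg r ∧ A.terms r s = [])

/-- the grading agrees with the torus exponents and is small -/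
noncomputable def levCheck : Bool :=
  (List.range D.nroots).all fun r =>
    decide ((((List.range D.rank).map fun i => E.lam.getD i 0 * A.cart i r).sum) = E.lv D A r ∧
      (E.lv D A r).natAbs ≤ 7 ∧
      (((List.range D.rank).all fun a => decide (0 ≤ A.a r a)) = true → 0 ≤ E.lv D A r))

/-- the roots of a component -/
noncomputable def compCheck : Bool :=
  (List.range E.m).all fun k => decide (3 ≤ E.deg k) &&
    (List.range (E.deg k)).all fun i => (List.range (E.deg k)).all fun j => decide (i = j) ||
      (decide (E.rho D A k i j < D.nroots ∧ E.lv D A (E.rho D A k i j) = 0 ∧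
          (E.eps D A k i j = 1 ∨ E.eps D A k i j = -1)) &&
        decide (((List.range D.rank).all fun a => decide (0 ≤ A.a (E.rho D A k i j) a)) = true ↔ i < j))

/-- the Steinberg relations inside a component -/
noncomputable def relCheck : Bool :=
  (List.range E.m).all fun k =>
    (List.range (E.deg k)).all fun i => (List.range (E.deg k)).all fun j =>
      (List.range (E.deg k)).all fun a => (List.range (E.deg k)).all fun b =>
        decide (i = j) || decide (a = b) ||
          ((decide (i = b ∨ j = a ∨ (i = a ∧ j = b)) ||
              sepCheck A (E.rho D A k i j) (E.rho D A k a b)) &&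
           (decide (j ≠ a ∨ i = b) ||
              (decide (E.rho D A k a b ≠ E.rho D A k i j ∧ E.rho D A k a b ≠ A.neg (E.rho D A k i j)) &&
               decide (A.terms (E.rho D A k i j) (E.rho D A k a b) =
                 [(E.rho D A k i b, E.eps D A k i b * E.eps D A k i j * E.eps D A k a b, 1, 1)]))))

/-- different components commute -/
noncomputable def crossCheck : Bool :=
  (List.range E.m).all fun k => (List.range E.m).all fun k' => decide (k = k') ||
    (List.range (E.deg k)).all fun i => (List.range (E.deg k)).all fun j => decide (i = j) ||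
      (List.range (E.deg k')).all fun a => (List.range (E.deg k')).all fun b => decide (a = b) ||
        sepCheck A (E.rho D A k i j) (E.rho D A k' a b)

/-- the torus elements acting as diagonal matrices -/
noncomputable def muCheck : Bool :=
  (List.range E.m).all fun k => (List.range E.m).all fun k' =>
    (List.range (E.deg k')).all fun i => (List.range (E.deg k')).all fun j => decide (i = j) ||
      decide ((((List.range D.rank).map fun a => (E.mu.getD k []).getD a 0 *
          A.cart a (E.rho D A k' i j)).sum) =
        if k = k' then (if i = 0 then (1 : ℤ) else 0) - (if j = 0 then (1 : ℤ) else 0) else 0)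

/-- the components exhaust the roots of grade zero -/
noncomputable def coverCheck : Bool :=
  (List.range D.nroots).all fun r => decide (E.lv D A r ≠ 0) ||
    (List.range E.m).any fun k => (List.range (E.deg k)).any fun i => (List.range (E.deg k)).any fun j =>
      decide (i ≠ j ∧ E.rho D A k i j = r)

/-- the flipping word -/
noncomputable def flipCheck : Bool :=
  E.w0.all (fun i => decide (i < D.rank)) &&
  ((List.range D.nroots).all fun r => decide (E.lv D A (wf A E.w0 r) = - E.lv D A r)) &&
  ((List.range E.m).all fun k => (List.range (E.comp k).length).all fun i =>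
    (List.range E.m).any fun k' => (List.range (E.comp k').length).any fun i' =>
      decide (wf A E.w0 (E.rho D A k i (i + 1)) = E.rho D A k' (i' + 1) i')) &&
  ((List.range E.m).all fun k' => (List.range (E.comp k').length).all fun i' =>
    (List.range E.m).any fun k => (List.range (E.comp k).length).any fun i =>
      decide (wf A E.w0 (E.rho D A k i (i + 1)) = E.rho D A k' (i' + 1) i')) &&
  ((List.range E.m).all fun k => (List.range (E.comp k).length).all fun i =>
    (List.range E.m).all fun k' => (List.range (E.comp k').length).all fun i' =>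
      decide (k = k' ∧ i = i' ∨ E.rho D A k (i + 1) i ≠ E.rho D A k' (i' + 1) i'))

/-- all checks -/
structure OK : Prop where
  levc : E.levCheck D A = true
  compc : E.compCheck D A = true
  relc : E.relCheck D A = true
  crossc : E.crossCheck D A = true
  muc : E.muCheck D A = true
  coverc : E.coverCheck D A = true
  flipc : E.flipCheck D A = true

variable {E D A}

lemma OK.lev_spec (ok : E.OK D A) {r : ℕ} (hr : r < D.nroots) :
    (∑ i : Fin D.rank, E.lam.getD i.val 0 * A.cart i.val r) = E.lv D A r ∧
      (E.lv D A r).natAbs ≤ 7 := by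
  have h := ok.levc
  simp only [levCheck, List.all_eq_true, List.mem_range, decide_eq_true_eq] at h
  refine ⟨?_, (h r hr).2.1⟩
  rw [← (h r hr).1, ← Finset.sum_range fun i => E.lam.getD i 0 * A.cart i r]
  rfl

lemma OK.lev_pos (ok : E.OK D A) (g : Good D A) {r : ℕ} (hr : D.IsPosRoot r) :
    0 ≤ E.lv D A r := by
  have h := ok.levc
  simp only [levCheck, List.all_eq_true, List.mem_range, decide_eq_true_eq] at h
  exact (h r hr.1).2.2 fun a _ => (g.pos_iff r hr.1).1 hr a

lemma OK.three_le (ok : E.OK D A) (k : Fin E.m) : 3 ≤ E.deg k := by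
  have h := ok.compc
  simp only [compCheck, List.all_eq_true, List.mem_range, Bool.and_eq_true, decide_eq_true_eq] at h
  exact (h k k.isLt).1

lemma OK.root_spec (ok : E.OK D A) (g : Good D A) (k : Fin E.m) {i j : ℕ} (hi : i < E.deg k)
    (hj : j < E.deg k) (hij : i ≠ j) :
    E.rho D A k i j < D.nroots ∧ E.lv D A (E.rho D A k i j) = 0 ∧
      (E.eps D A k i j = 1 ∨ E.eps D A k i j = -1) ∧
      (D.IsPosRoot (E.rho D A k i j) ↔ i < j) := by
  have h := ok.compc
  simp only [compCheck, List.all_eq_true, List.mem_range, Bool.and_eq_true, decide_eq_true_eq,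
    Bool.or_eq_true] at h
  obtain ⟨⟨h1, h2, h3⟩, h4⟩ := ((h k k.isLt).2 i hi j hj).resolve_left hij
  refine ⟨h1, h2, h3, ?_⟩
  rw [← h4, g.pos_iff _ h1]
  refine ⟨fun hh a _ => hh a, fun hh a => ?_⟩
  by_cases ha : a < D.rank
  · exact hh a ha
  · rw [g.a_zero _ h1 a (not_lt.1 ha)]

lemma OK.cover (ok : E.OK D A) {r : ℕ} (hr : r < D.nroots) (h0 : E.lv D A r = 0) :
    ∃ (k : Fin E.m) (i j : Fin (E.deg k)), i ≠ j ∧ E.rho D A k i j = r := by
  have h := ok.coverc
  simp only [coverCheck, List.all_eq_true, List.mem_range, Bool.or_eq_true, decide_eq_true_eq,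
    List.any_eq_true] at h
  obtain ⟨k, hk, i, hi, j, hj, hne, e⟩ := (h r hr).resolve_left (fun hh => hh h0)
  exact ⟨⟨k, hk⟩, ⟨i, hi⟩, ⟨j, hj⟩, fun e' => hne (congrArg Fin.val e'), e⟩

variable {F : Type*} [Field F]

/-- root elements of roots spanning no root commute -/
lemma commute_of_sep (h : Std D A) {r s : ℕ} (hr : r < D.nroots) (hs : s < D.nroots)
    (hsep : sepCheck A r s = true) (t u : F) : Commute (xG h.good r t) (xG h.good s u) := by
  simp only [sepCheck, decide_eq_true_eq] at hsep
  refine (Units.ext ?_ : xG h.good r t * xG h.good s u = xG h.good s u * xG h.good r t)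
  have e := commF_all h hr hs hsep.1 hsep.2.1 t u
  simp only [tword, hsep.2.2, List.map_nil, wordMat_nil, mul_one] at e
  simp only [Units.val_mul, xG_val, e]

variable (F) in
/-- the root element `e_{ij}` -/
noncomputable def el (g : Good D A) (E : EData) (k : ℕ) (i j : Fin (E.deg k)) (t : F) : GL D.Idx F :=
  xG g (E.rho D A k i j) ((E.eps D A k i j : F) * t)

lemma OK.rel (ok : E.OK D A) (h : Std D A) (k : Fin E.m) :
    CfsgLib.StSL.Rel (el F h.good E k) where
  add {i j} _ t u := by rw [el, el, el, xG_add, mul_add]
  comm {i j a b} hij hab hib hja t u := by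
    have g := h.good
    by_cases hsame : i = a ∧ j = b
    · obtain ⟨rfl, rfl⟩ := hsame
      show el F g E k i j t * el F g E k i j u = el F g E k i j u * el F g E k i j t
      simp only [el]; rw [xG_add, xG_add, add_comm]
    refine commute_of_sep h (ok.root_spec g k i.isLt j.isLt (Fin.val_ne_of_ne hij)).1
      (ok.root_spec g k a.isLt b.isLt (Fin.val_ne_of_ne hab)).1 ?_ _ _
    have hc := ok.relc
    simp only [relCheck, List.all_eq_true, List.mem_range, Bool.or_eq_true, Bool.and_eq_true,
      decide_eq_true_eq] at hc
    rcases hc k k.isLt i i.isLt j j.isLt a a.isLt b b.isLt with (e | e) | ⟨e, -⟩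
    · exact absurd (Fin.ext e) hij
    · exact absurd (Fin.ext e) hab
    · rcases e with (e | e | ⟨e, e'⟩) | e
      · exact absurd (Fin.ext e) hib
      · exact absurd (Fin.ext e) hja
      · exact absurd ⟨Fin.ext e, Fin.ext e'⟩ hsame
      · exact e
  prod {i j b} hij hjb hib t u := by
    have g := h.good
    have h1 := (ok.root_spec g k i.isLt j.isLt (Fin.val_ne_of_ne hij)).1
    have h2 := (ok.root_spec g k j.isLt b.isLt (Fin.val_ne_of_ne hjb)).1
    have h3 := (ok.root_spec g k i.isLt b.isLt (Fin.val_ne_of_ne hib)).1
    have hc := ok.relc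
    simp only [relCheck, List.all_eq_true, List.mem_range, Bool.or_eq_true, Bool.and_eq_true,
      decide_eq_true_eq] at hc
    obtain ⟨⟨hne1, hne2⟩, hterms⟩ : (E.rho D A k j b ≠ E.rho D A k i j ∧
        E.rho D A k j b ≠ A.neg (E.rho D A k i j)) ∧ A.terms (E.rho D A k i j) (E.rho D A k j b) =
        [(E.rho D A k i b, E.eps D A k i b * E.eps D A k i j * E.eps D A k j b, 1, 1)] := by
      rcases hc k k.isLt i i.isLt j j.isLt j j.isLt b b.isLt with (e | e) | ⟨-, e⟩
      · exact absurd (Fin.ext e) hij
      · exact absurd (Fin.ext e) hjb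
      · rcases e with (e | e) | e
        · exact absurd rfl e
        · exact absurd (Fin.ext e) hib
        · exact e
    have hcq : sepCheck A (E.rho D A k j b) (E.rho D A k i b) = true := by
      rcases hc k k.isLt j j.isLt b b.isLt i i.isLt b b.isLt with (e | e) | ⟨e, -⟩
      · exact absurd (Fin.ext e) hjb
      · exact absurd (Fin.ext e) hib
      · rcases e with (e | e | ⟨e, -⟩) | e
        · exact absurd (Fin.ext e) hjb
        · exact absurd (Fin.ext e).symm hib
        · exact absurd (Fin.ext e).symm hij
        · exact e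
    set r := E.rho D A k i j
    set s := E.rho D A k j b
    set q := E.rho D A k i b
    set a' : F := (E.eps D A k i j : F) * t
    set b' : F := (E.eps D A k j b : F) * u
    set N : ℤ := E.eps D A k i b * E.eps D A k i j * E.eps D A k j b
    have e : xG g s b' * xG g r (-a') = xG g r (-a') * xG g s b' * xG g q ((N : F) * a' * b') := by
      apply Units.ext
      have := commF_all h h1 h2 hne1 hne2 (-a') b'
      simp only [tword, hterms, List.map_cons, List.map_nil, wordMat_cons, wordMat_nil, mul_one,
        neg_neg, pow_one] at this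
      simpa only [Units.val_mul, xG_val] using this
    have hcm := commute_of_sep h h2 h3 hcq (-b') ((N : F) * a' * b')
    show ⁅el F g E k i j t, el F g E k j b u⁆ = el F g E k i b (t * u)
    have he : (N : F) * a' * b' = (E.eps D A k i b : F) * (t * u) := by
      have s1 : (E.eps D A k i j : F) * E.eps D A k i j = 1 := by
        rcases (ok.root_spec g k i.isLt j.isLt (Fin.val_ne_of_ne hij)).2.2.1 with h' | h' <;> simp [h']
      have s2 : (E.eps D A k j b : F) * E.eps D A k j b = 1 := by
        rcases (ok.root_spec g k j.isLt b.isLt (Fin.val_ne_of_ne hjb)).2.2.1 with h' | h' <;> simp [h']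
      calc (N : F) * a' * b' = (E.eps D A k i b : F) * ((E.eps D A k i j : F) * E.eps D A k i j) *
          ((E.eps D A k j b : F) * E.eps D A k j b) * (t * u) := by simp only [N, a', b']; push_cast; ring
        _ = _ := by rw [s1, s2]; ring
    simp only [el]
    rw [← he, commutatorElement_def, xG_inv, xG_inv]
    calc xG g r a' * xG g s b' * xG g r (-a') * xG g s (-b')
        = xG g r a' * (xG g s b' * xG g r (-a')) * xG g s (-b') := by simp only [mul_assoc]
      _ = (xG g r a' * xG g r (-a')) * xG g s b' *
            (xG g q ((N : F) * a' * b') * xG g s (-b')) := by rw [e]; simp only [mul_assoc]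
      _ = _ := by
        rw [xG_add, add_neg_cancel, xG_zero, one_mul, ← hcm.eq, ← mul_assoc, xG_add, add_neg_cancel,
          xG_zero, one_mul]

variable [Finite F]

/-- the homomorphism from a special linear group -/
noncomputable def phi (h : Std D A) (ok : E.OK D A) (k : Fin E.m) :
    Matrix.SpecialLinearGroup (Fin (E.deg k)) F →* GL D.Idx F :=
  Classical.choose (CfsgLib.StSL.exists_hom (ok.three_le k) (ok.rel (F := F) h k))

lemma phi_tv (h : Std D A) (ok : E.OK D A) (k : Fin E.m) {i j : Fin (E.deg k)} (hij : i ≠ j) (t : F) :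
    phi h ok k (CfsgLib.StSL.tv i j t) = el F h.good E k i j t :=
  Classical.choose_spec (CfsgLib.StSL.exists_hom (ok.three_le k) (ok.rel (F := F) h k)) i j hij t

/-- induction along elementary transvections -/
lemma phi_mem (h : Std D A) (ok : E.OK D A) (k : Fin E.m) {H : Subgroup (GL D.Idx F)}
    (hH : ∀ i j : Fin (E.deg k), i ≠ j → ∀ t, el F h.good E k i j t ∈ H)
    (M : Matrix.SpecialLinearGroup (Fin (E.deg k)) F) : phi h ok k M ∈ H := by
  have : Nontrivial (Fin (E.deg k)) := Fin.nontrivial_iff_two_le.2 (by have := ok.three_le k; omega)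
  exact CfsgLib.StSL.sl_induction (P := fun M => phi h ok k M ∈ H)
    (fun i j hij t => by rw [phi_tv h ok k hij]; exact hH i j hij t)
    (fun a b ha hb => by rw [map_mul]; exact mul_mem ha hb) M

lemma phi_commute (h : Std D A) (ok : E.OK D A) {k k' : Fin E.m} (hk : k ≠ k')
    (M : Matrix.SpecialLinearGroup (Fin (E.deg k)) F)
    (N : Matrix.SpecialLinearGroup (Fin (E.deg k')) F) :
    Commute (phi h ok k M) (phi h ok k' N) := by
  have g := h.good
  have step : ∀ (i j : Fin (E.deg k)), i ≠ j → ∀ t, phi h ok k' N ∈
      Subgroup.centralizer {el F g E k i j t} := by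
    intro i j hij t
    refine phi_mem h ok k' (fun a b hab u => ?_) N
    rw [Subgroup.mem_centralizer_singleton_iff]
    refine (commute_of_sep h (ok.root_spec g k i.isLt j.isLt (Fin.val_ne_of_ne hij)).1
      (ok.root_spec g k' a.isLt b.isLt (Fin.val_ne_of_ne hab)).1 ?_ _ _).symm.eq
    have hc := ok.crossc
    simp only [crossCheck, List.all_eq_true, List.mem_range, Bool.or_eq_true, decide_eq_true_eq] at hc
    exact (((((hc k k.isLt k' k'.isLt).resolve_left fun e => hk (Fin.ext e)) i i.isLt j j.isLt
      ).resolve_left (Fin.val_ne_of_ne hij)) a a.isLt b b.isLt).resolve_left (Fin.val_ne_of_ne hab)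
  have : phi h ok k M ∈ Subgroup.centralizer {phi h ok k' N} := by
    refine phi_mem h ok k (fun i j hij t => ?_) M
    rw [Subgroup.mem_centralizer_singleton_iff]
    exact (Subgroup.mem_centralizer_singleton_iff.1 (step i j hij t)).symm
  exact Subgroup.mem_centralizer_singleton_iff.1 this

variable (F) in
/-- the product of the special linear groups -/
abbrev Prod (E : EData) := ∀ k : Fin E.m, Matrix.SpecialLinearGroup (Fin (E.deg k)) F

/-- the homomorphism from the product -/
noncomputable def Phi (h : Std D A) (ok : E.OK D A) : Prod F E →* GL D.Idx F :=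
  MonoidHom.noncommPiCoprod (phi h ok) fun _ _ hk M N => phi_commute h ok hk M N

lemma Phi_single (h : Std D A) (ok : E.OK D A) (k : Fin E.m)
    (M : Matrix.SpecialLinearGroup (Fin (E.deg k)) F) :
    Phi h ok (Pi.mulSingle k M) = phi h ok k M :=
  MonoidHom.noncommPiCoprod_mulSingle (ϕ := phi h ok) k M

/-- to prove membership for the whole product it is enough to treat the generators -/
lemma Phi_mem (h : Std D A) (ok : E.OK D A) {H : Subgroup (GL D.Idx F)}
    (hH : ∀ (k : Fin E.m) (i j : Fin (E.deg k)), i ≠ j → ∀ t, el F h.good E k i j t ∈ H)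
    (Z : Prod F E) : Phi h ok Z ∈ H :=
  Subgroup.pi_mem_of_mulSingle_mem (H := H.comap (Phi h ok)) Z fun k => by
    rw [Subgroup.mem_comap, Phi_single]; exact phi_mem h ok k (hH k) _

end EData

end CfsgLib.Thompson
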