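import Cfsg.Agent.Lib.KnownB.Thompson.Gauss
import Cfsg.Agent.Lib.KnownB.Thompson.Levi
import Cfsg.Agent.Lib.Chev.Types

/-! The tables for the split exceptional types and their checks. -/

set_option autoImplicit false
set_option maxRecDepth 100000

namespace CfsgLib.Thompson

open Cfsg.Lie CfsgLib.Chev

/-- tables for G2 -/
def edG2 : EData where
  comps := []
  lam := [3, 5]
  mu := []
  l := [1, 1]
  w0 := [0, 1, 0, 1, 0, 1]

/-- colouring for G2 -/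
def colG2 (i : ℕ) : Bool := decide (i ∈ ([0] : List ℕ))

theorem diagG2 : Diag chevG2 auxG2 colG2 := ⟨by decide +kernel, by decide +kernel⟩

theorem okG2 : EData.OK edG2 chevG2 auxG2 :=
  ⟨by decide +kernel, by decide +kernel, by decide +kernel, by decide +kernel, by decide +kernel,
    by decide +kernel, by decide +kernel⟩

/-- tables for F4 -/
def edF4 : EData where
  comps := [[0, 1]]
  lam := [3, 6, 9, 5]
  mu := [[(-7), (-15), (-23), (-13)]]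
  l := [0, 0, 1, 1]
  w0 := [0, 1, 0, 2, 1, 0, 2, 1, 2, 3, 2, 1, 0, 2, 1, 2, 3, 2, 1, 0, 2, 1, 2, 3]

/-- colouring for F4 -/
def colF4 (i : ℕ) : Bool := decide (i ∈ ([0, 2] : List ℕ))

theorem diagF4 : Diag chevF4 auxF4 colF4 := ⟨by decide +kernel, by decide +kernel⟩

theorem okF4 : EData.OK edF4 chevF4 auxF4 :=
  ⟨by decide +kernel, by decide +kernel, by decide +kernel, by decide +kernel, by decide +kernel,
    by decide +kernel, by decide +kernel⟩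

/-- tables for E6 -/
def edE6 : EData where
  comps := [[2, 3, 4]]
  lam := [3, 4, 5, 7, 5, 3]
  mu := [[(-6), (-8), (-9), (-13), (-9), (-5)]]
  l := [1, 1, 0, 0, 0, 1]
  w0 := [0, 1, 2, 0, 3, 1, 2, 0, 3, 2, 4, 3, 1, 2, 0, 3, 2, 4, 3, 1, 5, 4, 3, 1, 2, 0, 3, 2, 4, 3, 1, 5, 4, 3, 2, 0]

/-- colouring for E6 -/
def colE6 (i : ℕ) : Bool := decide (i ∈ ([0, 3, 5] : List ℕ))

theorem diagE6 : Diag chevE6 auxE6 colE6 := ⟨by decide +kernel, by decide +kernel⟩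

theorem okE6 : EData.OK edE6 chevE6 auxE6 :=
  ⟨by decide +kernel, by decide +kernel, by decide +kernel, by decide +kernel, by decide +kernel,
    by decide +kernel, by decide +kernel⟩

/-- tables for E7 -/
def edE7 : EData where
  comps := [[0, 2, 3], [5, 6]]
  lam := [5, 8, 10, 15, 12, 8, 4]
  mu := [[(-13), (-22), (-27), (-41), (-33), (-22), (-11)], [(-13), (-21), (-26), (-39), (-31), (-20), (-10)]]
  l := [0, 1, 0, 0, 1, 0, 0]
  w0 := [0, 1, 2, 0, 3, 1, 2, 0, 3, 2, 4, 3, 1, 2, 0, 3, 2, 4, 3, 1, 5, 4, 3, 1, 2, 0, 3, 2, 4, 3, 1, 5, 4, 3, 2, 0, 6, 5, 4, 3, 1, 2, 0, 3, 2, 4, 3, 1, 5, 4, 3, 2, 0, 6, 5, 4, 3, 1, 2, 3, 4, 5, 6]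

/-- colouring for E7 -/
def colE7 (i : ℕ) : Bool := decide (i ∈ ([0, 3, 5] : List ℕ))

theorem diagE7 : Diag chevE7 auxE7 colE7 := ⟨by decide +kernel, by decide +kernel⟩

theorem okE7 : EData.OK edE7 chevE7 auxE7 :=
  ⟨by decide +kernel, by decide +kernel, by decide +kernel, by decide +kernel, by decide +kernel,
    by decide +kernel, by decide +kernel⟩

/-- tables for E8 -/
def edE8 : EData where
  comps := [[0, 2, 3, 4], [6, 7]]
  lam := [11, 17, 22, 33, 27, 21, 14, 7]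
  mu := [[(-29), (-46), (-59), (-89), (-73), (-57), (-38), (-19)], [(-29), (-45), (-58), (-87), (-71), (-55), (-36), (-18)]]
  l := [0, 1, 0, 0, 0, 1, 0, 0]
  w0 := [0, 1, 2, 0, 3, 1, 2, 0, 3, 2, 4, 3, 1, 2, 0, 3, 2, 4, 3, 1, 5, 4, 3, 1, 2, 0, 3, 2, 4, 3, 1, 5, 4, 3, 2, 0, 6, 5, 4, 3, 1, 2, 0, 3, 2, 4, 3, 1, 5, 4, 3, 2, 0, 6, 5, 4, 3, 1, 2, 3, 4, 5, 6, 7, 6, 5, 4, 3, 1, 2, 0, 3, 2, 4, 3, 1, 5, 4, 3, 2, 0, 6, 5, 4, 3, 1, 2, 3, 4, 5, 6, 7, 6, 5, 4, 3, 1, 2, 0, 3, 2, 4, 3, 1, 5, 4, 3, 2, 0, 6, 5, 4, 3, 1, 2, 3, 4, 5, 6, 7]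

/-- colouring for E8 -/
def colE8 (i : ℕ) : Bool := decide (i ∈ ([0, 3, 5, 7] : List ℕ))

theorem diagE8 : Diag chevE8 auxE8 colE8 := ⟨by decide +kernel, by decide +kernel⟩

theorem okE8 : EData.OK edE8 chevE8 auxE8 :=
  ⟨by decide +kernel, by decide +kernel, by decide +kernel, by decide +kernel, by decide +kernel,
    by decide +kernel, by decide +kernel⟩

end CfsgLib.Thompson
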