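import Cfsg.Agent.Lib.KnownB.Thompson.Exc
import Cfsg.Agent.Lib.KnownB.Thompson.ExcData

/-!
The class-square property for the five split exceptional families.
-/

set_option autoImplicit false

namespace CfsgLib.Thompson

open Cfsg.Lie CfsgLib.Chev

universe u

/-- some class squares to the whole group -/
def SqClass (G : Type*) [Group G] : Prop :=
  ∃ c : G, ∀ g : G, ∃ x y : G, g = (x * c * x⁻¹) * (y * c * y⁻¹)

theorem SqClass.of_surj {G H : Type*} [Group G] [Group H] (f : G →* H) (hf : Function.Surjective f)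
    (h : SqClass G) : SqClass H := by
  obtain ⟨c, hc⟩ := h
  refine ⟨f c, fun g => ?_⟩
  obtain ⟨g, rfl⟩ := hf g
  obtain ⟨x, y, e⟩ := hc g
  exact ⟨f x, f y, by rw [e]; simp only [map_mul, map_inv]⟩

theorem SqClass.of_subgroup {G : Type*} [Group G] {H : Subgroup G}
    (h : ∃ z ∈ H, ∀ y ∈ H, ∃ u ∈ H, ∃ v ∈ H, y = (u * z * u⁻¹) * (v * z * v⁻¹)) : SqClass H := by
  obtain ⟨z, hz, hc⟩ := h
  refine ⟨⟨z, hz⟩, fun y => ?_⟩
  obtain ⟨u, hu, v, hv, e⟩ := hc y.1 y.2
  exact ⟨⟨u, hu⟩, ⟨v, hv⟩, Subtype.ext e⟩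

variable (F : Type u) [Field F] [Fintype F]

theorem sq_G2 (hq : 9 ≤ Fintype.card F) : SqClass ↥(chevG2.group F) :=
  SqClass.of_subgroup (EData.exists_square_class stdG2 okG2 diagG2 hq)

theorem sq_F4 (hq : 9 ≤ Fintype.card F) : SqClass ↥(chevF4.group F) :=
  SqClass.of_subgroup (EData.exists_square_class stdF4 okF4 diagF4 hq)

theorem sq_E6 (hq : 9 ≤ Fintype.card F) : SqClass ↥(chevE6.group F) :=
  SqClass.of_subgroup (EData.exists_square_class stdE6 okE6 diagE6 hq)

theorem sq_E7 (hq : 9 ≤ Fintype.card F) : SqClass ↥(chevE7.group F) :=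
  SqClass.of_subgroup (EData.exists_square_class stdE7 okE7 diagE7 hq)

theorem sq_E8 (hq : 9 ≤ Fintype.card F) : SqClass ↥(chevE8.group F) :=
  SqClass.of_subgroup (EData.exists_square_class stdE8 okE8 diagE8 hq)

end CfsgLib.Thompson
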