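import Cfsg.Agent.Lib.Geometry.OmegaMem
import Cfsg.Agent.Lib.KnownB.Thompson.ExcGroups
import Cfsg.Agent.Lib.KnownB.Sourour.Final

/-!
Spinor norm and Dickson invariant on isometry matrices; conjugacy in `O` upgraded to `Ω`.
-/

set_option autoImplicit false

namespace CfsgLib.Thompson

open Matrix QuadraticMap CfsgLib.Geometry CfsgLib.KnownB.Sourour

variable {F : Type*} [Field F] {ι : Type} [Fintype ι] [DecidableEq ι]

/-- standing hypotheses on a quadratic form -/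
structure GoodForm (Q : QuadraticForm F (ι → F)) : Prop where
  nondeg : (polarBilin Q).Nondegenerate
  refl_gen : reflGroup Q = orth Q

lemma GoodForm.of_matQuad [Fintype F] (h9 : 9 ≤ Fintype.card F) {M : Matrix ι ι F}
    (h : (M + Mᵀ).det ≠ 0) : GoodForm (matQuad M) :=
  ⟨nondegenerate_matQuad h, reflGroup_eq_orth (nondegenerate_matQuad h)
    (Or.inr ((finite_field_two_or F).resolve_left (by omega)))⟩

variable {Q : QuadraticForm F (ι → F)} (hF : GoodForm Q)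


/-- spinor norm and Dickson invariant -/
noncomputable def GoodForm.invt : (Cfsg.isometryGroup F ⇑Q) →* CfsgLib.Geometry.SqClass F × Multiplicative (ZMod 2) :=
  (orthInvariant hF.nondeg hF.refl_gen).comp (isomEquiv Q).toMonoidHom

lemma GoodForm.invt_apply (g : (Cfsg.isometryGroup F ⇑Q)) :
    hF.invt g = orthInvariant hF.nondeg hF.refl_gen (isomEquiv Q g) := rfl

lemma GoodForm.mem_Omega [Finite F] (g : (Cfsg.isometryGroup F ⇑Q)) : g ∈ Cfsg.Omega F ⇑Q ↔ hF.invt g = 1 :=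
  mem_Omega_iff_invariant hF.nondeg hF.refl_gen g

/-- a reflection as a matrix -/
lemma GoodForm.exists_refl {a : ι → F} (ha : Q a ≠ 0) :
    ∃ s : (Cfsg.isometryGroup F ⇑Q), hF.invt s = (sqMk ha, Multiplicative.ofAdd 1) ∧
      ∀ v, s.1.1 *ᵥ v = v - ((Q a)⁻¹ * polar Q v a) • a := by
  refine ⟨(isomEquiv Q).symm (oRefl Q a ha), ?_, fun v => ?_⟩
  · rw [hF.invt_apply, MulEquiv.apply_symm_apply, orthInvariant_oRefl]
  · rw [isomEquiv_symm_mulVec]
    exact refl_apply Q a ha v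

/-- a scaled hyperbolic pair as a matrix -/
lemma GoodForm.exists_scale [Finite F] {e f : ι → F} (he : Q e = 0) (hf : Q f = 0)
    (hef : polar Q e f = 1) {d : F} (hd : d ≠ 0) :
    ∃ s : (Cfsg.isometryGroup F ⇑Q), hF.invt s = (sqMk hd, 1) ∧
      ∀ x, s.1.1 *ᵥ x = x + ((d - 1) * polar Q x f) • e + ((d⁻¹ - 1) * polar Q x e) • f := by
  obtain ⟨g, hg, hgx⟩ := exists_pair_scale hF.nondeg hF.refl_gen he hf hef hd
  refine ⟨(isomEquiv Q).symm g, ?_, fun v => ?_⟩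
  · rw [hF.invt_apply, MulEquiv.apply_symm_apply, hg]
  · rw [isomEquiv_symm_mulVec]
    exact hgx v

lemma GoodForm.invt_commutator (a b : (Cfsg.isometryGroup F ⇑Q)) : hF.invt (a * b * a⁻¹ * b⁻¹) = 1 := by
  simp only [map_mul, map_inv, mul_comm (hF.invt a) (hF.invt b), mul_inv_cancel_right,
    mul_inv_cancel]

lemma GoodForm.invt_conj (a b : (Cfsg.isometryGroup F ⇑Q)) : hF.invt (a * b * a⁻¹) = hF.invt b := by
  simp only [map_mul, map_inv, mul_comm (hF.invt a) (hF.invt b), mul_inv_cancel_right]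

lemma GoodForm.invt_eq_of (u v : (Cfsg.isometryGroup F ⇑Q)) (h : u.1.1 = v.1.1) : hF.invt u = hF.invt v := by
  rw [show u = v from Subtype.ext (Units.ext h)]

/-- special linear images have trivial invariants -/
lemma GoodForm.invt_of_sl [Fintype F] (h4 : 4 ≤ Fintype.card F) {n : ℕ} (hn : 2 ≤ n)
    (f : GL (Fin n) F →* (Cfsg.isometryGroup F ⇑Q)) {M : GL (Fin n) F} (hM : M.1.det = 1) : hF.invt (f M) = 1 := by
  obtain ⟨a, b, e⟩ := commutator_big h4 hn (⟨M.1, hM⟩ : Matrix.SpecialLinearGroup (Fin n) F)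
  have e' : M = Matrix.SpecialLinearGroup.toGL a * Matrix.SpecialLinearGroup.toGL b *
      (Matrix.SpecialLinearGroup.toGL a)⁻¹ * (Matrix.SpecialLinearGroup.toGL b)⁻¹ := by
    rw [← map_inv, ← map_inv, ← map_mul, ← map_mul, ← map_mul, ← e]
    exact Units.ext rfl
  rw [show f M = f (Matrix.SpecialLinearGroup.toGL a) * f (Matrix.SpecialLinearGroup.toGL b) *
    (f (Matrix.SpecialLinearGroup.toGL a))⁻¹ * (f (Matrix.SpecialLinearGroup.toGL b))⁻¹ by
      rw [e']; simp only [map_mul f, map_inv f]]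
  exact hF.invt_commutator _ _

variable [Finite F]

/-- the class-square property for the simple orthogonal group -/
theorem GoodForm.sq_pOmega (h : (Cfsg.isometryGroup F ⇑Q)) (hh : hF.invt h = 1)
    (hs : ∀ (d : F) (hd : d ≠ 0), ∃ z : (Cfsg.isometryGroup F ⇑Q), z * h = h * z ∧ hF.invt z = (sqMk hd, 1))
    (hr : ∃ z : (Cfsg.isometryGroup F ⇑Q), ∃ c : CfsgLib.Geometry.SqClass F, z * h = h * z ∧ hF.invt z = (c, Multiplicative.ofAdd 1))
    (hfac : ∀ g : (Cfsg.isometryGroup F ⇑Q), hF.invt g = 1 → (g = 1 ∨ (g.1.1 ≠ 1 ∧ g.1.1 ≠ -1)) →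
      ∃ x z : (Cfsg.isometryGroup F ⇑Q), g = (x * h * x⁻¹) * (z * h * z⁻¹)) :
    SqClass (Cfsg.POmega F ⇑Q) := by
  let C : Subgroup (Cfsg.isometryGroup F ⇑Q) := Subgroup.centralizer {h}
  have hC : C.map hF.invt = ⊤ := by
    obtain ⟨z, c, hz, hzc⟩ := hr
    refine orth_invariant_cover (c := c) (fun s => ?_)
      ⟨z, Subgroup.mem_centralizer_singleton_iff.2 hz, hzc⟩
    obtain ⟨u, rfl⟩ := sqHom_surjective s
    obtain ⟨z, hz, hzc⟩ := hs u.1 u.ne_zero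
    refine ⟨z, Subgroup.mem_centralizer_singleton_iff.2 hz, hzc.trans ?_⟩
    rw [sqMk, Units.mk0_val]
  have key : ∀ x : (Cfsg.isometryGroup F ⇑Q), ∃ y, y ∈ Cfsg.Omega F ⇑Q ∧ x * h * x⁻¹ = y * h * y⁻¹ := by
    intro x
    obtain ⟨z, hz, hzx⟩ : (hF.invt x)⁻¹ ∈ C.map hF.invt := hC ▸ Subgroup.mem_top _
    refine ⟨x * z, (hF.mem_Omega _).2 (by rw [map_mul, hzx, mul_inv_cancel]), ?_⟩
    have hz' := Subgroup.mem_centralizer_singleton_iff.1 hz
    calc x * h * x⁻¹ = x * (h * z) * z⁻¹ * x⁻¹ := by group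
      _ = x * z * h * (x * z)⁻¹ := by rw [← hz']; group
  refine ⟨QuotientGroup.mk ⟨h, (hF.mem_Omega h).2 hh⟩, fun q => ?_⟩
  obtain ⟨g, rfl⟩ := QuotientGroup.mk_surjective q
  obtain ⟨g', e, hg'⟩ : ∃ g' : Cfsg.Omega F ⇑Q,
      (QuotientGroup.mk g' : Cfsg.POmega F ⇑Q) = QuotientGroup.mk g ∧
      (g'.1 = 1 ∨ (g'.1.1.1 ≠ 1 ∧ g'.1.1.1 ≠ -1)) := by
    by_cases h' : g.1.1.1 ≠ 1 ∧ g.1.1.1 ≠ -1
    · exact ⟨g, rfl, Or.inr h'⟩
    refine ⟨1, ?_, Or.inl rfl⟩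
    rw [QuotientGroup.mk_one, eq_comm, QuotientGroup.eq_one_iff, Subgroup.mem_center_iff]
    intro y
    refine Subtype.ext (Subtype.ext (Units.ext ?_))
    show y.1.1.1 * g.1.1.1 = g.1.1.1 * y.1.1.1
    rw [not_and_or, not_not, not_not] at h'
    rcases h' with h' | h' <;> rw [h'] <;> simp
  obtain ⟨x, z, exz⟩ := hfac g'.1 ((hF.mem_Omega _).1 g'.2) hg'
  obtain ⟨x', hx', ex⟩ := key x
  obtain ⟨z', hz', ez⟩ := key z
  refine ⟨QuotientGroup.mk ⟨x', hx'⟩, QuotientGroup.mk ⟨z', hz'⟩, ?_⟩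
  rw [← e, show g' = (⟨x', hx'⟩ * ⟨h, (hF.mem_Omega h).2 hh⟩ * (⟨x', hx'⟩)⁻¹) *
    (⟨z', hz'⟩ * ⟨h, (hF.mem_Omega h).2 hh⟩ * (⟨z', hz'⟩)⁻¹) from
      Subtype.ext (by rw [exz, ex, ez]; rfl)]
  rfl

omit [Finite F] in
/-- a quadratic form vanishing everywhere has an alternating matrix -/
lemma alt_of_quad {n : Type*} [Fintype n] [DecidableEq n] {X : Matrix n n F}
    (h : ∀ u, u ⬝ᵥ (X *ᵥ u) = 0) : (∀ i, X i i = 0) ∧ Xᵀ = -X := by
  have hd : ∀ i, X i i = 0 := fun i => by simpa using h (Pi.single i 1)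
  refine ⟨hd, ?_⟩
  ext i j
  have := h (Pi.single i 1 + Pi.single j 1)
  simp [mulVec_add, dotProduct_add, add_dotProduct, hd] at this
  rw [transpose_apply, Matrix.neg_apply]
  linear_combination this

end CfsgLib.Thompson
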