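import Cfsg.Agent.Lib.KnownB.Thompson.TwoBlock
import Cfsg.Agent.Lib.KnownB.Thompson.Orth

/-!
The split even-dimensional quadratic form in Siegel coordinates.
-/

set_option autoImplicit false

namespace CfsgLib.Thompson

open Matrix QuadraticMap CfsgLib.Geometry

variable {F : Type*} [Field F] {m : ℕ}

/-- the split form -/
noncomputable abbrev qP (m : ℕ) (F : Type*) [Field F] : QuadraticForm F (Fin m ⊕ Fin m → F) :=
  matQuad (plusMat m F)

lemma qP_elim (a b : Fin m → F) : qP m F (Sum.elim a b) = a ⬝ᵥ b := by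
  simp [qP, matQuad_apply, plusMat, fromBlocks_mulVec, dotProduct, Fintype.sum_sum_type]

lemma dot_mm {n p r : Type*} [Fintype n] [Fintype p] [Fintype r] (A : Matrix n p F) (C : Matrix n r F)
    (u : p → F) (w : r → F) : (A *ᵥ u) ⬝ᵥ (C *ᵥ w) = u ⬝ᵥ ((Aᵀ * C) *ᵥ w) := by
  rw [← mulVec_mulVec, dotProduct_mulVec u, vecMul_transpose]

lemma qP_blocks (A B C D : Matrix (Fin m) (Fin m) F) (u w : Fin m → F) :
    qP m F (fromBlocks A B C D *ᵥ Sum.elim u w) =
      u ⬝ᵥ ((Aᵀ * C) *ᵥ u) + w ⬝ᵥ ((Bᵀ * D) *ᵥ w) + u ⬝ᵥ ((Aᵀ * D + Cᵀ * B) *ᵥ w) := by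
  rw [fromBlocks_mulVec, qP_elim, Sum.elim_comp_inl, Sum.elim_comp_inr]
  simp only [add_dotProduct, dotProduct_add, add_mulVec]
  rw [dot_mm A C, dot_mm A D, dot_mm B D, dotProduct_comm (B *ᵥ w) (C *ᵥ u), dot_mm C B]
  ring

lemma eq_of_bilin {n p : Type*} [Fintype n] [Fintype p] [DecidableEq n] [DecidableEq p]
    {X Y : Matrix n p F} (h : ∀ u w, u ⬝ᵥ (X *ᵥ w) = u ⬝ᵥ (Y *ᵥ w)) : X = Y := by
  ext i j
  simpa using h (Pi.single i 1) (Pi.single j 1)

theorem Spec.plus : Spec false (Cfsg.isometryGroup F ⇑(qP m F)) := by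
  intro g
  obtain ⟨A, B, C, D, e⟩ : ∃ A B C D, g.1 = fromBlocks A B C D :=
    ⟨_, _, _, _, (fromBlocks_toBlocks g.1).symm⟩
  have hg : g ∈ Cfsg.isometryGroup F ⇑(qP m F) ↔ ∀ v, qP m F (g.1 *ᵥ v) = qP m F v :=
    ⟨fun h v => h v v, fun h u _ => h u⟩
  rw [hg, e, cond_blocks]
  simp only [eps, Bool.false_eq_true, if_false, one_smul]
  constructor
  · intro h
    have h' : ∀ u w, u ⬝ᵥ ((Aᵀ * C) *ᵥ u) + w ⬝ᵥ ((Bᵀ * D) *ᵥ w) +
        u ⬝ᵥ ((Aᵀ * D + Cᵀ * B) *ᵥ w) = u ⬝ᵥ w := fun u w => by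
      rw [← qP_blocks, h, qP_elim]
    have h1 : ∀ u, u ⬝ᵥ ((Aᵀ * C) *ᵥ u) = 0 := fun u => by simpa using h' u 0
    have h2 : ∀ w, w ⬝ᵥ ((Bᵀ * D) *ᵥ w) = 0 := fun w => by simpa using h' 0 w
    obtain ⟨d1, t1⟩ := alt_of_quad h1
    obtain ⟨d2, t2⟩ := alt_of_quad h2
    refine ⟨⟨t1, fun _ => d1⟩, ⟨t2, fun _ => d2⟩, eq_of_bilin fun u w => ?_⟩
    rw [one_mulVec, ← h' u w, h1, h2, zero_add, zero_add]
  · rintro ⟨h1, h2, h3⟩ v
    rw [← Sum.elim_comp_inl_inr v, qP_blocks, h1.dot_self, h2.dot_self, h3, one_mulVec, qP_elim,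
      zero_add, zero_add]

lemma qP_single_inl (j : Fin m) : qP m F (Pi.single (Sum.inl j) 1) = 0 := by
  simp [qP, matQuad_apply, plusMat, fromBlocks]

lemma qP_single_inr (j : Fin m) : qP m F (Pi.single (Sum.inr j) 1) = 0 := by
  simp [qP, matQuad_apply, plusMat, fromBlocks]

lemma polar_inl (x : Fin m ⊕ Fin m → F) (j : Fin m) :
    polar (qP m F) x (Pi.single (Sum.inl j) 1) = x (Sum.inr j) := by
  simp [qP, polar_matQuad, plusMat, fromBlocks_transpose, fromBlocks_add, dotProduct,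
    Fintype.sum_sum_type, Matrix.one_apply]

lemma polar_inr (x : Fin m ⊕ Fin m → F) (j : Fin m) :
    polar (qP m F) x (Pi.single (Sum.inr j) 1) = x (Sum.inl j) := by
  simp [qP, polar_matQuad, plusMat, fromBlocks_transpose, fromBlocks_add, dotProduct,
    Fintype.sum_sum_type, Matrix.one_apply]

lemma qP_good [Fintype F] (h9 : 9 ≤ Fintype.card F) : GoodForm (qP m F) :=
  GoodForm.of_matQuad h9 (by rw [det_plus_gram]; exact pow_ne_zero _ (neg_ne_zero.2 one_ne_zero))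

variable (hF : GoodForm (qP m F))

include hF in
/-- the exchange of a hyperbolic pair -/
lemma exists_swap (j : Fin m) : ∃ (s : Cfsg.isometryGroup F ⇑(qP m F))
    (c : CfsgLib.Geometry.SqClass F), hF.invt s = (c, Multiplicative.ofAdd 1) ∧
      s.1.1 = (1 : Matrix (Fin m ⊕ Fin m) (Fin m ⊕ Fin m) F).submatrix (swapFun m j) id := by
  set a : Fin m ⊕ Fin m → F := Pi.single (Sum.inl j) 1 - Pi.single (Sum.inr j) 1 with ha
  have hp : ∀ x, polar (qP m F) x a = x (Sum.inr j) - x (Sum.inl j) := fun x => by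
    rw [ha, polar_sub_right, polar_inl, polar_inr]
  have hQa : qP m F a = -1 := by
    rw [← Sum.elim_comp_inl_inr a, qP_elim]
    have e1 : a ∘ Sum.inl = Pi.single j 1 := by
      funext i; simp [ha, Pi.single_apply]
    have e2 : a ∘ Sum.inr = -Pi.single j 1 := by
      funext i; simp [ha, Pi.single_apply]
    simp [e1, e2]
  obtain ⟨s, hs, hsv⟩ := hF.exists_refl (a := a) (by rw [hQa]; exact neg_ne_zero.2 one_ne_zero)
  refine ⟨s, _, hs, Matrix.ext_iff_mulVec.2 fun v => ?_⟩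
  rw [hsv, hp, hQa]
  funext x
  rw [Matrix.mulVec, dotProduct]
  simp only [submatrix_apply, id_eq, one_apply, ite_mul, one_mul, zero_mul, Finset.sum_ite_eq,
    Finset.mem_univ, if_true]
  rcases x with x | x <;> by_cases hx : x = j
  · subst hx; simp [ha, swapFun]
  · simp [ha, swapFun, Pi.single_apply, hx, Equiv.swap_apply_of_ne_of_ne]
  · subst hx; simp [ha, swapFun]
  · simp [ha, swapFun, Pi.single_apply, hx, Equiv.swap_apply_of_ne_of_ne]

variable [Fintype F]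

/-- Levi elements as isometries -/
noncomputable def levO (m : ℕ) (F : Type*) [Field F] :
    GL (Fin m) F →* Cfsg.isometryGroup F ⇑(qP m F) :=
  (levH F m).codRestrict _ Spec.plus.levH_mem

lemma levO_val (M : GL (Fin m) F) : (levO m F M).1 = levH F m M := rfl

include hF in
/-- the invariant of a diagonal element -/
lemma invt_diag (j : Fin m) {d : F} (hd : d ≠ 0) {D : GL (Fin m) F}
    (hD : D.1 = diagonal (Function.update 1 j d)) : hF.invt (levO m F D) = (sqMk hd, 1) := by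
  obtain ⟨s, hs, hsv⟩ := hF.exists_scale (qP_single_inl j) (qP_single_inr j)
    (by rw [polar_inr]; simp) hd
  rw [← hs]
  refine hF.invt_eq_of _ _ (Matrix.ext_iff_mulVec.2 fun x => ?_)
  rw [hsv, levO_val, levH_val, ti_diag hD, hD, fromBlocks_diagonal, polar_inl, polar_inr]
  funext a
  rw [mulVec_diagonal]
  rcases a with a | a <;> by_cases ha : a = j
  · subst ha; simp; ring
  · simp [Function.update_of_ne ha, Pi.single_apply, ha]
  · subst ha; simp; ring
  · simp [Function.update_of_ne ha, Pi.single_apply, ha]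

include hF in
/-- the invariant of a Levi element -/
lemma invt_lev (h4 : 4 ≤ Fintype.card F) (hm : 2 ≤ m) (M : GL (Fin m) F) {d : F} (hd : d ≠ 0)
    (e : M.1.det = d) : hF.invt (levO m F M) = (sqMk hd, 1) := by
  set j : Fin m := ⟨0, by omega⟩
  have hdet : (diagonal (Function.update (1 : Fin m → F) j d)).det = d := by
    rw [det_diagonal, Finset.prod_update_of_mem (Finset.mem_univ _)]; simp
  set D := Matrix.GeneralLinearGroup.mkOfDetNeZero _ (hdet.trans_ne hd) with hDdef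
  have hD : D.1 = diagonal (Function.update (1 : Fin m → F) j d) := rfl
  have h1 : (M * D⁻¹).1.det = 1 := by
    have h2 : (M * D⁻¹).1.det * D.1.det = M.1.det := by
      rw [← det_mul, ← Units.val_mul, inv_mul_cancel_right]
    rw [hD, hdet, e] at h2
    exact mul_right_cancel₀ hd (h2.trans (one_mul d).symm)
  rw [← inv_mul_cancel_right M D, map_mul, map_mul, hF.invt_of_sl h4 hm _ h1, one_mul,
    invt_diag hF j hd hD]

omit [Fintype F] in
lemma levH_conj_up (M : GL (Fin m) F) (X : Matrix (Fin m) (Fin m) F) :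
    levH F m M * upM X * (levH F m M)⁻¹ = upM (M.1 * X * M.1ᵀ) := by
  refine Units.ext ?_
  simp only [Units.val_mul, upM_val, levH_val, levH_inv_val, ti_inv_val, fromBlocks_multiply]
  simp [Matrix.mul_assoc]
  rw [ti_val, ← transpose_mul, Units.mul_inv, transpose_one]

omit [Fintype F] in
lemma levH_conj_lo (M : GL (Fin m) F) (X : Matrix (Fin m) (Fin m) F) :
    levH F m M * loM X * (levH F m M)⁻¹ = loM ((ti M).1 * X * (ti M).1ᵀ) := by
  refine Units.ext ?_
  simp only [Units.val_mul, loM_val, levH_val, levH_inv_val, fromBlocks_multiply]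
  simp [ti_val, Matrix.mul_assoc]

omit [Fintype F] in
lemma upM_mul (X Y : Matrix (Fin m) (Fin m) F) : upM X * upM Y = upM (Y + X) :=
  Units.ext (by simp [upM_val, fromBlocks_multiply])

omit [Fintype F] in
lemma loM_mul (X Y : Matrix (Fin m) (Fin m) F) : loM X * loM Y = loM (X + Y) :=
  Units.ext (by simp [loM_val, fromBlocks_multiply])

include hF in
/-- unipotent radical elements have trivial invariant -/
lemma invt_upper {γ : F} (hγ : γ ≠ 0) (hγ2 : γ * γ ≠ 1) {S : Matrix (Fin m) (Fin m) F}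
    (hS : IsA false S) :
    hF.invt ⟨upM S, Spec.plus.upM_mem.2 hS⟩ = 1 ∧ hF.invt ⟨loM S, Spec.plus.loM_mem.2 hS⟩ = 1 := by
  have hne : (diagonal fun _ : Fin m => γ).det ≠ 0 := by
    rw [det_diagonal]; exact Finset.prod_ne_zero_iff.2 fun _ _ => hγ
  set Z := Matrix.GeneralLinearGroup.mkOfDetNeZero _ hne
  have hZ : Z.1 = diagonal fun _ => γ := rfl
  have h1 : (γ * γ - 1) ≠ 0 := sub_ne_zero.2 hγ2
  have h2 : (γ⁻¹ * γ⁻¹ - 1) ≠ 0 := sub_ne_zero.2 fun h => hγ2 (inv_eq_one.1 (by rwa [mul_inv]))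
  constructor
  · set X := (γ * γ - 1)⁻¹ • S
    let b : Cfsg.isometryGroup F ⇑(qP m F) := ⟨upM X, Spec.plus.upM_mem.2 (hS.smul _)⟩
    rw [show (⟨upM S, _⟩ : Cfsg.isometryGroup F ⇑(qP m F)) =
      levO m F Z * b * (levO m F Z)⁻¹ * b⁻¹ from ?_]
    · exact hF.invt_commutator _ _
    refine Subtype.ext (eq_mul_inv_of_mul_eq ?_)
    show upM S * upM X = levH F m Z * upM X * (levH F m Z)⁻¹
    rw [levH_conj_up, upM_mul, hZ, diagonal_transpose]
    congr 1
    ext i j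
    simp only [X, Matrix.add_apply, Matrix.smul_apply, Matrix.mul_diagonal, Matrix.diagonal_mul,
      smul_eq_mul]
    rw [show γ * ((γ * γ - 1)⁻¹ * S i j) * γ =
      (γ * γ - 1 + 1) * ((γ * γ - 1)⁻¹ * S i j) by ring, add_mul, one_mul, ← mul_assoc,
      mul_inv_cancel₀ h1, one_mul]
    ring
  · set X := (γ⁻¹ * γ⁻¹ - 1)⁻¹ • S
    let b : Cfsg.isometryGroup F ⇑(qP m F) := ⟨loM X, Spec.plus.loM_mem.2 (hS.smul _)⟩
    rw [show (⟨loM S, _⟩ : Cfsg.isometryGroup F ⇑(qP m F)) =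
      levO m F Z * b * (levO m F Z)⁻¹ * b⁻¹ from ?_]
    · exact hF.invt_commutator _ _
    refine Subtype.ext (eq_mul_inv_of_mul_eq ?_)
    show loM S * loM X = levH F m Z * loM X * (levH F m Z)⁻¹
    rw [levH_conj_lo, loM_mul, ti_diag hZ, diagonal_transpose]
    congr 1
    ext i j
    simp only [X, Matrix.add_apply, Matrix.smul_apply, Matrix.mul_diagonal, Matrix.diagonal_mul,
      smul_eq_mul]
    rw [show γ⁻¹ * ((γ⁻¹ * γ⁻¹ - 1)⁻¹ * S i j) * γ⁻¹ =
      (γ⁻¹ * γ⁻¹ - 1 + 1) * ((γ⁻¹ * γ⁻¹ - 1)⁻¹ * S i j) by ring, add_mul, one_mul, ← mul_assoc,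
      mul_inv_cancel₀ h2, one_mul]

omit [Fintype F] in
/-- the inverse fixes a fixed basis vector -/
lemma fix_inv {M : GL (Fin m) F} {j : Fin m} (h : M.1 *ᵥ Pi.single j 1 = Pi.single j 1) :
    (M⁻¹).1 *ᵥ Pi.single j 1 = Pi.single j 1 := by
  conv_lhs => rw [← h]
  rw [mulVec_mulVec, Units.inv_mul, one_mulVec]

end CfsgLib.Thompson
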