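import Cfsg.Agent.Lib.KnownB.Thompson.PlusForm
import Cfsg.Agent.Lib.KnownB.Thompson.Sp

/-!
The class-square property for the split orthogonal groups in even dimension.
-/

set_option autoImplicit false

namespace CfsgLib.Thompson

open Matrix QuadraticMap CfsgLib.Geometry

variable {F : Type*} [Field F] {m : ℕ}

/-- a Levi element fixing one hyperbolic pair commutes with the exchange of this pair -/
lemma swap_comm {j : Fin m} {B : GL (Fin m) F} (hc : B.1 *ᵥ Pi.single j 1 = Pi.single j 1)
    (hr : B.1ᵀ *ᵥ Pi.single j 1 = Pi.single j 1) :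
    (1 : Matrix (Fin m ⊕ Fin m) (Fin m ⊕ Fin m) F).submatrix (swapFun m j) id * (levH F m B).1 =
      (levH F m B).1 * (1 : Matrix (Fin m ⊕ Fin m) (Fin m ⊕ Fin m) F).submatrix (swapFun m j) id := by
  have hB1 : ∀ a, B.1 a j = if a = j then 1 else 0 := fun a => by
    simpa [Pi.single_apply] using congrFun hc a
  have hB2 : ∀ a, B.1 j a = if a = j then 1 else 0 := fun a => by
    simpa [Pi.single_apply] using congrFun hr a
  have hT1 : ∀ a, (ti B).1 a j = if a = j then 1 else 0 := fun a => by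
    have h := fix_inv (M := (ti B)⁻¹) (j := j) (by rw [ti_inv_val]; exact hr)
    rw [inv_inv] at h
    simpa [Pi.single_apply] using congrFun h a
  have hT2 : ∀ a, (ti B).1 j a = if a = j then 1 else 0 := fun a => by
    have h := congrFun (fix_inv hc) a
    rw [ti_val, transpose_apply]
    simpa [Pi.single_apply] using h
  have e1 : ∀ (σ : Equiv.Perm (Fin m ⊕ Fin m)) (X : Matrix (Fin m ⊕ Fin m) (Fin m ⊕ Fin m) F),
      (1 : Matrix (Fin m ⊕ Fin m) (Fin m ⊕ Fin m) F).submatrix σ id * X = X.submatrix σ id ∧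
      X * (1 : Matrix (Fin m ⊕ Fin m) (Fin m ⊕ Fin m) F).submatrix σ id = X.submatrix id σ.symm := by
    intro σ X
    constructor <;> ext a b
    · simp [Matrix.mul_apply, Matrix.one_apply]
    · simp only [Matrix.mul_apply, Matrix.submatrix_apply, id_eq, Matrix.one_apply, mul_ite,
        mul_one, mul_zero]
      rw [Finset.sum_eq_single (σ.symm b)]
      · simp
      · intro c _ hc
        rw [if_neg fun h => hc (by rw [← h, Equiv.symm_apply_apply])]
      · simp
  unfold swapFun
  rw [(e1 _ _).1, (e1 _ _).2, Equiv.symm_swap, levH_val]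
  ext a b
  rw [submatrix_apply, submatrix_apply, id_eq, id_eq]
  rcases a with a | a <;> rcases b with b | b <;> by_cases ha : a = j <;> by_cases hb : b = j <;>
    simp [Equiv.swap_apply_def, ha, hb, hB1, hB2, hT1, hT2]

/-- the class-square property of the split orthogonal groups in even dimension -/
theorem sq_POmegaPlus [Fintype F] (h9 : 9 ≤ Fintype.card F) (hm : 4 ≤ m) :
    SqClass (Cfsg.POmega F (Cfsg.quadFormPlus m F)) := by
  rw [← coe_matQuad_plus]
  obtain ⟨k, rfl⟩ : ∃ k, m = k + 2 := ⟨m - 2, by omega⟩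
  obtain ⟨γ, hγ, hord⟩ := exists_gen h9
  have hγ2 : γ * γ ≠ 1 := by rw [← _root_.sq]; exact hord 2 two_pos (by omega)
  have ha : Adm (γ ^ 2) := ⟨pow_ne_zero 2 hγ, hord 2 two_pos (by omega), fun h =>
    hord 4 (by omega) (by omega) (by
      rw [pow_add γ 2 2]; nth_rw 1 [← h]; exact inv_mul_cancel₀ (pow_ne_zero 2 hγ))⟩
  have h4' : 4 ≤ Fintype.card F := by omega
  have h4 : 4 ≤ ENat.card F := by
    rw [ENat.card_eq_coe_fintype_card]; exact_mod_cast h4'
  obtain ⟨B, hB, hN, hfac⟩ := exists_scaled h4 ha (pow_ne_zero 2 hγ) k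
  have hF : GoodForm (qP (k + 2) F) := qP_good h9
  have hG : Spec false (Cfsg.isometryGroup F ⇑(qP (k + 2) F)) := Spec.plus
  set Γ := hF.invt.ker.map (Cfsg.isometryGroup F ⇑(qP (k + 2) F)).subtype with hΓdef
  have memΓ : ∀ {g : GL (Fin (k + 2) ⊕ Fin (k + 2)) F} (hg : g ∈ Cfsg.isometryGroup F ⇑(qP (k + 2) F)),
      g ∈ Γ ↔ hF.invt ⟨g, hg⟩ = 1 := by
    intro g hg
    exact ⟨fun ⟨x, hx, e⟩ => by subst e; exact hx, fun h => ⟨⟨g, hg⟩, h, rfl⟩⟩
  have hlev : ∀ (M : GL (Fin (k + 2)) F), hF.invt (levO (k + 2) F M) =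
      (sqMk ((Matrix.isUnit_iff_isUnit_det _).1 M.isUnit).ne_zero, 1) := fun M =>
    invt_lev hF h4' (by omega) M _ rfl
  have hΓ : SubSpec false (Cfsg.isometryGroup F ⇑(qP (k + 2) F)) Γ :=
    { le := Subgroup.map_subtype_le _
      norm := fun x hx g hg => by
        obtain ⟨g', hg', rfl⟩ := hg
        exact (memΓ (mul_mem (mul_mem hx g'.2) (inv_mem hx))).2
          ((hF.invt_conj ⟨x, hx⟩ g').trans hg')
      up := fun S hS => (memΓ (hG.upM_mem.2 hS)).2 (invt_upper hF hγ hγ2 hS).1
      lo := fun S hS => (memΓ (hG.loM_mem.2 hS)).2 (invt_upper hF hγ hγ2 hS).2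
      square := fun _ M h => by
        have h1 := (hlev M).symm.trans ((memΓ (hG.levH_mem M)).1 h)
        exact (sqMk_eq_one_iff _).1 (congrArg Prod.fst h1)
      parity := fun _ j s hs es M h => by
        obtain ⟨s', c, hs', es'⟩ := exists_swap hF j
        have h1 : hF.invt (levO (k + 2) F M * ⟨s, hs⟩) = 1 :=
          (memΓ (mul_mem (hG.levH_mem M) hs)).1 h
        rw [map_mul, hlev, hF.invt_eq_of ⟨s, hs⟩ s' (es.trans es'.symm), hs'] at h1
        exact absurd (congrArg Prod.snd h1) (by
          rw [Prod.mk_mul_mk, one_mul]; exact (by decide : (Multiplicative.ofAdd (1 : ZMod 2)) ≠ 1))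
      swap := fun _ j => by
        obtain ⟨s', c, -, es'⟩ := exists_swap hF j
        exact ⟨s'.1, s'.2, es'⟩ }
  set l : Fin (k + 2) := ⟨k + 1, by omega⟩
  have hw : ∀ i j : Fin (k + 2), (false = false → i ≠ j) →
      γ ^ 2 * dv k (γ ^ 2) i * (γ ^ 2 * dv k (γ ^ 2) j) ≠ 1 := fun i j hij => by
    rw [dv_pow hγ k 2 le_rfl, dv_pow hγ k 2 le_rfl, ← pow_add]
    have := hij rfl
    rw [Ne, Fin.ext_iff] at this
    refine hord _ ?_ ?_ <;> split_ifs <;> omega
  have hBdet : IsSquare B.1.det := by
    obtain ⟨hN'⟩ := model_form (F := F) (k := k) (a := γ ^ 2) false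
    simp only [Bool.false_eq_true, if_false] at hN'
    rw [hB, Matrix.det_smul, show (modelN k (γ ^ 2)).det = 1 by
      rw [← LinearMap.det_toLin', ha.det_form hN'], mul_one, ← pow_mul]
    exact ⟨γ ^ Fintype.card (Fin (k + 2)), by rw [← pow_add]; congr 1; ring⟩
  have hlast : γ ^ 2 * (γ ^ 2)⁻¹ = 1 := mul_inv_cancel₀ (pow_ne_zero 2 hγ)
  have hcol : B.1 *ᵥ Pi.single l 1 = Pi.single l 1 := by
    funext i
    have hi := i.isLt
    rw [mulVec_single_one, col_apply, hB, Matrix.smul_apply, modelN, Matrix.add_apply,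
      Matrix.diagonal_apply, shiftN, of_apply, Pi.single_apply, if_neg (c := _ ∧ _) (by simp [l]; omega)]
    by_cases e : i = l
    · subst e
      rw [if_pos rfl, if_pos rfl, dv, if_neg (by simp [l]), if_neg (by simp [l]), add_zero,
        smul_eq_mul, hlast]
    · rw [if_neg e, if_neg e, add_zero, smul_zero]
  have hrow : B.1ᵀ *ᵥ Pi.single l 1 = Pi.single l 1 := by
    funext i
    rw [mulVec_single_one, col_apply, transpose_apply, hB, Matrix.smul_apply, modelN,
      Matrix.add_apply, Matrix.diagonal_apply, shiftN, of_apply, Pi.single_apply,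
      if_neg (c := _ ∧ _) (by simp [l])]
    by_cases e : i = l
    · subst e
      rw [if_pos rfl, if_pos rfl, dv, if_neg (by simp [l]), if_neg (by simp [l]), add_zero,
        smul_eq_mul, hlast]
    · rw [if_neg (Ne.symm e), if_neg e, add_zero, smul_zero]
  refine hF.sq_pOmega (levO (k + 2) F B) ?_ ?_ ?_ ?_
  · rw [hlev, (sqMk_eq_one_iff _).2 hBdet]; rfl
  · intro d hd
    have hdet : (diagonal (Function.update (1 : Fin (k + 2) → F) l d)).det ≠ 0 := by
      rw [det_diagonal, Finset.prod_update_of_mem (Finset.mem_univ _)]; simpa using hd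
    set D := Matrix.GeneralLinearGroup.mkOfDetNeZero _ hdet
    refine ⟨levO (k + 2) F D, ?_, invt_diag hF l hd (D := D) rfl⟩
    rw [← map_mul, ← map_mul]
    congr 1
    refine Units.ext ?_
    show diagonal (Function.update (1 : Fin (k + 2) → F) l d) * B.1 =
      B.1 * diagonal (Function.update (1 : Fin (k + 2) → F) l d)
    ext a b
    rw [diagonal_mul, mul_diagonal]
    rcases eq_or_ne a b with rfl | hab
    · ring
    · by_cases h1 : a = l
      · subst h1
        have := congrFun hrow b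
        rw [mulVec_single_one, col_apply, transpose_apply, Pi.single_apply, if_neg hab.symm] at this
        rw [this]; ring
      · by_cases h2 : b = l
        · subst h2
          have := congrFun hcol a
          rw [mulVec_single_one, col_apply, Pi.single_apply, if_neg hab] at this
          rw [this]; ring
        · rw [Function.update_of_ne h1, Function.update_of_ne h2]; simp
  · obtain ⟨s, c, hs, es⟩ := exists_swap hF l
    refine ⟨s, c, Subtype.ext (Units.ext ?_), hs⟩
    show s.1.1 * (levH F (k + 2) B).1 = (levH F (k + 2) B).1 * s.1.1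
    rw [es]
    exact swap_comm hcol hrow
  · intro g hg hg'
    obtain ⟨x, hx, z, hz, e⟩ := two_block_square hG hΓ hN hw hfac (by omega) (fun _ => by omega)
      (g := g.1) ((memΓ g.2).2 hg) (hg'.imp (fun h => congrArg Subtype.val h) id)
    exact ⟨⟨x, hx⟩, ⟨z, hz⟩, Subtype.ext e⟩

end CfsgLib.Thompson
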