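import Mathlib

/-!
Absorbing an element of a normalised subgroup into a fixed-point-free element.
-/

set_option autoImplicit false

namespace CfsgLib.Thompson

variable {G : Type*} [Group G]

/-- `h` normalises `R` and commutes with none of its non-identity elements -/
structure Fpf (R : Subgroup G) (h : G) : Prop where
  norm : ∀ r ∈ R, h * r * h⁻¹ ∈ R
  fix : ∀ r ∈ R, h * r = r * h → r = 1

/-- left multiplication by `R` stays in the conjugacy class -/
theorem Fpf.exists_left {R : Subgroup G} [Finite R] {h : G} (hf : Fpf R h) {r : G} (hr : r ∈ R) :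
    ∃ v ∈ R, v * h * v⁻¹ = r * h := by
  let f : R → R := fun v => ⟨v.1 * (h * v.1⁻¹ * h⁻¹), mul_mem v.2 (hf.norm _ (inv_mem v.2))⟩
  have hinj : Function.Injective f := by
    intro a b e
    have e' : a.1 * (h * a.1⁻¹ * h⁻¹) = b.1 * (h * b.1⁻¹ * h⁻¹) := congrArg Subtype.val e
    have h2 : a.1 * h * a.1⁻¹ = b.1 * h * b.1⁻¹ := by
      have h3 := congrArg (· * h) e'
      simpa [mul_assoc] using h3
    have h3 : h * (b.1⁻¹ * a.1) = b.1⁻¹ * a.1 * h := by
      calc h * (b.1⁻¹ * a.1) = b.1⁻¹ * (b.1 * h * b.1⁻¹) * a.1 := by group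
        _ = b.1⁻¹ * (a.1 * h * a.1⁻¹) * a.1 := by rw [h2]
        _ = _ := by group
    have := hf.fix _ (mul_mem (inv_mem b.2) a.2) h3
    exact Subtype.ext (inv_mul_eq_one.1 this).symm
  obtain ⟨v, hv⟩ := (Finite.injective_iff_surjective.1 hinj) ⟨r, hr⟩
  refine ⟨v.1, v.2, ?_⟩
  rw [show r = v.1 * (h * v.1⁻¹ * h⁻¹) from (congrArg Subtype.val hv).symm]
  group

/-- right multiplication by `R` stays in the conjugacy class -/
theorem Fpf.exists_right {R : Subgroup G} [Finite R] {h : G} (hf : Fpf R h) {r : G} (hr : r ∈ R) :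
    ∃ v ∈ R, v * h * v⁻¹ = h * r := by
  obtain ⟨v, hv, e⟩ := hf.exists_left (hf.norm r hr)
  exact ⟨v, hv, e.trans (by group)⟩

/-- transport by an element normalising `R` -/
theorem Fpf.conj {R : Subgroup G} {h k : G} (hf : Fpf R h) (hk : ∀ r, k * r * k⁻¹ ∈ R ↔ r ∈ R) :
    Fpf R (k * h * k⁻¹) := by
  have hk' : ∀ r, r ∈ R → k⁻¹ * r * k ∈ R := fun r hr => by
    rw [← hk]; simpa [mul_assoc] using hr
  refine ⟨fun r hr => ?_, fun r hr e => ?_⟩
  · have h2 := (hk _).2 (hf.norm _ (hk' r hr))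
    simpa [mul_assoc] using h2
  · have h1 : h * (k⁻¹ * r * k) = k⁻¹ * r * k * h := by
      calc h * (k⁻¹ * r * k) = k⁻¹ * (k * h * k⁻¹ * r) * k := by group
        _ = k⁻¹ * (r * (k * h * k⁻¹)) * k := by rw [e]
        _ = _ := by group
    have h2 := hf.fix _ (hk' r hr) h1
    have : r = k * (k⁻¹ * r * k) * k⁻¹ := by group
    rw [this, h2]; group

theorem Fpf.inv {R : Subgroup G} [Finite R] {h : G} (hf : Fpf R h) : Fpf R h⁻¹ := by
  refine ⟨fun r hr => ?_, fun r hr e => hf.fix r hr ?_⟩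
  · let f : R → R := fun v => ⟨h * v.1 * h⁻¹, hf.norm _ v.2⟩
    have hinj : Function.Injective f := fun a b e =>
      Subtype.ext (mul_left_cancel (mul_right_cancel (congrArg Subtype.val e)))
    obtain ⟨v, hv⟩ := (Finite.injective_iff_surjective.1 hinj) ⟨r, hr⟩
    have : h * v.1 * h⁻¹ = r := congrArg Subtype.val hv
    rw [← this]
    simp [mul_assoc]
  · have e1 : r = h * r * h⁻¹ := by
      calc r = h * (h⁻¹ * r) := by group
        _ = h * (r * h⁻¹) := by rw [e]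
        _ = _ := by group
    calc h * r = h * r * h⁻¹ * h := by group
      _ = r * h := by rw [← e1]

/-- An element `v * (a * b) * w` with `a`, `b` fixed-point-free conjugates of `h`. -/
theorem cover_two {Rn Rp : Subgroup G} [Finite Rn] [Finite Rp] {X : Subgroup G} (hn : Rn ≤ X)
    (hp : Rp ≤ X) {a b h v w y : G} (ha : Fpf Rn a) (hb : Fpf Rp b)
    (hah : ∃ x ∈ X, x * h * x⁻¹ = a) (hbh : ∃ x ∈ X, x * h * x⁻¹ = b) (hv : v ∈ Rn) (hw : w ∈ Rp)
    (hy : ∃ x ∈ X, x * y * x⁻¹ = v * (a * b) * w) :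
    ∃ x ∈ X, ∃ z ∈ X, y = (x * h * x⁻¹) * (z * h * z⁻¹) := by
  obtain ⟨p, hp', ea⟩ := ha.exists_left hv
  obtain ⟨q, hq', eb⟩ := hb.exists_right hw
  obtain ⟨xa, hxa, rfl⟩ := hah
  obtain ⟨xb, hxb, rfl⟩ := hbh
  obtain ⟨k, hk, ek⟩ := hy
  refine ⟨k⁻¹ * p * xa, mul_mem (mul_mem (inv_mem hk) (hn hp')) hxa,
    k⁻¹ * q * xb, mul_mem (mul_mem (inv_mem hk) (hp hq')) hxb, ?_⟩
  calc y = k⁻¹ * (k * y * k⁻¹) * k := by group
    _ = k⁻¹ * ((v * (xa * h * xa⁻¹)) * ((xb * h * xb⁻¹) * w)) * k := by rw [ek]; group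
    _ = _ := by rw [← ea, ← eb]; group

end CfsgLib.Thompson
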