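import Cfsg.Agent.Lib.KnownB.Sourour.Comm

/-!
An endomorphism of determinant one which is not scalar is a product of two elements of one fixed
form with two eigenvalues `a`, `a⁻¹` besides `1`.
-/

set_option autoImplicit false

namespace CfsgLib.Thompson

open Module CfsgLib.KnownB.Sourour

variable {K V : Type*} [Field K] [AddCommGroup V] [Module K V] {m : ℕ} {a : K}

/-- the eigenvalues off `1` -/
def pairMu (a : K) : Fin 2 → K := ![a, a⁻¹]

/-- `a` is admissible -/
structure Adm (a : K) : Prop where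
  ne0 : a ≠ 0
  ne1 : a ≠ 1
  inv_ne : a⁻¹ ≠ a

lemma Adm.inj (ha : Adm a) : Function.Injective (pairMu a) := by
  intro i j hij
  fin_cases i <;> fin_cases j
  exacts [rfl, absurd hij.symm ha.inv_ne, absurd hij ha.inv_ne, rfl]

lemma Adm.ne_one (ha : Adm a) : ∀ j, pairMu a j ≠ 1 := by
  intro j
  fin_cases j
  · exact ha.ne1
  · simpa [pairMu, inv_eq_one] using ha.ne1

lemma Adm.mul_swap (ha : Adm a) : ∀ j : Fin 2, pairMu a j * pairMu a (![1, 0] j) = 1 := by
  intro j
  fin_cases j
  · exact mul_inv_cancel₀ ha.ne0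
  · exact inv_mul_cancel₀ ha.ne0

variable [FiniteDimensional K V]

lemma Adm.det_form (ha : Adm a) {T : End K V} (h : HasForm T m (pairMu a)) :
    LinearMap.det T = 1 := by
  rw [h.det_eq ha.inj ha.ne_one, Fin.prod_univ_two]
  exact mul_inv_cancel₀ ha.ne0

/-- the inverse as an endomorphism -/
lemma exists_inv_of_det {T : End K V} (h : LinearMap.det T = 1) :
    ∃ Ti : End K V, T * Ti = 1 ∧ Ti * T = 1 := by
  have hu : IsUnit T := (LinearMap.isUnit_iff_isUnit_det T).2 (by rw [h]; exact isUnit_one)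
  exact ⟨↑hu.unit⁻¹, hu.mul_val_inv, hu.val_inv_mul⟩

/-- two elements of the form are conjugate under determinant one -/
theorem form_conj (ha : Adm a) {T S : End K V} (hT : HasForm T m (pairMu a))
    (hS : HasForm S m (pairMu a)) :
    ∃ E : End K V, LinearMap.det E = 1 ∧ E * T = S * E := by
  obtain ⟨e, he⟩ := hT.conj hS ha.inj ha.ne_one (by omega)
  obtain ⟨z, hz, hzT⟩ := hT.exists_commute_det ha.inj ha.ne_one 0 (LinearMap.det e.toLinearMap)⁻¹
  refine ⟨e.toLinearMap * z, ?_, LinearMap.ext fun v => ?_⟩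
  · rw [map_mul, hz, mul_inv_cancel₀ (LinearEquiv.isUnit_det' e).ne_zero]
  · simp only [Module.End.mul_apply, LinearEquiv.coe_coe]
    rw [← he, ← Module.End.mul_apply z T, hzT, Module.End.mul_apply]

omit [FiniteDimensional K V] in
/-- an endomorphism given on a basis by a chain and two eigenvectors has the form -/
lemma form_of_basis (B : Basis (Fin m ⊕ Fin 2) K V) (T : End K V) (w : Fin 2 → V)
    (hl : ∀ i : Fin m, T (B (Sum.inl i)) =
      B (Sum.inl i) + if hi : (i : ℕ) + 1 < m then B (Sum.inl ⟨i + 1, hi⟩) else 0)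
    (hw : ∀ j, T (w j) = pairMu a j • w j) (hw0 : ∀ j, w j ≠ 0) :
    Nonempty (HasForm T m (pairMu a)) := by
  have hdim : finrank K V = m + 2 := by rw [finrank_eq_card_basis B]; simp
  rcases Nat.eq_zero_or_pos m with rfl | hm
  · exact ⟨{ v := 0, w := w, top := by simp, pred := fun h => absurd h (by omega), eig := hw,
             ne := hw0, dim := hdim }⟩
  have key : ∀ i, ∀ hi : i < m,
      ((T - 1) ^ i : End K V) (B (Sum.inl ⟨0, hm⟩)) = B (Sum.inl ⟨i, hi⟩) := by
    intro i
    induction i with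
    | zero => intro hi; simp
    | succ i ih =>
      intro hi
      rw [pow_succ', Module.End.mul_apply, ih (by omega), LinearMap.sub_apply, hl,
        Module.End.one_apply, dif_pos hi, add_sub_cancel_left]
  refine ⟨{ v := B (Sum.inl ⟨0, hm⟩), w := w, top := ?_, pred := fun _ => ?_, eig := hw, ne := hw0,
            dim := hdim }⟩
  · rw [show (T - 1) ^ m = (T - 1) * (T - 1) ^ (m - 1) by rw [← pow_succ', Nat.sub_add_cancel hm],
      Module.End.mul_apply, key (m - 1) (by omega), LinearMap.sub_apply, hl, Module.End.one_apply,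
      dif_neg (show ¬ m - 1 + 1 < m by omega), add_zero, sub_self]
  · rw [key (m - 1) (by omega)]
    exact B.ne_zero _

/-- a model, and a transvection keeping it inside the form -/
theorem exists_model (ha : Adm a) (hV : finrank K V = m + 2) :
    ∃ (T : End K V) (f : Dual K V) (u : V), f ≠ 0 ∧ u ≠ 0 ∧ f u = 0 ∧
      Nonempty (HasForm T m (pairMu a)) ∧
      Nonempty (HasForm (T * LinearMap.transvection f u) m (pairMu a)) := by
  let B : Basis (Fin m ⊕ Fin 2) K V :=
    (finBasisOfFinrankEq K V hV).reindex finSumFinEquiv.symm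
  let T : End K V := B.constr K (Sum.elim
    (fun i : Fin m => B (Sum.inl i) + if hi : (i : ℕ) + 1 < m then B (Sum.inl ⟨i + 1, hi⟩) else 0)
    (fun j => pairMu a j • B (Sum.inr j)))
  have hTl : ∀ i : Fin m, T (B (Sum.inl i)) =
      B (Sum.inl i) + if hi : (i : ℕ) + 1 < m then B (Sum.inl ⟨i + 1, hi⟩) else 0 :=
    fun i => B.constr_basis K _ (Sum.inl i)
  have hTr : ∀ j, T (B (Sum.inr j)) = pairMu a j • B (Sum.inr j) :=
    fun j => B.constr_basis K _ (Sum.inr j)
  have hco : ∀ x, B.coord (Sum.inr 1) (B x) = if x = Sum.inr 1 then 1 else 0 := fun x => by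
    classical
    rw [Basis.coord_apply, B.repr_self, Finsupp.single_apply]
  have hf : B.coord (Sum.inr 1) ≠ 0 := fun h0 => by
    have := hco (Sum.inr 1)
    rw [h0] at this
    simp at this
  have hfu : B.coord (Sum.inr 1) (B (Sum.inr 0)) = 0 := by rw [hco]; simp
  refine ⟨T, B.coord (Sum.inr 1), B (Sum.inr 0), hf, B.ne_zero _, hfu,
    form_of_basis B T _ hTl hTr (fun j => B.ne_zero _), ?_⟩
  set τ := LinearMap.transvection (B.coord (Sum.inr 1)) (B (Sum.inr 0))
  have hτ : ∀ x, τ (B x) = B x + (if x = Sum.inr 1 then (1 : K) else 0) • B (Sum.inr 0) := fun x => by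
    rw [LinearMap.transvection.apply, hco]
  set c : K := a / (a⁻¹ - a)
  refine form_of_basis B (T * τ) ![B (Sum.inr 0), B (Sum.inr 1) + c • B (Sum.inr 0)]
    (fun i => ?_) (fun j => ?_) (fun j => ?_)
  · rw [Module.End.mul_apply, hτ, if_neg (by simp), zero_smul, add_zero, hTl]
  · have e0 : τ (B (Sum.inr 0)) = B (Sum.inr 0) := by
      rw [hτ, if_neg (by simp), zero_smul, add_zero]
    have e1 : τ (B (Sum.inr 1)) = B (Sum.inr 1) + B (Sum.inr 0) := by
      rw [hτ, if_pos rfl, one_smul]
    fin_cases j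
    · simp only [Fin.zero_eta, Matrix.cons_val_zero, Module.End.mul_apply, e0, hTr]
    · simp only [Fin.mk_one, Matrix.cons_val_one, Matrix.cons_val_zero, Module.End.mul_apply,
        map_add, map_smul, e0, e1, hTr]
      have hc : a + c * a = a⁻¹ * c := by
        have : c * (a⁻¹ - a) = a := div_mul_cancel₀ a (sub_ne_zero.2 ha.inv_ne)
        linear_combination -this
      simp only [pairMu, Matrix.cons_val_zero, Matrix.cons_val_one, smul_add, smul_smul]
      rw [← hc]
      module
  · fin_cases j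
    · exact B.ne_zero _
    · intro h0
      have := congrArg (B.coord (Sum.inr 1)) h0
      simp only [Fin.mk_one, Matrix.cons_val_one, Matrix.cons_val_zero, map_add, map_smul, hco,
        map_zero] at this
      simp at this

/-- products of two elements of the form -/
theorem two_forms (h4 : 4 ≤ ENat.card K) (ha : Adm a) (hV : finrank K V = m + 2) (A : End K V)
    (hdet : LinearMap.det A = 1) (hA : A = 1 ∨ ¬ ∃ l : K, A = l • (1 : End K V)) :
    ∃ L U : End K V, A = L * U ∧ Nonempty (HasForm L m (pairMu a)) ∧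
      Nonempty (HasForm U m (pairMu a)) := by
  classical
  obtain ⟨T, f, u, hf, hu, hfu, ⟨hT⟩, ⟨hTt⟩⟩ := exists_model (V := V) ha hV
  obtain ⟨Ti, h1, h2⟩ := exists_inv_of_det (ha.det_form hT)
  let hTi := hT.inv Ti h1 h2 ![1, 0] ha.mul_swap
  by_cases hone : A = 1
  · exact ⟨T, Ti, by rw [hone, h1], ⟨hT⟩, ⟨hTi⟩⟩
  have hns := hA.resolve_left hone
  have hmem : ∀ j : Fin 2, pairMu a j ∈ ({a, a⁻¹} : Finset K) := fun j => by
    fin_cases j <;> simp [pairMu]
  by_cases hm : m = 0
  · subst hm
    obtain ⟨F⟩ := factor_plane hV A hdet hns ha.ne0 ha.inv_ne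
    have mk : ∀ S : End K V, (∀ e ∈ ({a, a⁻¹} : Finset K), ∃ w, w ≠ 0 ∧ S w = e • w) →
        Nonempty (HasForm S 0 (pairMu a)) := by
      intro S hS
      choose w hw0 hw using fun j => hS _ (hmem j)
      exact ⟨{ v := 0, w := w, top := by simp, pred := fun h => absurd h (by omega), eig := hw,
               ne := hw0, dim := hV }⟩
    exact ⟨F.L, F.U, F.hmul, mk F.L F.hLe, mk F.U F.hUe⟩
  by_cases hr : 2 ≤ finrank K (LinearMap.range (A - 1))
  · obtain ⟨b, hb⟩ : ∃ b : V, b ≠ 0 := ⟨u, hu⟩
    obtain ⟨F⟩ := factor_pair h4 ha.ne0 ha.inv_ne m hV (by omega) A hdet hr hns b f hb hf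
    exact ⟨F.L, F.U, F.hmul, F.formL hV hmem, F.formU hV hmem⟩
  · obtain ⟨f', u', hf', hu', hfu', rfl⟩ := exists_transvection A hdet hone (by omega)
    obtain ⟨e, he⟩ := transvection_conj f f' u u' hf hf' hu hu' hfu hfu'
    refine ⟨e.conj Ti, e.conj (T * LinearMap.transvection f u), LinearMap.ext fun v => ?_,
      ⟨hTi.map e⟩, ⟨hTt.map e⟩⟩
    simp only [Module.End.mul_apply, LinearEquiv.conj_apply_apply, e.symm_apply_apply]
    rw [← Module.End.mul_apply Ti, h2, Module.End.one_apply, he, e.apply_symm_apply]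

end CfsgLib.Thompson
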