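import Cfsg.Agent.Lib.KnownB.Thompson.Mid
import Cfsg.Agent.Lib.Chev.WeylN

/-!
Every element of a Chevalley group is conjugate into the big cell, and a non-identity one has such a
conjugate that is non-central in some fundamental rank one Levi subgroup.
-/

set_option autoImplicit false

namespace CfsgLib.Thompson

open Cfsg.Lie Matrix CfsgLib.Chev

variable {D : ChevalleyDatum} {A : Aux} {F : Type*} [Field F]

/-- a monomial element preserving the positive roots is diagonal -/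
lemma diag_of_pos (h : Std D A) {n : GL D.Idx F} (hn : n ∈ D.monomialSubgroup F) {σ : ℕ → ℕ}
    (hσ : Acts h.good n σ) (hpos : ∀ r, D.IsPosRoot r → D.IsPosRoot (σ r)) :
    n ∈ (tor D A).range := by
  have g := h.good
  have hnG := monomialSubgroup_le_group g hn
  have key : ∀ b ∈ D.borelSubgroup F, n * b * n⁻¹ ∈ D.borelSubgroup F := by
    intro b hb
    obtain ⟨u, hu, c, rfl⟩ := (mem_borel_iff g).1 hb
    obtain ⟨d, hd⟩ := monomial_conj_tor g hn c
    rw [show n * (u * tor D A c) * n⁻¹ = (n * u * n⁻¹) * (n * tor D A c * n⁻¹) by group, hd]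
    refine mul_mem ?_ (tor_mem_borel g d)
    have hu' : u ∈ UP F g (fun r => D.IsPosRoot r) := by
      rw [posUnipotent_eq g] at hu; exact hu
    exact conj_UP_le hσ (fun r hr => hr.1) (fun r t hr => xG_mem_borel g (hpos r hr) t) hu'
  have hB : n ∈ D.borelSubgroup F :=
    BN.mem_of_conj_B_le (P := bnPair h) (g := (⟨n, hnG⟩ : ↥(D.group F))) (H := (bnPair h).B) le_rfl
      (fun b hb => key b hb)
  rw [← diagonalSubgroup_eq g, ← borel_inf_monomial h]
  exact Subgroup.mem_inf.2 ⟨hB, hn⟩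

/-- an element flipping the positive roots exchanges the two unipotent subgroups -/
lemma flip_conj (g : Good D A) {m : GL D.Idx F} {σ : ℕ → ℕ} (hσ : Acts g m σ)
    (hw : ∀ r, D.IsPosRoot r → D.IsNegRoot (σ r)) {u : GL D.Idx F} (hu : u ∈ D.posUnipotent F) :
    m * u * m⁻¹ ∈ D.negUnipotent F := by
  rw [← longest_conj g hσ hw]
  exact ⟨u, hu, rfl⟩

/-- Every element is conjugate into the big cell. -/
theorem exists_bigCell (h : Std D A) {y : GL D.Idx F} (hy : y ∈ D.group F) :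
    ∃ c, St F h.good y c := by
  have g := h.good
  obtain ⟨m, hm, σm, hσm, hwm⟩ := exists_longest (F := F) g
  suffices ∀ k, ∀ b ∈ D.borelSubgroup F, ∀ b' ∈ D.borelSubgroup F, ∀ b₂ ∈ D.borelSubgroup F,
      ∀ n ∈ D.monomialSubgroup F, ∀ b₃ ∈ D.borelSubgroup F, ∀ σ, Acts g n σ → posToPos D σ = k →
      y * (b * m * b') = b₂ * n * b₃ → ∃ c, St F g y c by
    obtain ⟨b₂, hb₂, n, hn, b₃, hb₃, e⟩ := bruhat h (mul_mem hy (monomialSubgroup_le_group g hm))
    obtain ⟨σ, hσ⟩ := exists_acts g hn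
    exact this _ 1 (one_mem _) 1 (one_mem _) b₂ hb₂ n hn b₃ hb₃ σ hσ rfl (by simpa using e)
  intro k
  induction k using Nat.strong_induction_on with
  | _ k ih =>
  intro b hb b' hb' b₂ hb₂ n hn b₃ hb₃ σ hσ hk e
  by_cases hex : ∃ r, D.IsPosRoot r ∧ D.IsPosRoot (σ r)
  · obtain ⟨r, hr, hσr⟩ := hex
    obtain ⟨i, hi, hp⟩ := exists_simple_pos g hσ.map hr hσr
    set p := D.simple i
    set s := nS F g i
    have hplt := g.simple_lt i hi
    have hdec := posToPos_refl g hσ.map hi hp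
    -- the moving chamber stays opposite
    obtain ⟨u, hu, c', rfl⟩ := (mem_borel_iff g).1 hb'
    obtain ⟨v, hv, a, rfl⟩ := pos_decomp h hi hu
    obtain ⟨d', hd'⟩ := monomial_conj_tor g (inv_mem (nS_mem_monomial (F := F) g hi)) c'
    rw [inv_inv] at hd'
    set s' : F := ((chi D A c' p)⁻¹ : Fˣ) * (-1 - a)
    have hs : xG g p (-1) * s = xG g (A.neg p) (-1) * xG g p 1 := by
      simp only [s, nS, nG, g.neg_eq p hplt, inv_one, p]
      rw [← mul_assoc, ← mul_assoc, xG_add, neg_add_cancel, xG_zero, one_mul]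
    have hv' : (xG g (A.neg p) (-1))⁻¹ * v * xG g (A.neg p) (-1) ∈ D.borelSubgroup F := by
      have := (Subgroup.mem_normalizer_iff.1 (rankOne_le_normalizer h hi
        (inv_mem (rankOne_neg g hi (-1 : F)))) v).1 hv
      rw [inv_inv] at this
      exact pos_le_borel (UP_posBut_le g i this)
    obtain ⟨k', -, ek⟩ := hσm.conj (A.neg p) (g.neg_lt p hplt)
    have hpos' : D.IsPosRoot (σm (A.neg p)) := by
      rw [hσm.map.map_neg g hplt]
      have := hwm p (simple_pos g hi)
      exact (posRoot_neg g (hσm.map.1 p hplt)).2 this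
    -- the new element
    have e0 : (v * xG g p a * tor D A c') * xG g p s' * s =
        v * xG g (A.neg p) (-1) * xG g p 1 * tor D A d' := by
      rw [mul_assoc (v * xG g p a) (tor D A c'), tor_xG g c' hplt, ← mul_assoc (v * xG g p a),
        mul_assoc v (xG g p a), xG_add]
      have : a + (chi D A c' p : F) * s' = -1 := by
        rw [← mul_assoc, Units.mul_inv, one_mul]; ring
      rw [this, ← hd', mul_assoc v (xG g (A.neg p) (-1)), ← hs]
      simp only [s, mul_assoc, mul_inv_cancel_left]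
    have hnew : b * m * (v * xG g p a * tor D A c') * xG g p s' * s =
        (b * xG g (σm (A.neg p)) (k' * -1)) * m *
          (((xG g (A.neg p) (-1))⁻¹ * v * xG g (A.neg p) (-1)) * xG g p 1 * tor D A d') := by
      rw [show b * m * (v * xG g p a * tor D A c') * xG g p s' * s =
        b * m * ((v * xG g p a * tor D A c') * xG g p s' * s) by simp only [mul_assoc], e0, ← ek (-1)]
      group
    -- the image moves away
    obtain ⟨u₃, hu₃, c₃, hu₃e⟩ := (mem_borel_iff g).1 (mul_mem hb₃ (xG_mem_borel g (simple_pos g hi) s'))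
    obtain ⟨a₃, v₃, hv₃, rfl⟩ := pos_decomp' h hi hu₃
    obtain ⟨d₃, hd₃⟩ := monomial_conj_tor g (inv_mem (nS_mem_monomial (F := F) g hi)) c₃
    rw [inv_inv] at hd₃
    obtain ⟨k₃, -, ek₃⟩ := hσ.conj p hplt
    have hv₃' : s⁻¹ * v₃ * s ∈ D.borelSubgroup F := by
      have := (Subgroup.mem_normalizer_iff.1 (rankOne_le_normalizer h hi
        (inv_mem (nS_mem_rankOne (F := F) g i))) v₃).1 hv₃
      rw [inv_inv] at this
      exact pos_le_borel (UP_posBut_le g i this)
    have himg : y * (b * m * (v * xG g p a * tor D A c') * xG g p s' * s) =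
        (b₂ * xG g (σ p) (k₃ * a₃)) * (n * s) * ((s⁻¹ * v₃ * s) * tor D A d₃) := by
      rw [show y * (b * m * (v * xG g p a * tor D A c') * xG g p s' * s) =
        y * (b * m * (v * xG g p a * tor D A c')) * xG g p s' * s by simp only [mul_assoc], e,
        ← ek₃, ← hd₃, mul_assoc (b₂ * n) b₃, hu₃e]
      simp only [s, p, mul_assoc, mul_inv_cancel_left, inv_mul_cancel_left]
    rw [hnew] at himg
    exact ih _ (by omega) _ (mul_mem hb (xG_mem_borel g hpos' _)) _
      (mul_mem (mul_mem hv' (xG_mem_borel g (simple_pos g hi) _)) (tor_mem_borel g d'))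
      _ (mul_mem hb₂ (xG_mem_borel g hp _)) _ (mul_mem hn (nS_mem_monomial g hi)) _
      (mul_mem hv₃' (tor_mem_borel g d₃)) _ (hσ.mul (acts_nS g hi)) rfl himg
  · push Not at hex
    have hflip : ∀ r, D.IsPosRoot r → D.IsNegRoot (σ r) := fun r hr =>
      isNeg_of_not_pos g (hσ.map.1 r hr.1) (hex r hr)
    obtain ⟨σi, hσi⟩ := exists_acts g (inv_mem hm)
    have hσi' : ∀ r < D.nroots, σm (σi r) = r := fun r hr =>
      (hσm.mul hσi).unique (τ := id) (by simpa using acts_tor (F := F) g 1) hr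
    have hflipi : ∀ r, D.IsPosRoot r → D.IsNegRoot (σi r) := by
      intro r hr
      refine isNeg_of_not_pos g (hσi.map.1 r hr.1) fun hc => ?_
      have := hwm _ hc
      rw [hσi' r hr.1] at this
      exact not_pos_of_isNeg g this hr
    obtain ⟨t₀, ht₀⟩ := diag_of_pos h (mul_mem hn (inv_mem hm)) (hσ.mul hσi) (fun r hr => by
      have h1 := hflipi r hr
      have h2 := hflip _ ((posRoot_neg g h1.1).2 h1)
      rw [hσ.map.map_neg g h1.1] at h2
      have := (posRoot_neg g (g.neg_lt _ (hσ.map.1 _ h1.1))).2 h2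
      rwa [g.neg_neg _ (hσ.map.1 _ h1.1)] at this)
    obtain ⟨u₁, hu₁, c₁, eu₁⟩ := (mem_borel_iff g).1 (mul_mem (inv_mem hb) hb₂)
    obtain ⟨u, hu, c₂, eu⟩ := (mem_borel_iff g).1 (mul_mem hb₃ (inv_mem hb'))
    obtain ⟨d, hd⟩ := monomial_conj_tor g hm c₂
    refine ⟨d * (c₁ * t₀), u₁⁻¹ * b⁻¹,
      mul_mem (inv_mem (posUnipotent_le_group g hu₁)) (inv_mem (borel_le_group g hb)),
      tor D A (c₁ * t₀) * (m * u * m⁻¹) * (tor D A (c₁ * t₀))⁻¹,
      tor_conj_negUnipotent g _ (flip_conj g hσm hwm hu), u₁, hu₁, ?_⟩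
    have ey : y = b₂ * n * (b₃ * b'⁻¹) * m⁻¹ * b⁻¹ := by
      calc y = y * (b * m * b') * (b'⁻¹ * m⁻¹ * b⁻¹) := by group
        _ = _ := by rw [e]; group
    calc u₁⁻¹ * b⁻¹ * y * (u₁⁻¹ * b⁻¹)⁻¹
        = u₁⁻¹ * (b⁻¹ * b₂) * (n * m⁻¹) * (m * (b₃ * b'⁻¹) * m⁻¹) * u₁ := by rw [ey]; group
      _ = tor D A c₁ * tor D A t₀ * (m * u * m⁻¹) * tor D A d * u₁ := by
        rw [eu₁, eu, ht₀, ← hd]; group
      _ = _ := by
        rw [map_mul _ d, tor_mul_comm d, map_mul]; group

lemma tor_eq_one (g : Good D A) (c : Fin D.rank → Fˣ)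
    (h1 : ∀ i < D.rank, chi D A c (D.simple i) = 1) : tor D A c = (1 : GL D.Idx F) := by
  apply Units.ext
  rw [tor_val, dia_congr (e := fun _ => (1 : F)) (fun s hs => ?_), dia_one]
  · rfl
  rw [chi_eq_wt g c hs, wt, Finset.prod_eq_one, Units.val_one]
  intro k hk
  rw [h1 k (Finset.mem_range.1 hk), _root_.one_zpow]

/-- A non-identity element has a big cell conjugate which is not central in some fundamental
Levi subgroup, so that one torus coordinate can be changed freely. -/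
theorem exists_start (h : Std D A) {y : GL D.Idx F} (hy : y ∈ D.group F) (hy1 : y ≠ 1) :
    ∃ (i : Fin D.rank) (c : Fin D.rank → Fˣ), ∀ z, St F h.good y (Pi.mulSingle i z * c) := by
  have g := h.good
  by_contra hcon
  push Not at hcon
  have hno : ∀ {x v w : GL D.Idx F} {c : Fin D.rank → Fˣ}, x ∈ D.group F →
      v ∈ D.negUnipotent F → w ∈ D.posUnipotent F → x * y * x⁻¹ = v * tor D A c * w →
      ∀ i : Fin D.rank, chi D A c (D.simple i) = 1 ∧ v ∈ UP F g (negBut D A i) ∧
        w ∈ UP F g (posBut D i) := by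
    intro x v w c hx hv hw e i
    by_contra hh
    obtain ⟨z, hz⟩ := hcon i c
    refine hz (move_of_parts h i hx hv hw e ?_ z)
    tauto
  obtain ⟨c₀, x₀, hx₀, v₀, hv₀, w₀, hw₀, e₀⟩ := exists_bigCell h hy
  have hc : tor D A c₀ = (1 : GL D.Idx F) :=
    tor_eq_one g c₀ fun i hi => (hno hx₀ hv₀ hw₀ e₀ ⟨i, hi⟩).1
  rw [hc, mul_one] at e₀
  have key : ∀ l, Letters D l → nW F g l * v₀ * (nW F g l)⁻¹ ∈ D.negUnipotent F ∧
      nW F g l * w₀ * (nW F g l)⁻¹ ∈ D.posUnipotent F := by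
    intro l hl
    induction l with
    | nil => simpa [nW] using And.intro hv₀ hw₀
    | cons i l ih =>
      obtain ⟨h1, h2⟩ := ih hl.tail
      have hi : i < D.rank := hl i List.mem_cons_self
      set n := nW F g l
      have e : n * x₀ * y * (n * x₀)⁻¹ =
          (n * v₀ * n⁻¹) * tor D A (1 : Fin D.rank → Fˣ) * (n * w₀ * n⁻¹) := by
        rw [map_one, show n * x₀ * y * (n * x₀)⁻¹ = n * (x₀ * y * x₀⁻¹) * n⁻¹ by group, e₀]
        group
      obtain ⟨-, hv, hw⟩ :=
        hno (mul_mem (monomialSubgroup_le_group g (nW_mem g hl.tail)) hx₀) h1 h2 e ⟨i, hi⟩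
      have e' : ∀ z : GL D.Idx F, nW F g (i :: l) * z * (nW F g (i :: l))⁻¹ =
          nS F g i * (n * z * n⁻¹) * (nS F g i)⁻¹ := fun z => by
        simp only [n, nW, List.map_cons, List.prod_cons]; group
      rw [e', e']
      exact ⟨UP_negBut_le g i ((Subgroup.mem_normalizer_iff.1 (rankOne_le_normalizer_neg h hi
          (nS_mem_rankOne g i)) _).1 hv),
        UP_posBut_le g i (nS_conj_posBut h hi hw)⟩
  obtain ⟨m, hm, σm, hσm, hwm⟩ := exists_longest (F := F) g
  obtain ⟨l, hl, d, hd⟩ := monomial_exists_word g hm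
  obtain ⟨h1, h2⟩ := key l hl
  have e' : ∀ z : GL D.Idx F, m * z * m⁻¹ =
      tor D A d * (nW F g l * z * (nW F g l)⁻¹) * (tor D A d)⁻¹ := fun z => by rw [hd]; group
  have hv1 : m * v₀ * m⁻¹ ∈ D.negUnipotent F := by
    rw [e']; exact tor_conj_negUnipotent g d h1
  have hw1 : m * w₀ * m⁻¹ ∈ D.posUnipotent F := by
    rw [e']; exact tor_conj_posUnipotent g d h2
  have hw0 : m * w₀ * m⁻¹ = 1 := Subgroup.mem_bot.1 ((borel_inf_negUnipotent h).le
    (Subgroup.mem_inf.2 ⟨pos_le_borel hw1, flip_conj g hσm hwm hw₀⟩))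
  have hv0 : v₀ ∈ D.posUnipotent F := by
    rw [← longest_conj g hσm hwm] at hv1
    obtain ⟨q, hq, eq'⟩ := hv1
    have : q = v₀ := (MulAut.conj m).injective eq'
    rwa [← this]
  have hv0' : v₀ = 1 := Subgroup.mem_bot.1 ((borel_inf_negUnipotent h).le
    (Subgroup.mem_inf.2 ⟨pos_le_borel hv0, hv₀⟩))
  have hw0' : w₀ = 1 := conj_eq_one_iff.1 hw0
  rw [hv0', hw0', one_mul, conj_eq_one_iff] at e₀
  exact hy1 e₀

end CfsgLib.Thompson
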