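import Cfsg.Agent.Lib.KnownB.Thompson.Gauss
import Cfsg.Agent.Lib.KnownB.Thompson.Levi
import Cfsg.Agent.Lib.KnownB.Thompson.Cover
import Cfsg.Agent.Lib.Chev.RegularTorus

/-!
A conjugacy class whose square is the whole Chevalley group.
-/

set_option autoImplicit false

namespace CfsgLib.Thompson

open Cfsg.Lie Matrix CfsgLib.Chev

variable {F : Type*} [Field F]

lemma prod_zpow_eq {ι : Type*} {G : Type*} [CommGroup G] (S : Finset ι) (a : G) (f : ι → ℤ) :
    ∏ i ∈ S, a ^ f i = a ^ ∑ i ∈ S, f i := by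
  classical
  induction S using Finset.induction_on with
  | empty => simp
  | insert i S hi ih => rw [Finset.prod_insert hi, Finset.sum_insert hi, ih, _root_.zpow_add]

lemma zpow_prod_eq {ι : Type*} {G : Type*} [CommGroup G] (S : Finset ι) (f : ι → G) (m : ℤ) :
    (∏ i ∈ S, f i) ^ m = ∏ i ∈ S, f i ^ m := by
  classical
  induction S using Finset.induction_on with
  | empty => simp
  | insert i S hi ih => rw [Finset.prod_insert hi, Finset.prod_insert hi, mul_zpow, ih]

/-- a power killing every regular unipotent element -/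
lemma reg_pow_one [Fintype F] {n : ℕ} {M : Matrix.SpecialLinearGroup (Fin n) F} (hn : 0 < n)
    (hM : Reg M) {k : ℕ} (hk : n ≤ k) : M ^ (Fintype.card F ^ k) = 1 := by
  obtain ⟨p, hp⟩ := CharP.exists F
  obtain ⟨f, hprime, hf⟩ := FiniteField.card F p
  have : Fact p.Prime := ⟨hprime⟩
  have : Nonempty (Fin n) := ⟨⟨0, hn⟩⟩
  have hle : n ≤ Fintype.card F ^ k :=
    hk.trans (Nat.lt_pow_self Fintype.one_lt_card).le
  refine sl_eq ?_
  rw [co, show (M ^ (Fintype.card F ^ k)).1 = M.1 ^ (Fintype.card F ^ k) from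
    Matrix.SpecialLinearGroup.coe_pow M _, ← sub_eq_zero]
  have e := sub_pow_char_pow_of_commute p ((f : ℕ) * k) (Commute.one_right M.1)
  rw [pow_mul, ← hf, one_pow] at e
  rw [← e]
  exact pow_eq_zero_of_le hle hM.1

namespace EData

variable {E : EData} {D : ChevalleyDatum} {A : Aux}

/-- the nodes of the Levi subgroup -/
abbrev Pr (E : EData) := Σ k : Fin E.m, Fin (E.comp k).length

/-- left end of an edge -/
def Pr.lo (p : Pr E) : Fin (E.deg p.1) := ⟨p.2.val, by have := p.2.isLt; simp only [deg]; omega⟩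

/-- right end of an edge -/
def Pr.hi (p : Pr E) : Fin (E.deg p.1) :=
  ⟨p.2.val + 1, by have := p.2.isLt; simp only [deg]; omega⟩

lemma Pr.lo_ne (p : Pr E) : p.lo ≠ p.hi := by
  intro e
  have := congrArg Fin.val e
  simp [Pr.lo, Pr.hi] at this

/-- a generator next to the diagonal -/
noncomputable def gen (b : Bool) (p : Pr E) (t : F) : Prod F E :=
  Pi.mulSingle p.1 (if b then CfsgLib.StSL.tv p.lo p.hi t else CfsgLib.StSL.tv p.hi p.lo t)

/-- the entry next to the diagonal -/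
def ent (b : Bool) (q : Pr E) (Z : Prod F E) : F :=
  if b then (Z q.1).1 q.lo q.hi else (Z q.1).1 q.hi q.lo

/-- ordered product of the generators -/
noncomputable def prodGen (b : Bool) (f : Pr E → Pr E) (c : Pr E → F) (l : List (Pr E)) :
    Prod F E :=
  (l.map fun p => gen b (f p) (c p)).prod

lemma gen_mem (b : Bool) (p : Pr E) (t : F) (k : Fin E.m) : gen b p t k ∈ triSub b := by
  rcases eq_or_ne k p.1 with rfl | h
  · rw [gen, Pi.mulSingle_eq_same]
    cases b
    · exact Subgroup.subset_closure ⟨p.hi, p.lo, by simp [Pr.lo, Pr.hi], t, rfl⟩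
    · exact Subgroup.subset_closure ⟨p.lo, p.hi, by simp [Pr.lo, Pr.hi], t, rfl⟩
  · rw [gen, Pi.mulSingle_eq_of_ne h]
    exact one_mem _

lemma ent_gen (b : Bool) (p q : Pr E) (t : F) : ent b q (gen b p t) = if p = q then t else 0 := by
  obtain ⟨k, i⟩ := p
  obtain ⟨k', i'⟩ := q
  by_cases hk : k = k'
  · subst hk
    have hne := Pr.lo_ne (E := E) ⟨k, i⟩
    rw [ent, gen, Pi.mulSingle_eq_same]
    have h1 : (Pr.lo (E := E) ⟨k, i'⟩) ≠ Pr.hi ⟨k, i'⟩ := Pr.lo_ne (E := E) ⟨k, i'⟩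
    by_cases hi : i = i'
    · subst hi
      cases b <;>
        simp [CfsgLib.StSL.tv_coe hne, CfsgLib.StSL.tv_coe hne.symm, Matrix.transvection,
          Matrix.one_apply, Matrix.single_apply, h1, h1.symm]
    · have hi' : i.val ≠ i'.val := fun e => hi (Fin.ext e)
      cases b <;>
        simp only [Bool.false_eq_true, if_false, if_true, CfsgLib.StSL.tv_coe hne,
          CfsgLib.StSL.tv_coe hne.symm, Matrix.transvection, Matrix.add_apply, Matrix.one_apply,
          Matrix.single_apply] <;>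
        simp [Pr.lo, Pr.hi, Fin.ext_iff, hi', hi]
  · rw [ent, gen, Pi.mulSingle_eq_of_ne (Ne.symm hk), if_neg (fun e => hk (congrArg Sigma.fst e))]
    have h1 := Pr.lo_ne (E := E) ⟨k', i'⟩
    cases b <;> simp [co, Matrix.one_apply, h1, h1.symm]

lemma prodGen_spec (b : Bool) (f : Pr E → Pr E) (c : Pr E → F) (l : List (Pr E)) :
    (∀ k, prodGen b f c l k ∈ triSub b) ∧
      ∀ q, ent b q (prodGen b f c l) = (l.map fun p => if f p = q then c p else 0).sum := by
  induction l with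
  | nil =>
    refine ⟨fun k => by simp [prodGen, one_mem], fun q => ?_⟩
    have h1 := Pr.lo_ne (E := E) q
    cases b <;> simp [prodGen, ent, co, Matrix.one_apply, h1, h1.symm]
  | cons p l ih =>
    have e : prodGen b f c (p :: l) = gen b (f p) (c p) * prodGen b f c l := by simp [prodGen]
    refine ⟨fun k => by rw [e, Pi.mul_apply]; exact mul_mem (gen_mem _ _ _ _) (ih.1 k), fun q => ?_⟩
    rw [List.map_cons, List.sum_cons, ← ih.2, ← ent_gen b (f p) q (c p), e]
    have t1 := triSub_isTri b (gen_mem b (f p) (c p) q.1)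
    have t2 := triSub_isTri b (ih.1 q.1)
    cases b
    · simp only [ent, Bool.false_eq_true, if_false, Pi.mul_apply, cm]
      exact t1.mul_adj t2 (by simp [Pr.lo, Pr.hi])
    · simp only [ent, if_true, Pi.mul_apply, cm]
      exact t1.mul_adj t2 (by simp [Pr.lo, Pr.hi])

lemma prodGen_reg (ok : E.OK D A) (b : Bool) {f : Pr E → Pr E} (hf : Function.Bijective f)
    {c : Pr E → F} (hc : ∀ p, c p ≠ 0) (k : Fin E.m) :
    Reg (prodGen b f c Finset.univ.toList k) := by
  classical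
  obtain ⟨h1, h2⟩ := prodGen_spec b f c Finset.univ.toList
  have hn : 0 < E.deg k := by have := ok.three_le k; omega
  have key : ∀ q, ent b q (prodGen b f c Finset.univ.toList) ≠ 0 := by
    intro q
    rw [h2, Finset.sum_map_toList]
    obtain ⟨p, rfl⟩ := hf.2 q
    rw [Finset.sum_eq_single p (fun p' _ hp' => if_neg fun e => hp' (hf.1 e)) (by simp), if_pos rfl]
    exact hc p
  cases b
  · refine reg_lower hn (triSub_isTri _ (h1 k)) fun i j hij => ?_
    let q : Pr E := ⟨k, ⟨j.val, by have := i.isLt; simp only [deg] at this; omega⟩⟩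
    have := key q
    simpa [ent, q, Pr.lo, Pr.hi, ← hij] using this
  · refine reg_upper hn (triSub_isTri _ (h1 k)) fun i j hij => ?_
    let q : Pr E := ⟨k, ⟨i.val, by have := j.isLt; simp only [deg] at this; omega⟩⟩
    have := key q
    simpa [ent, q, Pr.lo, Pr.hi, ← hij] using this

variable (E D A) in
/-- the torus exponents applied to `a` -/
def cs (a : Fˣ) : Fin D.rank → Fˣ := fun i => a ^ E.lam.getD i.val 0

lemma chi_cs (ok : E.OK D A) (a : Fˣ) {r : ℕ} (hr : r < D.nroots) :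
    chi D A (E.cs D a) r = a ^ E.lv D A r := by
  rw [← (ok.lev_spec hr).1, ← prod_zpow_eq]
  refine Finset.prod_congr rfl fun i _ => ?_
  rw [cs, ← _root_.zpow_mul]

variable (F) in
/-- roots of grade zero -/
noncomputable def U0 (g : Good D A) (E : EData) : Subgroup (GL D.Idx F) :=
  UP F g fun r => r < D.nroots ∧ E.lv D A r = 0

variable (F) in
/-- roots of positive grade -/
noncomputable def RP (g : Good D A) (E : EData) : Subgroup (GL D.Idx F) :=
  UP F g fun r => r < D.nroots ∧ 0 < E.lv D A r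

variable (F) in
/-- roots of negative grade -/
noncomputable def RN (g : Good D A) (E : EData) : Subgroup (GL D.Idx F) :=
  UP F g fun r => r < D.nroots ∧ E.lv D A r < 0

lemma RP_le (ok : E.OK D A) (g : Good D A) : RP F g E ≤ D.posUnipotent F := by
  refine UP_le fun r t ⟨hr, hl⟩ => xG_mem_posUnipotent g ?_ t
  by_contra hn
  have := ok.lev_pos g ((posRoot_neg g hr).2 (isNeg_of_not_pos g hr hn))
  rw [EData.lv, lev_neg g _ hr] at this
  rw [EData.lv] at hl
  omega

lemma RN_le (ok : E.OK D A) (g : Good D A) : RN F g E ≤ D.negUnipotent F := by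
  refine UP_le fun r t ⟨hr, hl⟩ => xG_mem_negUnipotent g (isNeg_of_not_pos g hr fun hp => ?_) t
  have := ok.lev_pos g hp
  omega

lemma group_le_of_UP (g : Good D A) (P : ℕ → Prop) : UP F g P ≤ D.group F :=
  UP_le fun r t _ => xG_mem_group g r t

lemma U0_normalizer (h : Std D A) {P : ℤ → Prop} (h0 : ¬ P 0)
    (hP : ∀ k : ℕ, 1 ≤ k → ∀ x, P x → P ((k : ℤ) * x)) :
    U0 F h.good E ≤
      Subgroup.normalizer (UP F h.good (fun r => r < D.nroots ∧ P (E.lv D A r)) : Set _) := by
  have g := h.good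
  have gen : ∀ q, q < D.nroots → E.lv D A q = 0 → ∀ t : F, xG g q t ∈
      Subgroup.normalizer (UP F g (fun r => r < D.nroots ∧ P (E.lv D A r)) : Set _) := by
    intro q hq hq0 t
    refine mem_normalizer_UP (K := D.rootSubgroup F q) (fun y hy r u hr => ?_)
      (xG_mem_rootSubgroup g q t)
    obtain ⟨t', rfl⟩ := (mem_rootSubgroup_iff g).1 hy
    refine conj_xG_mem h hq hr.1 (fun e => h0 ?_) (fun e => h0 ?_) hr
      (fun v hv i k _ hk e => ⟨hv, ?_⟩) t' u
    · have := hr.2; rwa [e, hq0] at this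
    · have := hr.2; rw [e, EData.lv, lev_neg g _ hq] at this; rw [EData.lv] at hq0
      rwa [hq0, neg_zero] at this
    · rw [EData.lv, lev_lin _ (i : ℤ) (k : ℤ) e]
      rw [EData.lv] at hq0
      rw [hq0, mul_zero, zero_add]
      exact hP k hk _ hr.2
  exact UP_le fun r t hr => gen r hr.1 hr.2 t

lemma tor_normalizer (g : Good D A) (c : Fin D.rank → Fˣ) {P : ℕ → Prop}
    (hP : ∀ r, P r → r < D.nroots) :
    tor D A c ∈ Subgroup.normalizer (UP F g P : Set _) := by
  refine mem_normalizer_UP (K := (tor D A).range) (fun y hy r u hr => ?_) ⟨c, rfl⟩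
  obtain ⟨d, rfl⟩ := hy
  rw [tor_conj_xG g d (hP r hr)]
  exact xG_mem_UP g hr _

variable (F) in
/-- the torus times the roots of grade zero -/
noncomputable def L0 (g : Good D A) (E : EData) : Subgroup (GL D.Idx F) :=
  (tor D A).range ⊔ U0 F g E

lemma L0_le_RP (h : Std D A) :
    L0 F h.good E ≤ Subgroup.normalizer (RP F h.good E : Set _) := by
  refine sup_le ?_ (U0_normalizer (P := fun x => 0 < x) h (lt_irrefl 0)
    fun k hk x hx => mul_pos (by exact_mod_cast hk) hx)
  rintro y ⟨c, rfl⟩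
  exact tor_normalizer h.good c fun r hr => hr.1

lemma L0_le_RN (h : Std D A) :
    L0 F h.good E ≤ Subgroup.normalizer (RN F h.good E : Set _) := by
  refine sup_le ?_ (U0_normalizer (P := fun x => x < 0) h (lt_irrefl 0)
    fun k hk x hx => mul_neg_of_pos_of_neg (by exact_mod_cast hk) hx)
  rintro y ⟨c, rfl⟩
  exact tor_normalizer h.good c fun r hr => hr.1

lemma L0_le_group (g : Good D A) : L0 F g E ≤ D.group F := by
  refine sup_le ?_ (group_le_of_UP g _)
  rw [← diagonalSubgroup_eq g]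
  exact diagonalSubgroup_le_group g

variable [Finite F]

lemma el_mem_U0 (h : Std D A) (ok : E.OK D A) (k : Fin E.m) {i j : Fin (E.deg k)} (hij : i ≠ j)
    (t : F) : el F h.good E k i j t ∈ U0 F h.good E :=
  xG_mem_UP h.good ⟨(ok.root_spec h.good k i.isLt j.isLt (Fin.val_ne_of_ne hij)).1,
    (ok.root_spec h.good k i.isLt j.isLt (Fin.val_ne_of_ne hij)).2.1⟩ _

lemma Phi_mem_L0 (h : Std D A) (ok : E.OK D A) (Z : Prod F E) : Phi h ok Z ∈ L0 F h.good E :=
  (le_sup_right : U0 F h.good E ≤ L0 F h.good E)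
    (Phi_mem h ok (fun k _ _ hij t => el_mem_U0 h ok k hij t) Z)

/-- `Phi` of a generator -/
lemma Phi_gen (h : Std D A) (ok : E.OK D A) (b : Bool) (p : Pr E) (t : F) :
    Phi h ok (gen b p t) =
      if b then el F h.good E p.1 p.lo p.hi t else el F h.good E p.1 p.hi p.lo t := by
  rw [gen, Phi_single]
  cases b
  · exact phi_tv h ok p.1 p.lo_ne.symm t
  · exact phi_tv h ok p.1 p.lo_ne t

lemma tor_comm_Phi (h : Std D A) (ok : E.OK D A) (a : Fˣ) (Z : Prod F E) :
    Commute (tor D A (E.cs D a)) (Phi h ok Z) := by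
  have : Phi h ok Z ∈ Subgroup.centralizer {tor D A (E.cs D a)} := by
    refine Phi_mem h ok (fun k i j hij t => ?_) Z
    obtain ⟨hr, h0, -⟩ := ok.root_spec h.good k i.isLt j.isLt (Fin.val_ne_of_ne hij)
    rw [Subgroup.mem_centralizer_singleton_iff, el, tor_xG h.good _ hr, chi_cs ok a hr, h0,
      zpow_zero, Units.val_one, one_mul]
  exact (Subgroup.mem_centralizer_singleton_iff.1 this).symm

omit [Finite F] in
/-- the elementary transvections of the factors generate the product -/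
lemma prod_induction (ok : E.OK D A) {H : Subgroup (Prod F E)}
    (hH : ∀ (k : Fin E.m) (i j : Fin (E.deg k)), i ≠ j → ∀ t : F,
      Pi.mulSingle k (CfsgLib.StSL.tv i j t) ∈ H) (Z : Prod F E) : Z ∈ H := by
  refine Subgroup.pi_mem_of_mulSingle_mem Z fun k => ?_
  have : Nontrivial (Fin (E.deg k)) :=
    Fin.nontrivial_iff_two_le.2 (by have := ok.three_le k; omega)
  exact CfsgLib.StSL.sl_induction (P := fun M => Pi.mulSingle k M ∈ H)
    (fun i j hij t => hH k i j hij t)
    (fun a b ha hb => by rw [Pi.mulSingle_mul]; exact H.mul_mem ha hb) (Z k)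

/-- the torus acts as diagonal conjugation -/
lemma exists_dconj (h : Std D A) (ok : E.OK D A) (d : Fin E.m → Fˣ) :
    ∃ c, ∀ Z : Prod F E, tor D A c * Phi h ok Z * (tor D A c)⁻¹ =
      Phi h ok fun k => dconj (d k) (Z k) := by
  have g := h.good
  let c : Fin D.rank → Fˣ := fun a => ∏ k : Fin E.m, d k ^ (E.mu.getD k.val []).getD a.val 0
  refine ⟨c, fun Z => ?_⟩
  let δ : Prod F E →* Prod F E :=
    MonoidHom.pi fun k => (dconj (d k)).comp (Pi.evalMonoidHom _ k)
  let ψ₁ : Prod F E →* GL D.Idx F := (MulAut.conj (tor D A c)).toMonoidHom.comp (Phi h ok)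
  let ψ₂ : Prod F E →* GL D.Idx F := (Phi h ok).comp δ
  have gen_eq : ∀ (k : Fin E.m) (i j : Fin (E.deg k)), i ≠ j → ∀ t : F,
      Pi.mulSingle k (CfsgLib.StSL.tv i j t) ∈ MonoidHom.eqLocus ψ₁ ψ₂ := by
    intro k i j hij t
    have e : δ (Pi.mulSingle k (CfsgLib.StSL.tv i j t)) =
        (Pi.mulSingle k (dconj (d k) (CfsgLib.StSL.tv i j t)) : Prod F E) :=
      funext fun k' => by
        simp only [δ, MonoidHom.pi_apply, MonoidHom.comp_apply, Pi.evalMonoidHom_apply]
        rcases eq_or_ne k' k with rfl | hk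
        · rw [Pi.mulSingle_eq_same, Pi.mulSingle_eq_same]
        · rw [Pi.mulSingle_eq_of_ne hk, Pi.mulSingle_eq_of_ne hk, map_one]
    show ψ₁ _ = ψ₂ _
    simp only [ψ₁, ψ₂, MonoidHom.comp_apply, MulEquiv.coe_toMonoidHom, MulAut.conj_apply]
    rw [e, Phi_single, Phi_single, dconj_tv _ hij, phi_tv h ok k hij, phi_tv h ok k hij]
    obtain ⟨hr, -⟩ := ok.root_spec g k i.isLt j.isLt (Fin.val_ne_of_ne hij)
    simp only [el]
    rw [tor_conj_xG g c hr]
    congr 1
    have hc : chi D A c (E.rho D A k i j) =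
        d k ^ ((if i.val = 0 then (1 : ℤ) else 0) - (if j.val = 0 then (1 : ℤ) else 0)) := by
      have hmu := ok.muc
      simp only [muCheck, List.all_eq_true, List.mem_range, Bool.or_eq_true, decide_eq_true_eq] at hmu
      have hs : ∀ k' : Fin E.m, (∑ a : Fin D.rank,
          (E.mu.getD k'.val []).getD a.val 0 * A.cart a.val (E.rho D A k i j)) =
          if k'.val = k.val then
            (if i.val = 0 then (1 : ℤ) else 0) - (if j.val = 0 then (1 : ℤ) else 0) else 0 := by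
        intro k'
        rw [← (hmu k' k'.isLt k k.isLt i i.isLt j j.isLt).resolve_left (Fin.val_ne_of_ne hij),
          ← Finset.sum_range fun a => (E.mu.getD k'.val []).getD a 0 * A.cart a (E.rho D A k i j)]
        rfl
      simp only [chi, c, zpow_prod_eq]
      rw [Finset.prod_comm, Finset.prod_eq_single k]
      · simp only [← _root_.zpow_mul]
        rw [prod_zpow_eq, hs k, if_pos rfl]
      · intro k' _ hk'
        simp only [← _root_.zpow_mul]
        rw [prod_zpow_eq, hs k', if_neg (Fin.val_ne_of_ne hk'), zpow_zero]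
      · simp
    rw [hc]
    split_ifs with h1 h2 h2
    · exact absurd (Fin.ext (h1.trans h2.symm)) hij
    all_goals simp <;> ring
  have hmem : Z ∈ MonoidHom.eqLocus ψ₁ ψ₂ := prod_induction ok gen_eq Z
  have e1 : ψ₁ Z = ψ₂ Z := hmem
  simp only [ψ₁, ψ₂, MonoidHom.comp_apply, MulEquiv.coe_toMonoidHom, MulAut.conj_apply] at e1
  rw [e1]
  congr 1

/-- regular elements of the product are conjugate -/
lemma exists_kappa (h : Std D A) (ok : E.OK D A) (a : Fˣ) {X M : Prod F E}
    (hX : ∀ k, Reg (X k)) (hM : ∀ k, Reg (M k)) :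
    ∃ κ ∈ L0 F h.good E, Commute κ (tor D A (E.cs D a)) ∧
      κ * Phi h ok X * κ⁻¹ = Phi h ok M := by
  choose S d hSd using fun k =>
    reg_conj (by have := ok.three_le k; omega) (hM k) (hX k)
  obtain ⟨c, hc⟩ := exists_dconj h ok d
  refine ⟨Phi h ok S * tor D A c, mul_mem (Phi_mem_L0 h ok S)
    ((le_sup_left : (tor D A).range ≤ L0 F h.good E) ⟨c, rfl⟩), ?_, ?_⟩
  · exact (tor_comm_Phi h ok a S).symm.mul_left (tor_mul_comm c (E.cs D a))
  · rw [show Phi h ok S * tor D A c * Phi h ok X * (Phi h ok S * tor D A c)⁻¹ =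
      Phi h ok S * (tor D A c * Phi h ok X * (tor D A c)⁻¹) * (Phi h ok S)⁻¹ by group,
      hc, ← map_inv, ← map_mul, ← map_mul]
    exact congrArg _ (funext fun k => (hSd k).symm)

/-- the flipping map on edges -/
lemma exists_flip (ok : E.OK D A) : ∃ f : Pr E → Pr E, Function.Bijective f ∧
    ∀ p : Pr E, wf A E.w0 (E.rho D A p.1 p.2 (p.2 + 1)) =
      E.rho D A (f p).1 ((f p).2 + 1) (f p).2 := by
  classical
  have hc := ok.flipc
  simp only [flipCheck, List.all_eq_true, List.mem_range, Bool.and_eq_true, decide_eq_true_eq,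
    List.any_eq_true] at hc
  obtain ⟨⟨⟨-, h3⟩, h4⟩, h5⟩ := hc
  have hex : ∀ p : Pr E, ∃ q : Pr E,
      wf A E.w0 (E.rho D A p.1 p.2 (p.2 + 1)) = E.rho D A q.1 (q.2 + 1) q.2 := by
    rintro ⟨k, i⟩
    obtain ⟨k', hk', i', hi', e⟩ := h3 k k.isLt i i.isLt
    exact ⟨⟨⟨k', hk'⟩, ⟨i', hi'⟩⟩, e⟩
  choose f hf using hex
  refine ⟨f, Finite.surjective_iff_bijective.1 ?_, hf⟩
  rintro ⟨k', i'⟩
  obtain ⟨k, hk, i, hi, e⟩ := h4 k' k'.isLt i' i'.isLt
  refine ⟨⟨⟨k, hk⟩, ⟨i, hi⟩⟩, ?_⟩
  have e2 := (hf ⟨⟨k, hk⟩, ⟨i, hi⟩⟩).symm.trans e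
  set q := f ⟨⟨k, hk⟩, ⟨i, hi⟩⟩
  obtain ⟨h6, h7⟩ := (h5 q.1 q.1.isLt q.2 q.2.isLt k' k'.isLt i' i'.isLt).resolve_right
    (fun hne => hne e2)
  exact Sigma.ext (Fin.ext h6) ((Fin.heq_ext_iff (by rw [h6])).2 h7)

lemma flip_spec (ok : E.OK D A) :
    Letters D E.w0 ∧ ∀ r < D.nroots, E.lv D A (wf A E.w0 r) = - E.lv D A r := by
  have hc := ok.flipc
  simp only [flipCheck, List.all_eq_true, List.mem_range, Bool.and_eq_true, decide_eq_true_eq] at hc
  exact ⟨hc.1.1.1.1, hc.1.1.1.2⟩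

lemma n_conj_cs (h : Std D A) (ok : E.OK D A) (a : Fˣ) :
    nW F h.good E.w0 * tor D A (E.cs D a) * (nW F h.good E.w0)⁻¹ = (tor D A (E.cs D a))⁻¹ := by
  have g := h.good
  obtain ⟨hw, hflip⟩ := flip_spec ok
  set n := nW F g E.w0
  have hact : Acts g n (wf A E.w0) := nW_acts g hw
  obtain ⟨d, hd⟩ := monomial_conj_tor g (nW_mem (F := F) g hw) (E.cs D a)
  rw [hd, eq_inv_iff_mul_eq_one, ← map_mul]
  refine tor_eq_one g _ fun i hi => ?_
  obtain ⟨r, hr, e⟩ := hact.surj (g.simple_lt i hi)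
  obtain ⟨k, hk, ek⟩ := hact.conj r hr
  have hlt := hact.map.1 r hr
  have e1 := congrArg (fun z => n * z * n⁻¹) (tor_conj_xG g (E.cs D a) hr (1 : F))
  simp only [ek] at e1
  rw [show n * (tor D A (E.cs D a) * xG g r 1 * (tor D A (E.cs D a))⁻¹) * n⁻¹ =
    (n * tor D A (E.cs D a) * n⁻¹) * (n * xG g r 1 * n⁻¹) *
      (n * tor D A (E.cs D a) * n⁻¹)⁻¹ by group, hd, ek, tor_conj_xG g d hlt] at e1
  have e2 : (chi D A d (wf A E.w0 r) : F) = chi D A (E.cs D a) r := by
    have h3 := xG_eq_one h hlt (t := (chi D A d (wf A E.w0 r) : F) * (k * 1) +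
      -(k * ((chi D A (E.cs D a) r : F) * 1)))
      (by rw [← xG_add, ← xG_inv, e1, mul_inv_cancel])
    have h4 : ((chi D A d (wf A E.w0 r) : F) - chi D A (E.cs D a) r) * k = 0 := by
      linear_combination h3
    exact sub_eq_zero.1 ((mul_eq_zero.1 h4).resolve_right hk)
  rw [← e, chi_mul, Units.ext e2, chi_cs ok a hr, chi_cs ok a hlt, hflip r hr, _root_.zpow_neg,
    mul_inv_cancel]

lemma lev_chi_one {a : Fˣ} (ha : 8 ≤ orderOf a) (ok : E.OK D A) {r : ℕ} (hr : r < D.nroots)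
    (h1 : chi D A (E.cs D a) r = 1) : E.lv D A r = 0 := by
  rw [chi_cs ok a hr, ← orderOf_dvd_iff_zpow_eq_one] at h1
  obtain ⟨-, h7⟩ := ok.lev_spec hr
  refine Int.eq_zero_of_abs_lt_dvd h1 ?_
  rw [Int.abs_eq_natAbs]
  omega

lemma fix_RP (h : Std D A) (ok : E.OK D A) {a : Fˣ} (ha : 8 ≤ orderOf a) {r : GL D.Idx F}
    (hr : r ∈ RP F h.good E) (hc : Commute (tor D A (E.cs D a)) r) : r = 1 := by
  have g := h.good
  have hpos := RP_le ok g hr
  rw [← UL_posRoots g] at hpos
  obtain ⟨T, eT⟩ := exists_pw h upList_posRoots hpos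
  have hlt : ∀ q ∈ D.posRoots, q < D.nroots := fun q hq => (posRoots_mem.1 hq).1
  have hfix : pw g D.posRoots (fun q => (chi D A (E.cs D a) q : F) * T q) =
      pw g D.posRoots T := by
    rw [← tor_conj_pw g _ T hlt, ← eT, hc.eq, mul_inv_cancel_right]
  have h0 : r ∈ utG (fun x => -levW D A (fun j => E.l.getD j 0) x) := by
    rw [eT]
    refine list_prod_mem fun y hy => ?_
    obtain ⟨q, hq, rfl⟩ := List.mem_map.1 hy
    by_cases hT : T q = 0
    · rw [hT, xG_zero]; exact one_mem _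
    · refine xG_mem_utG_lev g _ (hlt q hq) _ (lev_chi_one ha ok (hlt q hq) ?_)
      exact Units.ext (mul_right_cancel₀ hT
        ((pw_inj h upList_posRoots hfix q hq).trans (one_mul _).symm))
  refine utG_inf_triG _ h0 ?_
  have : RP F g E ≤ triG (fun x => - -levW D A (fun j => E.l.getD j 0) x) 0 le_rfl :=
    UP_le fun q t hq => xG_mem_triG_lev g _ hq.1 t hq.2
  exact this hr

lemma fix_RN (h : Std D A) (ok : E.OK D A) {a : Fˣ} (ha : 8 ≤ orderOf a) {r : GL D.Idx F}
    (hr : r ∈ RN F h.good E) (hc : Commute (tor D A (E.cs D a)) r) : r = 1 := by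
  have g := h.good
  obtain ⟨hw, hflip⟩ := flip_spec ok
  set n := nW F g E.w0
  have hact : Acts g n (wf A E.w0) := nW_acts g hw
  have hmem : n * r * n⁻¹ ∈ RP F g E := conj_UP_le hact (fun q hq => hq.1)
    (fun q t hq => xG_mem_UP g ⟨hact.map.1 q hq.1, by rw [hflip q hq.1]; linarith [hq.2]⟩ t) hr
  have hc' : Commute (n * tor D A (E.cs D a) * n⁻¹) (n * r * n⁻¹) :=
    hc.map (MulAut.conj n).toMonoidHom
  rw [n_conj_cs h ok a] at hc'
  exact conj_eq_one_iff.1 (fix_RP h ok ha hmem (Commute.inv_left_iff.1 hc'))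

lemma pow_eq [Fintype F] (a : Fˣ) (k : ℕ) : a ^ (Fintype.card F ^ k) = a :=
  Units.ext (by rw [Units.val_pow_eq_pow_val]; exact FiniteField.pow_card_pow k _)

/-- fixed point free elements of the Levi subgroup -/
lemma fpf (h : Std D A) (ok : E.OK D A) {a : Fˣ} (ha : 8 ≤ orderOf a) {s : GL D.Idx F}
    (hs : s = tor D A (E.cs D a) ∨ s = (tor D A (E.cs D a))⁻¹) {Z : Prod F E}
    (hZ : ∀ k, Reg (Z k)) :
    Fpf (RP F h.good E) (s * Phi h ok Z) ∧ Fpf (RN F h.good E) (s * Phi h ok Z) := by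
  have := Fintype.ofFinite F
  have g := h.good
  set t := tor D A (E.cs D a)
  set N := Fintype.card F ^ ∑ k : Fin E.m, E.deg k
  have ht : t ^ N = t := by
    rw [← map_pow]
    congr 1
    funext i
    simp only [Pi.pow_apply, cs]
    exact pow_eq _ _
  have hsN : s ^ N = s := by
    rcases hs with rfl | rfl
    · exact ht
    · rw [inv_pow, ht]
  have hsZ : Commute s (Phi h ok Z) := by
    rcases hs with rfl | rfl
    · exact tor_comm_Phi h ok a Z
    · exact (tor_comm_Phi h ok a Z).inv_left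
  have hpow : (s * Phi h ok Z) ^ N = s := by
    rw [hsZ.mul_pow, hsN, ← map_pow, show Z ^ N = 1 from funext fun k =>
      reg_pow_one (by have := ok.three_le k; omega) (hZ k)
        (Finset.single_le_sum (f := fun k : Fin E.m => E.deg k) (fun _ _ => Nat.zero_le _)
          (Finset.mem_univ k)), map_one, mul_one]
  have hmem : s * Phi h ok Z ∈ L0 F g E := by
    refine mul_mem ?_ (Phi_mem_L0 h ok Z)
    have : t ∈ L0 F g E := (le_sup_left : (tor D A).range ≤ L0 F g E) ⟨_, rfl⟩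
    rcases hs with rfl | rfl
    · exact this
    · exact inv_mem this
  have hcomm : ∀ r, s * Phi h ok Z * r = r * (s * Phi h ok Z) → Commute t r := by
    intro r e
    have : Commute ((s * Phi h ok Z) ^ N) r := Commute.pow_left e N
    rw [hpow] at this
    rcases hs with rfl | rfl
    · exact this
    · exact Commute.inv_left_iff.1 this
  exact ⟨⟨fun r hr => (Subgroup.mem_normalizer_iff.1 (L0_le_RP h hmem) r).1 hr,
      fun r hr e => fix_RP h ok ha hr (hcomm r e)⟩,
    ⟨fun r hr => (Subgroup.mem_normalizer_iff.1 (L0_le_RN h hmem) r).1 hr,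
      fun r hr e => fix_RN h ok ha hr (hcomm r e)⟩⟩

variable (F) in
/-- tuples of unitriangular matrices -/
def tri (E : EData) (b : Bool) : Subgroup (Prod F E) :=
  Subgroup.pi Set.univ fun _ => triSub b

lemma neg_split (h : Std D A) (ok : E.OK D A) {v : GL D.Idx F} (hv : v ∈ D.negUnipotent F) :
    ∃ r ∈ RN F h.good E, ∃ L, (∀ k, L k ∈ triSub false) ∧ v = r * Phi h ok L := by
  have g := h.good
  have hle : D.negUnipotent F ≤ RN F g E ⊔ (tri F E false).map (Phi h ok) := by
    rw [negUnipotent_eq g, Subgroup.closure_le]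
    rintro y ⟨q, t, hq, rfl⟩
    rcases lt_trichotomy (E.lv D A q) 0 with hl | hl | hl
    · exact (le_sup_left : _ ≤ RN F g E ⊔ _) (xG_mem_UP g ⟨hq.1, hl⟩ t)
    · obtain ⟨k, i, j, hij, e⟩ := ok.cover hq.1 hl
      obtain ⟨-, -, heps, hpos⟩ := ok.root_spec g k i.isLt j.isLt (Fin.val_ne_of_ne hij)
      refine (le_sup_right : _ ≤ RN F g E ⊔ _) ⟨Pi.mulSingle k
        (CfsgLib.StSL.tv i j ((E.eps D A k i j : F) * t)), fun k' _ => ?_, ?_⟩
      · rcases eq_or_ne k' k with rfl | hk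
        · rw [Pi.mulSingle_eq_same]
          refine Subgroup.subset_closure ⟨i, j, ?_, _, rfl⟩
          rw [e] at hpos
          have := Fin.val_ne_of_ne hij
          have : ¬ i.val < j.val := fun hh => not_pos_of_isNeg g hq (hpos.2 hh)
          simp; omega
        · simp only [Pi.mulSingle_eq_of_ne hk, SetLike.mem_coe]; exact one_mem (triSub _)
      · rw [Phi_single, phi_tv h ok k hij, el, e, ← mul_assoc]
        rcases heps with h' | h' <;> simp [h']
    · have := ok.lev_pos g ((posRoot_neg g hq.1).2 hq)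
      rw [EData.lv, lev_neg g _ hq.1] at this
      rw [EData.lv] at hl
      omega
  have hnorm : (tri F E false).map (Phi h ok) ≤ Subgroup.normalizer (RN F g E : Set _) := by
    rintro y ⟨Z, -, rfl⟩
    exact L0_le_RN h (Phi_mem_L0 h ok Z)
  have hv' := hle hv
  rw [← SetLike.mem_coe, Subgroup.coe_mul_of_right_le_normalizer_left _ _ hnorm] at hv'
  obtain ⟨r, hr, y, ⟨L, hL, rfl⟩, rfl⟩ := hv'
  exact ⟨r, hr, L, fun k => hL k (Set.mem_univ k), rfl⟩

lemma pos_split_lev (h : Std D A) (ok : E.OK D A) {w : GL D.Idx F} (hw : w ∈ D.posUnipotent F) :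
    ∃ r ∈ RP F h.good E, ∃ U, (∀ k, U k ∈ triSub true) ∧ w = Phi h ok U * r := by
  have g := h.good
  have hle : D.posUnipotent F ≤ (tri F E true).map (Phi h ok) ⊔ RP F g E := by
    rw [posUnipotent_eq g, Subgroup.closure_le]
    rintro y ⟨q, t, hq, rfl⟩
    rcases lt_trichotomy (E.lv D A q) 0 with hl | hl | hl
    · have := ok.lev_pos g hq
      omega
    · obtain ⟨k, i, j, hij, e⟩ := ok.cover hq.1 hl
      obtain ⟨-, -, heps, hpos⟩ := ok.root_spec g k i.isLt j.isLt (Fin.val_ne_of_ne hij)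
      refine (le_sup_left : _ ≤ _ ⊔ RP F g E) ⟨Pi.mulSingle k
        (CfsgLib.StSL.tv i j ((E.eps D A k i j : F) * t)), fun k' _ => ?_, ?_⟩
      · rcases eq_or_ne k' k with rfl | hk
        · rw [Pi.mulSingle_eq_same]
          exact Subgroup.subset_closure ⟨i, j, by simpa using hpos.1 (e ▸ hq), _, rfl⟩
        · simp only [Pi.mulSingle_eq_of_ne hk, SetLike.mem_coe]; exact one_mem (triSub _)
      · rw [Phi_single, phi_tv h ok k hij, el, e, ← mul_assoc]
        rcases heps with h' | h' <;> simp [h']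
    · exact (le_sup_right : _ ≤ _ ⊔ RP F g E) (xG_mem_UP g ⟨hq.1, hl⟩ t)
  have hnorm : (tri F E true).map (Phi h ok) ≤ Subgroup.normalizer (RP F g E : Set _) := by
    rintro y ⟨Z, -, rfl⟩
    exact L0_le_RP h (Phi_mem_L0 h ok Z)
  have hw' := hle hw
  rw [← SetLike.mem_coe, Subgroup.coe_mul_of_left_le_normalizer_right _ _ hnorm] at hw'
  obtain ⟨y, ⟨U, hU, rfl⟩, r, hr, rfl⟩ := hw'
  exact ⟨r, hr, U, fun k => hU k (Set.mem_univ k), rfl⟩

/-- the element whose class squares to the whole group -/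
theorem exists_square_class (h : Std D A) (ok : E.OK D A) {col : ℕ → Bool} (hd : Diag D A col)
    [Fintype F] (hq : 9 ≤ Fintype.card F) :
    ∃ z ∈ D.group F, ∀ y ∈ D.group F, ∃ u ∈ D.group F, ∃ v ∈ D.group F,
      y = (u * z * u⁻¹) * (v * z * v⁻¹) := by
  have g := h.good
  obtain ⟨a, ha⟩ := IsCyclic.exists_ofOrder_eq_natCard (α := Fˣ)
  have ha8 : 8 ≤ orderOf a := by
    rw [ha, Nat.card_units, Nat.card_eq_fintype_card]; omega
  set s := tor D A (E.cs D a)
  obtain ⟨f, hf, hflip⟩ := exists_flip ok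
  obtain ⟨hw, -⟩ := flip_spec ok
  set n := nW F g E.w0
  have hact : Acts g n (wf A E.w0) := nW_acts g hw
  have hnG : n ∈ D.group F := monomialSubgroup_le_group g (nW_mem g hw)
  let X : Prod F E := prodGen true id (fun _ => 1) Finset.univ.toList
  have hX : ∀ k, Reg (X k) := prodGen_reg ok true Function.bijective_id fun _ => one_ne_zero
  -- the flipped element
  have hgen : ∀ p : Pr E, ∃ c : F, c ≠ 0 ∧
      n * Phi h ok (gen true p 1) * n⁻¹ = Phi h ok (gen false (f p) c) := by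
    intro p
    obtain ⟨hr, -, he, -⟩ :=
      ok.root_spec g p.1 p.lo.isLt p.hi.isLt (Fin.val_ne_of_ne p.lo_ne)
    obtain ⟨-, -, he', -⟩ :=
      ok.root_spec g (f p).1 (f p).hi.isLt (f p).lo.isLt (Fin.val_ne_of_ne (f p).lo_ne.symm)
    obtain ⟨k, hk, ek⟩ := hact.conj _ hr
    set e : F := (E.eps D A p.1 p.lo p.hi : F)
    set e' : F := (E.eps D A (f p).1 (f p).hi (f p).lo : F)
    have hee : e' * e' = 1 := by rcases he' with h' | h' <;> simp [e', h']
    have he0 : e ≠ 0 := by rcases he with h' | h' <;> simp [e, h']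
    have he0' : e' ≠ 0 := fun h' => by rw [h', mul_zero] at hee; exact zero_ne_one hee
    refine ⟨e' * (k * e), mul_ne_zero he0' (mul_ne_zero hk he0), ?_⟩
    rw [Phi_gen, Phi_gen, if_pos rfl, if_neg Bool.false_ne_true]
    simp only [el]
    rw [ek, show wf A E.w0 (E.rho D A p.1 p.lo p.hi) = E.rho D A (f p).1 (f p).hi (f p).lo
      from hflip p]
    congr 1
    rw [← mul_assoc e', hee, one_mul, mul_one]
  choose c hc hcn using hgen
  let Q : Prod F E := prodGen false f c Finset.univ.toList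
  have hQ : ∀ k, Reg (Q k) := prodGen_reg ok false hf hc
  have hXQ : n * Phi h ok X * n⁻¹ = Phi h ok Q := by
    show MulAut.conj n (Phi h ok _) = _
    simp only [X, Q, prodGen, map_list_prod, List.map_map]
    exact congrArg List.prod (List.map_congr_left fun p _ => hcn p)
  set z := s * Phi h ok X
  have hsG : s ∈ L0 F g E := (le_sup_left : (tor D A).range ≤ L0 F g E) ⟨_, rfl⟩
  have hzG : z ∈ D.group F := L0_le_group g (mul_mem hsG (Phi_mem_L0 h ok X))
  refine ⟨z, hzG, fun y hy => ?_⟩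
  obtain ⟨x, hx, v, hv, w, hw', exy⟩ : ∃ x ∈ D.group F, ∃ v ∈ D.negUnipotent F,
      ∃ w ∈ D.posUnipotent F, x * y * x⁻¹ = v * w := by
    rcases eq_or_ne y 1 with rfl | hy1
    · exact ⟨1, one_mem _, 1, one_mem _, 1, one_mem _, by simp⟩
    · exact gauss_one h hq hd hy hy1
  obtain ⟨rn, hrn, L, hL, rfl⟩ := neg_split h ok hv
  obtain ⟨rp, hrp, U, hU, rfl⟩ := pos_split_lev h ok hw'
  have h4 : 4 ≤ ENat.card F := by
    rw [ENat.card_eq_coe_fintype_card]; exact_mod_cast (by omega : 4 ≤ Fintype.card F)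
  choose M N hM hN hLU using fun k => exists_two_reg h4 (ok.three_le k) (hL k) (hU k)
  obtain ⟨κ, hκ, hκs, eκ⟩ := exists_kappa h ok a hX hM
  obtain ⟨μ, hμ, hμs, eμ⟩ := exists_kappa h ok a hQ hN
  refine cover_two (Rn := RN F g E) (Rp := RP F g E) (X := D.group F) (group_le_of_UP g _)
    (group_le_of_UP g _) (fpf h ok ha8 (Or.inl rfl) hM).2 (fpf h ok ha8 (Or.inr rfl) hN).1
    ⟨κ, L0_le_group g hκ, ?_⟩ ⟨μ * n, mul_mem (L0_le_group g hμ) hnG, ?_⟩ hrn hrp ⟨x, hx, ?_⟩
  · rw [show κ * z * κ⁻¹ = (κ * s * κ⁻¹) * (κ * Phi h ok X * κ⁻¹) by simp only [z]; group, eκ,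
      hκs.eq, mul_inv_cancel_right]
  · rw [show μ * n * z * (μ * n)⁻¹ =
      (μ * (n * s * n⁻¹) * μ⁻¹) * (μ * (n * Phi h ok X * n⁻¹) * μ⁻¹) by simp only [z]; group,
      hXQ, eμ, n_conj_cs h ok a, hμs.inv_right.eq, mul_inv_cancel_right]
  · rw [exy, show rn * Phi h ok L * (Phi h ok U * rp) = rn * (Phi h ok L * Phi h ok U) * rp by group,
      ← map_mul, show L * U = M * N from funext hLU, map_mul]
    congr 2
    rw [show s * Phi h ok M * (s⁻¹ * Phi h ok N) =
      (s * Phi h ok M * s⁻¹) * Phi h ok N by group, (tor_comm_Phi h ok a M).eq,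
      mul_inv_cancel_right]

end EData

end CfsgLib.Thompson
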