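import Cfsg.Agent.Lib.KnownB.Thompson.BigCell

/-!
Gauss decomposition with trivial torus part: over a field with at least nine elements every
non-identity element of a Chevalley group is conjugate to a product of a lower and an upper
unipotent element.
-/

set_option autoImplicit false

namespace CfsgLib.Thompson

open Cfsg.Lie Matrix CfsgLib.Chev

variable {F : Type*} [Field F]

/-- A unit avoiding finitely many equations `a * z ^ k = 1`, when the exponents are small. -/
theorem exists_avoid [Fintype F] {ι : Type*} (T : Finset ι) (a : ι → Fˣ) (k : ι → ℤ)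
    (hT : ∑ j ∈ T, (k j).natAbs + 1 < Fintype.card F) :
    ∃ z : Fˣ, ∀ j ∈ T, k j ≠ 0 → a j * z ^ k j ≠ 1 := by
  classical
  let t : ι → F := fun j => if 0 < k j then (((a j)⁻¹ : Fˣ) : F) else (a j : F)
  let S : Finset F := insert 0 (T.biUnion fun j => (Polynomial.nthRoots (k j).natAbs (t j)).toFinset)
  have hS : S.card < Fintype.card F := by
    refine lt_of_le_of_lt ((Finset.card_insert_le _ _).trans (Nat.add_le_add_right
      (Finset.card_biUnion_le.trans (Finset.sum_le_sum fun j _ => ?_)) 1)) hT
    exact (Multiset.toFinset_card_le _).trans (Polynomial.card_nthRoots _ _)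
  obtain ⟨z, -, hz⟩ := Finset.exists_mem_notMem_of_card_lt_card (s := S) (t := Finset.univ) hS
  simp only [S, Finset.mem_insert, Finset.mem_biUnion, Multiset.mem_toFinset, not_or, not_exists,
    not_and] at hz
  refine ⟨Units.mk0 z hz.1, fun j hj hk e => hz.2 j hj ?_⟩
  rw [Polynomial.mem_nthRoots (Int.natAbs_pos.2 hk)]
  rcases lt_or_gt_of_ne hk with hn | hp
  · rw [show k j = -((k j).natAbs : ℤ) by omega, _root_.zpow_neg, zpow_natCast,
      mul_inv_eq_one] at e
    simp only [t, if_neg (show ¬ 0 < k j by omega)]
    have := congrArg Units.val e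
    simpa using this.symm
  · rw [show k j = ((k j).natAbs : ℤ) by omega, zpow_natCast, mul_comm, ← eq_inv_iff_mul_eq_one] at e
    simp only [t, if_pos hp]
    have := congrArg Units.val e
    simpa using this

variable {D : ChevalleyDatum} {A : Aux}

/-- two-colourable connected diagram with small rows -/
noncomputable def diagCheck (D : ChevalleyDatum) (A : Aux) (col : ℕ → Bool) : Bool :=
  (List.range D.rank).all fun i =>
    decide (((List.range D.rank).map fun j => (A.cart i (D.simple j)).natAbs).sum ≤ 5) &&
    (List.range D.rank).all fun j =>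
      decide (i = j ∨ A.cart i (D.simple j) = 0 ∨ col i ≠ col j) &&
      decide (A.cart i (D.simple j) = 0 → A.cart j (D.simple i) = 0)

/-- connectedness of the diagram -/
noncomputable def connCheck (D : ChevalleyDatum) (A : Aux) : Bool :=
  (List.range (2 ^ D.rank)).all fun S =>
    decide (S = 0 ∨ S + 1 = 2 ^ D.rank) || (List.range D.rank).any fun i =>
      S.testBit i && (List.range D.rank).any fun j =>
        !S.testBit j && decide (A.cart i (D.simple j) ≠ 0)

/-- the hypotheses on the diagram -/
structure Diag (D : ChevalleyDatum) (A : Aux) (col : ℕ → Bool) : Prop where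
  diag : diagCheck D A col = true
  conn : connCheck D A = true

lemma Diag.row {col : ℕ → Bool} (hd : Diag D A col) (i : Fin D.rank) :
    ∑ j : Fin D.rank, (A.cart i.val (D.simple j.val)).natAbs ≤ 5 := by
  have h := hd.diag
  simp only [diagCheck, List.all_eq_true, List.mem_range, Bool.and_eq_true, decide_eq_true_eq] at h
  refine le_trans (le_of_eq ?_) (h i i.isLt).1
  rw [← Finset.sum_range fun j => (A.cart i.val (D.simple j)).natAbs]
  rfl

lemma Diag.colour {col : ℕ → Bool} (hd : Diag D A col) (i j : Fin D.rank)
    (hij : i ≠ j) (hc : col i = col j) : A.cart i.val (D.simple j.val) = 0 := by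
  have h := hd.diag
  simp only [diagCheck, List.all_eq_true, List.mem_range, Bool.and_eq_true, decide_eq_true_eq] at h
  rcases ((h i i.isLt).2 j j.isLt).1 with e | e | e
  · exact absurd (Fin.ext e) hij
  · exact e
  · exact absurd hc e

lemma Diag.exists_edge {col : ℕ → Bool} (hd : Diag D A col) (S : Finset (Fin D.rank))
    (h1 : S.Nonempty) (h2 : S ≠ Finset.univ) :
    ∃ i ∈ S, ∃ j ∉ S, A.cart i.val (D.simple j.val) ≠ 0 := by
  classical
  have h := hd.conn
  simp only [connCheck, List.all_eq_true, List.mem_range, Bool.or_eq_true, decide_eq_true_eq,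
    List.any_eq_true, Bool.and_eq_true, Bool.not_eq_true'] at h
  let N : ℕ := ∑ i ∈ S.map Fin.valEmbedding, 2 ^ i
  have hbit : ∀ i : Fin D.rank, N.testBit i.val = decide (i ∈ S) := by
    intro i
    have hb := congrArg (fun T : Finset ℕ => decide (i.val ∈ T))
      (Finset.toFinset_bitIndices_sum_two_pow (S.map Fin.valEmbedding))
    simp only [List.mem_toFinset, Nat.mem_bitIndices] at hb
    simpa [Fin.val_inj, N] using hb
  have hN : N < 2 ^ D.rank := Nat.geomSum_lt le_rfl fun k hk => by
    obtain ⟨i, -, rfl⟩ := Finset.mem_map.1 hk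
    exact i.isLt
  rcases h N hN with (e | e) | ⟨i, hi, hiS, j, hj, hjS, hc⟩
  · obtain ⟨i, hi⟩ := h1
    have := hbit i
    rw [e] at this
    simp [hi] at this
  · obtain ⟨i, hi⟩ : ∃ i, i ∉ S := by
      by_contra hh
      push Not at hh
      exact h2 (Finset.eq_univ_of_forall hh)
    have := hbit i
    rw [show N = 2 ^ D.rank - 1 by omega, Nat.testBit_two_pow_sub_one] at this
    simp [hi] at this
  · exact ⟨⟨i, hi⟩, by simpa [hiS] using (hbit ⟨i, hi⟩), ⟨j, hj⟩, by simpa [hjS] using (hbit ⟨j, hj⟩),
      hc⟩

lemma chi_update (c : Fin D.rank → Fˣ) (i : Fin D.rank) (z : Fˣ) (s : ℕ) :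
    chi D A (Function.update c i z) s =
      chi D A c s * (c i)⁻¹ ^ A.cart i.val s * z ^ A.cart i.val s := by
  simp only [chi]
  rw [← Finset.mul_prod_erase _ _ (Finset.mem_univ i), Function.update_self,
    ← Finset.mul_prod_erase _ (fun j => c j ^ A.cart j.val s) (Finset.mem_univ i)]
  have e : ∀ j ∈ Finset.univ.erase i, Function.update c i z j ^ A.cart j.val s = c j ^ A.cart j.val s :=
    fun j hj => by rw [Function.update_of_ne (Finset.ne_of_mem_erase hj)]
  rw [Finset.prod_congr rfl e, _root_.inv_zpow]
  simp only [mul_comm, mul_left_comm, mul_inv_cancel_left]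

variable [Fintype F]

/-- a value of the `i`th coordinate keeping the visible characters nontrivial -/
lemma exists_update (hq : 9 ≤ Fintype.card F) {col : ℕ → Bool} (hd : Diag D A col)
    (c : Fin D.rank → Fˣ) (i : Fin D.rank) (b : Bool) :
    ∃ z : Fˣ, (b = true → z ^ 2 ≠ 1) ∧ (∀ j : Fin D.rank, A.cart i.val (D.simple j.val) ≠ 0 →
      chi D A (Function.update c i z) (D.simple j.val) ≠ 1) := by
  classical
  let a : Option (Fin D.rank) → Fˣ := fun o => o.elim 1 fun j =>
    chi D A c (D.simple j.val) * (c i)⁻¹ ^ A.cart i.val (D.simple j.val)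
  let k : Option (Fin D.rank) → ℤ := fun o => o.elim (if b then 2 else 0) fun j =>
    A.cart i.val (D.simple j.val)
  obtain ⟨z, hz⟩ := exists_avoid (F := F) Finset.univ a k (by
    rw [Fintype.sum_option]
    have := hd.row i
    cases b <;> simp only [k, Option.elim] <;> simp <;> omega)
  refine ⟨z, fun hb => ?_, fun j hj => ?_⟩
  · have := hz none (Finset.mem_univ _) (by simp [k, hb])
    simpa [a, k, hb] using this
  · rw [chi_update]
    exact hz (some j) (Finset.mem_univ _) hj

omit [Fintype F] in
lemma chi_update_of (c : Fin D.rank → Fˣ) (i : Fin D.rank) (z : Fˣ) {s : ℕ}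
    (hs : A.cart i.val s = 0) : chi D A (Function.update c i z) s = chi D A c s := by
  rw [chi_update, hs, zpow_zero, zpow_zero, mul_one, mul_one]

/-- every fundamental character is nontrivial -/
theorem exists_regular (h : Std D A) (hq : 9 ≤ Fintype.card F) {col : ℕ → Bool}
    (hd : Diag D A col) {y : GL D.Idx F} (hy : y ∈ D.group F) (hy1 : y ≠ 1) :
    ∃ c, St F h.good y c ∧ ∀ j : Fin D.rank, chi D A c (D.simple j.val) ≠ 1 := by
  classical
  obtain ⟨i₀, c₀, hc₀⟩ := exists_start h hy hy1
  suffices ∀ k, ∀ c, St F h.good y c →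
      ∀ S : Finset (Fin D.rank), S.Nonempty → (∀ j ∈ S, chi D A c (D.simple j.val) ≠ 1) →
      D.rank - S.card = k → ∃ c, St F h.good y c ∧ ∀ j : Fin D.rank, chi D A c (D.simple j.val) ≠ 1 by
    obtain ⟨z, -, hz⟩ := exists_update hq hd c₀ i₀ false
    refine this _ (Function.update c₀ i₀ z) ?_ {i₀} (Finset.singleton_nonempty _) (fun j hj => ?_) rfl
    · convert hc₀ (z * (c₀ i₀)⁻¹) using 1
      funext j
      rcases eq_or_ne j i₀ with rfl | hj
      · simp
      · simp [hj]
    · rw [Finset.mem_singleton.1 hj]
      exact hz i₀ (by rw [h.good.cart_simple i₀ i₀.isLt]; omega)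
  intro k
  induction k using Nat.strong_induction_on with
  | _ k ih =>
  intro c hc S hne hS hk
  by_cases hu : S = Finset.univ
  · exact ⟨c, hc, fun j => hS j (by rw [hu]; exact Finset.mem_univ j)⟩
  obtain ⟨i, hi, j, hj, hij⟩ := hd.exists_edge S hne hu
  obtain ⟨z, -, hz⟩ := exists_update hq hd c i false
  refine ih _ ?_ _ (hc.move h i (hS i hi) z) (insert j S) (Finset.insert_nonempty _ _) (fun l hl => ?_) rfl
  · have h1 : (insert j S).card = S.card + 1 := Finset.card_insert_of_notMem hj
    have h2 : (insert j S).card ≤ D.rank := by simpa using Finset.card_le_univ (insert j S)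
    omega
  · by_cases hl0 : A.cart i.val (D.simple l.val) = 0
    · rw [chi_update_of _ _ _ hl0]
      rcases Finset.mem_insert.1 hl with rfl | hl'
      · exact absurd hl0 hij
      · exact hS l hl'
    · exact hz l hl0

/-- Gauss decomposition with trivial torus part -/
theorem gauss_one (h : Std D A) (hq : 9 ≤ Fintype.card F) {col : ℕ → Bool}
    (hd : Diag D A col) {y : GL D.Idx F} (hy : y ∈ D.group F) (hy1 : y ≠ 1) :
    ∃ x ∈ D.group F, ∃ v ∈ D.negUnipotent F, ∃ w ∈ D.posUnipotent F, x * y * x⁻¹ = v * w := by
  classical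
  obtain ⟨c₀, hc₀, hreg⟩ := exists_regular h hq hd hy hy1
  -- first colour: square non-trivial
  have p1 : ∀ S : Finset (Fin D.rank), (∀ i ∈ S, col i = true) → ∃ c, St F h.good y c ∧
      (∀ j : Fin D.rank, chi D A c (D.simple j.val) ≠ 1) ∧ ∀ i ∈ S, c i ^ 2 ≠ 1 := by
    intro S
    induction S using Finset.induction_on with
    | empty => intro _; exact ⟨c₀, hc₀, hreg, by simp⟩
    | insert i S hiS ih =>
      intro hcol
      obtain ⟨c, hc, hr, hs⟩ := ih fun j hj => hcol j (Finset.mem_insert_of_mem hj)
      obtain ⟨z, hz2, hz⟩ := exists_update hq hd c i true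
      refine ⟨_, hc.move h i (hr i) z, fun j => ?_, fun j hj => ?_⟩
      · by_cases hl0 : A.cart i.val (D.simple j.val) = 0
        · rw [chi_update_of _ _ _ hl0]; exact hr j
        · exact hz j hl0
      · rcases Finset.mem_insert.1 hj with rfl | hj'
        · rw [Function.update_self]; exact hz2 rfl
        · rw [Function.update_of_ne (by rintro rfl; exact hiS hj')]; exact hs j hj'
  obtain ⟨c₁, hc₁, hr₁, hs₁⟩ := p1 (Finset.univ.filter fun i => col i = true) (by simp)
  -- second colour: trivial
  have p2 : ∀ S : Finset (Fin D.rank), (∀ i ∈ S, col i = false) →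
      St F h.good y (fun i => if i ∈ S then 1 else c₁ i) := by
    intro S
    induction S using Finset.induction_on with
    | empty => intro _; simpa using hc₁
    | insert i S hiS ih =>
      intro hcol
      have hm := ih fun j hj => hcol j (Finset.mem_insert_of_mem hj)
      set c := fun j => if j ∈ S then (1 : Fˣ) else c₁ j
      have e : chi D A c (D.simple i.val) = chi D A c₁ (D.simple i.val) := by
        refine Finset.prod_congr rfl fun l _ => ?_
        by_cases hl : l ∈ S
        · have hli : l ≠ i := by rintro rfl; exact hiS hl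
          rw [hd.colour l i hli (by
            rw [hcol l (Finset.mem_insert_of_mem hl), hcol i (Finset.mem_insert_self _ _)]),
            zpow_zero, zpow_zero]
        · simp [c, hl]
      convert hm.move h i (e ▸ hr₁ i) 1 using 1
      funext j
      by_cases hji : j = i
      · subst hji; simp
      · simp [c, Function.update_of_ne hji, hji]
  have h2 := p2 (Finset.univ.filter fun i => col i = false) (by simp)
  set c₂ : Fin D.rank → Fˣ := fun i => if col i = false then 1 else c₁ i
  have h2' : St F h.good y c₂ := by simpa [c₂] using h2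
  -- first colour: trivial
  have p3 : ∀ S : Finset (Fin D.rank), (∀ i ∈ S, col i = true) →
      St F h.good y (fun i => if i ∈ S then 1 else c₂ i) := by
    intro S
    induction S using Finset.induction_on with
    | empty => intro _; simpa using h2'
    | insert i S hiS ih =>
      intro hcol
      have hm := ih fun j hj => hcol j (Finset.mem_insert_of_mem hj)
      set c := fun j => if j ∈ S then (1 : Fˣ) else c₂ j
      have hci : col i = true := hcol i (Finset.mem_insert_self _ _)
      have e : chi D A c (D.simple i.val) = c₁ i ^ (2 : ℤ) := by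
        simp only [chi]
        rw [Finset.prod_eq_single i]
        · rw [h.good.cart_simple i i.isLt]
          simp [c, c₂, hiS, hci]
        · intro l _ hl
          by_cases hcl : col l = true
          · rw [hd.colour l i hl (hcl.trans hci.symm), zpow_zero]
          · simp [c, c₂, hcl]
        · simp
      have hne : chi D A c (D.simple i.val) ≠ 1 := by
        rw [e, zpow_two, ← pow_two]
        exact hs₁ i (by simp [hci])
      convert hm.move h i hne 1 using 1
      funext j
      by_cases hji : j = i
      · subst hji; simp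
      · simp [c, Function.update_of_ne hji, hji]
  have h3 := p3 (Finset.univ.filter fun i => col i = true) (by simp)
  have e : (fun i => if i ∈ Finset.univ.filter (fun i : Fin D.rank => col i = true) then 1 else c₂ i) =
      (1 : Fin D.rank → Fˣ) := by
    funext i
    cases hc : col i <;> simp [c₂, hc]
  rw [e] at h3
  obtain ⟨x, hx, v, hv, w, hw, ex⟩ := h3
  exact ⟨x, hx, v, hv, w, hw, by rw [ex, map_one, mul_one]⟩

end CfsgLib.Thompson
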