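import Cfsg.Agent.Lib.KnownB.Thompson.Forms
import Cfsg.Agent.Lib.KnownB.Thompson.ExcGroups

/-!
The class-square property for the projective special linear groups.
-/

set_option autoImplicit false

namespace CfsgLib.Thompson

open Matrix Module CfsgLib.KnownB.Sourour

variable {F : Type*} [Field F] {n : ℕ}

local notation "SLn" => Matrix.SpecialLinearGroup (Fin n) F

lemma exists_adm (h4 : 4 ≤ ENat.card F) : ∃ a : F, Adm a := by
  classical
  obtain ⟨a, ha⟩ := exists_scalar h4 {0, 1, -1} Finset.card_le_three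
  simp only [Finset.mem_insert, Finset.mem_singleton, not_or] at ha
  obtain ⟨h0, h1, hm⟩ := ha
  refine ⟨a, h0, h1, fun h => ?_⟩
  have : (a - 1) * (a + 1) = 0 := by
    have := mul_inv_cancel₀ h0
    rw [h] at this
    linear_combination this
  rcases mul_eq_zero.1 this with h' | h'
  · exact h1 (sub_eq_zero.1 h')
  · exact hm (eq_neg_of_add_eq_zero_left h')

/-- non-scalar elements of the special linear group lie in the square of one class -/
theorem sl_two_conj (h4 : 4 ≤ ENat.card F) (hn : 2 ≤ n) :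
    ∃ c : SLn, ∀ g : SLn, (g = 1 ∨ ¬ ∃ l : F, Matrix.toLin' g.1 = l • 1) →
      ∃ x y : SLn, g = (x * c * x⁻¹) * (y * c * y⁻¹) := by
  obtain ⟨a, ha⟩ := exists_adm h4
  obtain ⟨m, rfl⟩ : ∃ m, n = m + 2 := ⟨n - 2, by omega⟩
  obtain ⟨T, -, -, -, -, -, ⟨hT⟩, -⟩ := exists_model (V := Fin (m + 2) → F) (m := m) ha (by simp)
  have hdet : ∀ S : End F (Fin (m + 2) → F), LinearMap.det S = 1 →
      (LinearMap.toMatrix' S).det = 1 := fun S hS => by rw [LinearMap.det_toMatrix', hS]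
  let c : Matrix.SpecialLinearGroup (Fin (m + 2)) F := mkSL _ (hdet T (ha.det_form hT))
  refine ⟨c, fun g hg => ?_⟩
  have hg1 : Matrix.toLin' g.1 = 1 ∨ ¬ ∃ l : F, Matrix.toLin' g.1 = l • 1 := by
    rcases hg with rfl | h
    · exact Or.inl (by rw [co, Matrix.toLin'_one]; rfl)
    · exact Or.inr h
  obtain ⟨L, U, hLU, ⟨hL⟩, ⟨hU⟩⟩ :=
    two_forms (m := m) h4 ha (by simp) (Matrix.toLin' g.1) (by rw [LinearMap.det_toLin', g.2]) hg1
  have key : ∀ S : End F (Fin (m + 2) → F), HasForm S m (pairMu a) →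
      ∃ x : Matrix.SpecialLinearGroup (Fin (m + 2)) F,
        (x * c * x⁻¹).1 = LinearMap.toMatrix' S := by
    intro S hS
    obtain ⟨E, hE, e⟩ := form_conj ha hT hS
    refine ⟨mkSL _ (hdet E hE), ?_⟩
    set x := mkSL _ (hdet E hE)
    have e' : x.1 * c.1 = LinearMap.toMatrix' S * x.1 := by
      simp only [x, c, mkSL_val, ← LinearMap.toMatrix'_mul, e]
    rw [cm, cm, e', mul_assoc, ← cm, mul_inv_cancel, co, mul_one]
  obtain ⟨x, hx⟩ := key L hL
  obtain ⟨y, hy⟩ := key U hU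
  refine ⟨x, y, sl_eq ?_⟩
  rw [cm _ (y * c * y⁻¹), hx, hy, ← LinearMap.toMatrix'_mul, ← hLU, LinearMap.toMatrix'_toLin']

theorem sq_PSL [Fintype F] (h9 : 9 ≤ Fintype.card F) (hn : 2 ≤ n) :
    SqClass (Matrix.ProjectiveSpecialLinearGroup (Fin n) F) := by
  have h4 : 4 ≤ ENat.card F := by
    rw [ENat.card_eq_coe_fintype_card]; exact_mod_cast (by omega : 4 ≤ Fintype.card F)
  obtain ⟨c, hc⟩ := sl_two_conj h4 hn
  refine ⟨QuotientGroup.mk c, fun q => ?_⟩
  obtain ⟨g, rfl⟩ := QuotientGroup.mk_surjective q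
  suffices ∀ g' : SLn, (QuotientGroup.mk g' : Matrix.ProjectiveSpecialLinearGroup (Fin n) F) =
      QuotientGroup.mk g → (g' = 1 ∨ ¬ ∃ l : F, Matrix.toLin' g'.1 = l • 1) →
      ∃ x y, (QuotientGroup.mk g : Matrix.ProjectiveSpecialLinearGroup (Fin n) F) =
        (x * QuotientGroup.mk c * x⁻¹) * (y * QuotientGroup.mk c * y⁻¹) by
    by_cases hs : ∃ l : F, Matrix.toLin' g.1 = l • 1
    · refine this 1 ?_ (Or.inl rfl)
      obtain ⟨l, hl⟩ := hs
      rw [QuotientGroup.mk_one, eq_comm, QuotientGroup.eq_one_iff,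
        Matrix.SpecialLinearGroup.mem_center_iff]
      have hM : g.1 = l • (1 : Matrix (Fin n) (Fin n) F) :=
        Matrix.toLin'.injective (by rw [hl, map_smul, Matrix.toLin'_one]; rfl)
      refine ⟨l, ?_, ?_⟩
      · have := g.2
        rw [hM, Matrix.det_smul, Matrix.det_one, mul_one] at this
        exact this
      · rw [hM, Matrix.scalar_apply, Matrix.smul_one_eq_diagonal]
    · exact this g rfl (Or.inr hs)
  intro g' e hg'
  obtain ⟨x, y, exy⟩ := hc g' hg'
  exact ⟨QuotientGroup.mk x, QuotientGroup.mk y, by rw [← e, exy]; rfl⟩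

end CfsgLib.Thompson
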