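import Cfsg.Agent.Lib.Steinberg.RankOne
import Cfsg.Agent.Lib.Chev.BN2

/-!
Elements of a Chevalley group written in the big cell, and changing one torus coordinate by
conjugation with a fundamental rank one subgroup.
-/

set_option autoImplicit false

namespace CfsgLib.Thompson

open Cfsg.Lie Matrix CfsgLib.Chev

variable {D : ChevalleyDatum} {A : Aux} {F : Type*} [Field F]

lemma negRoot_neg (g : Good D A) {r : ℕ} (hr : r < D.nroots) :
    D.IsNegRoot (A.neg r) ↔ D.IsPosRoot r := by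
  rw [g.negRoot_iff _ (g.neg_lt r hr), g.pos_iff r hr]
  simp only [g.a_neg r hr, neg_nonpos]

lemma posRoot_neg (g : Good D A) {r : ℕ} (hr : r < D.nroots) :
    D.IsPosRoot (A.neg r) ↔ D.IsNegRoot r := by
  rw [g.negRoot_iff _ hr, g.pos_iff _ (g.neg_lt r hr)]
  simp only [g.a_neg r hr, neg_nonneg]

/-- negative roots other than `-p_i` -/
def negBut (D : ChevalleyDatum) (A : Aux) (i r : ℕ) : Prop :=
  r < D.nroots ∧ posBut D i (A.neg r)

lemma negBut_isNeg (g : Good D A) {i r : ℕ} (h : negBut D A i r) : D.IsNegRoot r := by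
  have := (negRoot_neg g h.2.1.1).2 h.2.1
  rwa [g.neg_neg r h.1] at this

lemma isNeg_lt {r : ℕ} (h : D.IsNegRoot r) : r < D.nroots := h.1

lemma negBut_of (g : Good D A) {i r : ℕ} (hi : i < D.rank) (h : D.IsNegRoot r)
    (hne : r ≠ A.neg (D.simple i)) : negBut D A i r := by
  refine ⟨h.1, (posRoot_neg g h.1).2 h, fun e => hne ?_⟩
  rw [← e, g.neg_neg r h.1]

lemma rootPair_conj_neg (h : Std D A) {i s : ℕ} (hi : i < D.rank) (hs : negBut D A i s) {p : ℕ}
    (hp : p = D.simple i ∨ p = A.neg (D.simple i)) (t u : F) :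
    xG h.good p t * xG h.good s u * (xG h.good p t)⁻¹ ∈ UP F h.good (negBut D A i) := by
  have g := h.good
  have hsi := g.simple_lt i hi
  have hns := hs.2
  have hne1 : A.neg s ≠ A.neg (D.simple i) := fun e =>
    not_pos_neg g (simple_pos g hi) (e ▸ hns.1)
  have hp' : p < D.nroots ∧ s ≠ p ∧ s ≠ A.neg p := by
    rcases hp with rfl | rfl
    · exact ⟨hsi, fun e => hne1 (by rw [e]), fun e => hns.2 (by rw [e, g.neg_neg _ hsi])⟩
    · exact ⟨g.neg_lt _ hsi, fun e => hns.2 (by rw [e, g.neg_neg _ hsi]),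
        fun e => hne1 (by rw [e, g.neg_neg _ hsi])⟩
  refine conj_xG_mem h hp'.1 hs.1 hp'.2.1 hp'.2.2 hs (fun q hq m k _ hk e => ?_) t u
  refine ⟨hq, posBut_closed g hi (r := A.neg p) (m := m) (g.neg_lt _ hp'.1) hns (g.neg_lt _ hq) hk
    (fun j hj hji => ?_) (fun j hj => ?_)⟩
  · obtain ⟨h1, h2⟩ := simple_coord g hi hj hji
    rcases hp with rfl | rfl
    · exact le_of_eq h2.symm
    · rw [g.neg_neg _ hsi]; exact le_of_eq h1.symm
  · rw [g.a_neg q hq, g.a_neg p hp'.1, g.a_neg s hs.1, e j hj]; ring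

lemma rankOne_le_normalizer_neg (h : Std D A) {i : ℕ} (hi : i < D.rank) :
    rankOne F D i ≤ Subgroup.normalizer (UP F h.good (negBut D A i) : Set (GL D.Idx F)) := by
  have g := h.good
  refine sup_le (mem_normalizer_UP fun y hy r u hr => ?_) (mem_normalizer_UP fun y hy r u hr => ?_)
  · obtain ⟨t, rfl⟩ := (mem_rootSubgroup_iff g).1 hy
    exact rootPair_conj_neg h hi hr (Or.inl rfl) t u
  · obtain ⟨t, rfl⟩ := (mem_rootSubgroup_iff g).1 hy
    exact rootPair_conj_neg h hi hr (Or.inr (g.neg_eq _ (g.simple_lt i hi))) t u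

lemma UP_negBut_le (g : Good D A) (i : ℕ) : UP F g (negBut D A i) ≤ D.negUnipotent F :=
  UP_le fun _ t hr => xG_mem_negUnipotent g (negBut_isNeg g hr) t

lemma neg_simple_isNeg (g : Good D A) {i : ℕ} (hi : i < D.rank) :
    D.IsNegRoot (A.neg (D.simple i)) :=
  (negRoot_neg g (g.simple_lt i hi)).2 (simple_pos g hi)

lemma rankOne_pos (g : Good D A) (i : ℕ) (t : F) : xG g (D.simple i) t ∈ rankOne F D i :=
  (le_sup_left : _ ≤ rankOne F D i) (xG_mem_rootSubgroup g _ t)

lemma rankOne_neg (g : Good D A) {i : ℕ} (hi : i < D.rank) (t : F) :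
    xG g (A.neg (D.simple i)) t ∈ rankOne F D i := by
  refine (le_sup_right : _ ≤ rankOne F D i) ?_
  rw [← g.neg_eq _ (g.simple_lt i hi)]
  exact xG_mem_rootSubgroup g _ t

lemma rankOne_le_group (g : Good D A) (i : ℕ) : rankOne F D i ≤ D.group F := by
  refine sup_le (fun y hy => ?_) (fun y hy => ?_)
  all_goals
    obtain ⟨t, rfl⟩ := (mem_rootSubgroup_iff g).1 hy
    exact xG_mem_group g _ _

/-- the big part and the fundamental part -/
lemma neg_decomp (h : Std D A) {i : ℕ} (hi : i < D.rank) {u : GL D.Idx F}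
    (hu : u ∈ D.negUnipotent F) :
    ∃ v ∈ UP F h.good (negBut D A i), ∃ a, u = v * xG h.good (A.neg (D.simple i)) a := by
  have g := h.good
  have hle : D.rootSubgroup F (A.neg (D.simple i)) ≤ rankOne F D i := by
    rw [← g.neg_eq _ (g.simple_lt i hi)]
    exact le_sup_right
  have hnorm := hle.trans (rankOne_le_normalizer_neg (F := F) h hi)
  have hle2 : D.negUnipotent F ≤
      UP F g (negBut D A i) ⊔ D.rootSubgroup F (A.neg (D.simple i)) := by
    rw [negUnipotent_eq g, Subgroup.closure_le]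
    rintro y ⟨r, t, hr, rfl⟩
    by_cases e : r = A.neg (D.simple i)
    · exact (le_sup_right : _ ≤ UP F g (negBut D A i) ⊔ _) (e ▸ xG_mem_rootSubgroup g r t)
    · exact (le_sup_left : _ ≤ UP F g (negBut D A i) ⊔ D.rootSubgroup F (A.neg (D.simple i)))
        (xG_mem_UP g (negBut_of g hi hr e) t)
  have hu' := hle2 hu
  rw [← SetLike.mem_coe, Subgroup.coe_mul_of_right_le_normalizer_left _ _ hnorm] at hu'
  obtain ⟨v, hv, x, hx, rfl⟩ := hu'
  obtain ⟨a, rfl⟩ := (mem_rootSubgroup_iff g).1 hx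
  exact ⟨v, hv, a, rfl⟩

/-- the fundamental part first -/
lemma pos_decomp' (h : Std D A) {i : ℕ} (hi : i < D.rank) {u : GL D.Idx F}
    (hu : u ∈ D.posUnipotent F) :
    ∃ b, ∃ v ∈ UP F h.good (posBut D i), u = xG h.good (D.simple i) b * v := by
  obtain ⟨v, hv, a, e⟩ := pos_decomp h hi (inv_mem hu)
  refine ⟨-a, v⁻¹, inv_mem hv, ?_⟩
  rw [← inv_inv u, e, _root_.mul_inv_rev, xG_inv]

lemma sl2_ext {y z : Matrix.SpecialLinearGroup (Fin 2) F}
    (h : (y : Matrix (Fin 2) (Fin 2) F) = (z : Matrix (Fin 2) (Fin 2) F)) : y = z := Subtype.ext h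

/-- `x_p(u) x_{-p}(w)` in the big cell -/
theorem swap_roots (g : Good D A) (i : Fin D.rank) (u w : F) (z : Fˣ) (hz : (z : F) = 1 + u * w) :
    xG g (D.simple i) u * xG g (A.neg (D.simple i)) w =
      xG g (A.neg (D.simple i)) (w / z) * tor D A (Pi.mulSingle i z) *
        xG g (D.simple i) (u / z) := by
  obtain ⟨φ, hφ⟩ := CfsgLib.Steinberg.exists_sl2 (F := F) g _ (g.simple_lt i i.isLt)
  set p := D.simple i
  have hu : ∀ t : F, φ (CfsgLib.Steinberg.R1Data.up t) = xG g p t := fun t => (hφ _ t).1 rfl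
  have hd : ∀ t : F, φ (CfsgLib.Steinberg.R1Data.dn t) = xG g (A.neg p) t := fun t => (hφ _ t).2 rfl
  have hz0 : (z : F) ≠ 0 := z.ne_zero
  have key : CfsgLib.Steinberg.R1Data.up u * CfsgLib.Steinberg.R1Data.dn w =
      CfsgLib.Steinberg.R1Data.dn (w / z) * (CfsgLib.Steinberg.R1Data.up (z : F) * CfsgLib.Steinberg.R1Data.dn (-(z : F)⁻¹) * CfsgLib.Steinberg.R1Data.up (z : F) * (CfsgLib.Steinberg.R1Data.up (-1) * CfsgLib.Steinberg.R1Data.dn 1 * CfsgLib.Steinberg.R1Data.up (-1))) * CfsgLib.Steinberg.R1Data.up (u / z) := by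
    refine sl2_ext ?_
    ext a b
    fin_cases a <;> fin_cases b <;>
      simp [Matrix.SpecialLinearGroup.coe_mul, Matrix.mul_apply, Fin.sum_univ_two] <;>
      field_simp <;> (try rw [hz]) <;> ring
  have := congrArg φ key
  simp only [map_mul, hu, hd] at this
  rw [this, ← hG_simple g i z, hG, nG, nG, g.neg_eq p (g.simple_lt i i.isLt)]
  simp [p, mul_assoc]

lemma tor_xG (g : Good D A) (c : Fin D.rank → Fˣ) {r : ℕ} (hr : r < D.nroots) (t : F) :
    tor D A c * xG g r t = xG g r ((chi D A c r : F) * t) * tor D A c := by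
  rw [← tor_conj_xG g c hr, inv_mul_cancel_right]

lemma xG_tor (g : Good D A) (c : Fin D.rank → Fˣ) {r : ℕ} (hr : r < D.nroots) (t : F) :
    xG g r t * tor D A c = tor D A c * xG g r (((chi D A c r)⁻¹ : Fˣ) * t) := by
  rw [tor_xG g c hr, ← mul_assoc, Units.mul_inv, one_mul]

/-- the middle part -/
theorem mid_move (g : Good D A) (i : Fin D.rank) (c : Fin D.rank → Fˣ) (a b : F)
    (hyp : chi D A c (D.simple i) ≠ 1 ∨ a ≠ 0 ∨ b ≠ 0) (z : Fˣ) :
    ∃ k ∈ rankOne F D i, ∃ a' b' : F,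
      k * (xG g (A.neg (D.simple i)) a * tor D A c * xG g (D.simple i) b) * k⁻¹ =
        xG g (A.neg (D.simple i)) a' * tor D A (Pi.mulSingle i z * c) * xG g (D.simple i) b' := by
  have hp := g.simple_lt i i.isLt
  have hn := g.neg_lt _ hp
  set p := D.simple i
  have hA : ∀ (a b : F), a ≠ 0 → ∃ k ∈ rankOne F D i, ∃ a' b' : F,
      k * (xG g (A.neg p) a * tor D A c * xG g p b) * k⁻¹ =
        xG g (A.neg p) a' * tor D A (Pi.mulSingle i z * c) * xG g p b' := by
    intro a b ha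
    have hu : (z : F) = 1 + ((z : F) - 1) / a * a := by
      rw [div_mul_cancel₀ _ ha]; ring
    set u := ((z : F) - 1) / a
    refine ⟨xG g p u, rankOne_pos g i u, a / z,
      ((chi D A c p)⁻¹ : Fˣ) * (u / z) + (b + -u), ?_⟩
    rw [xG_inv, ← xG_add, ← xG_add, map_mul]
    calc xG g p u * (xG g (A.neg p) a * tor D A c * xG g p b) * xG g p (-u)
        = (xG g p u * xG g (A.neg p) a) * tor D A c * xG g p b * xG g p (-u) := by
          simp only [mul_assoc]
      _ = (xG g (A.neg p) (a / z) * tor D A (Pi.mulSingle i z) * xG g p (u / z)) * tor D A c *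
            xG g p b * xG g p (-u) := by rw [swap_roots g i u a z hu]
      _ = xG g (A.neg p) (a / z) * tor D A (Pi.mulSingle i z) * (xG g p (u / z) * tor D A c) *
            xG g p b * xG g p (-u) := by simp only [mul_assoc]
      _ = _ := by rw [xG_tor g c hp]; simp only [mul_assoc]
  rcases eq_or_ne a 0 with rfl | ha
  swap
  · exact hA a b ha
  rcases eq_or_ne b 0 with rfl | hb
  · have hchi : chi D A c p ≠ 1 := by simpa using hyp
    obtain ⟨k, hk, a', b', e⟩ := hA (1 - (chi D A c (A.neg p) : F)) 0 (by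
      rw [sub_ne_zero]
      intro e
      apply hchi
      have : chi D A c (A.neg p) = 1 := Units.ext e.symm
      rwa [chi_neg g c hp, inv_eq_one] at this)
    refine ⟨k * xG g (A.neg p) 1, mul_mem hk (rankOne_neg g i.isLt 1), a', b', ?_⟩
    rw [← e, _root_.mul_inv_rev, xG_inv]
    simp only [xG_zero, one_mul, mul_one]
    rw [sub_eq_add_neg, ← xG_add, show -(chi D A c (A.neg p) : F) = (chi D A c (A.neg p) : F) * -1 by ring]
    rw [show xG g (A.neg p) 1 * xG g (A.neg p) ((chi D A c (A.neg p) : F) * -1) * tor D A c =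
      xG g (A.neg p) 1 * (xG g (A.neg p) ((chi D A c (A.neg p) : F) * -1) * tor D A c) from
      mul_assoc _ _ _, ← tor_xG g c hn]
    simp only [mul_assoc]
  · have hu : (z : F) = 1 + b * (((z : F) - 1) / b) := by rw [mul_div_cancel₀ _ hb]; ring
    set w := ((z : F) - 1) / b
    refine ⟨xG g (A.neg p) (-w), rankOne_neg g i.isLt (-w),
      -w + (chi D A c (A.neg p) : F) * (w / z), b / z, ?_⟩
    rw [xG_inv, neg_neg, xG_zero, one_mul, ← xG_add, map_mul, tor_mul_comm]
    calc xG g (A.neg p) (-w) * (tor D A c * xG g p b) * xG g (A.neg p) w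
        = xG g (A.neg p) (-w) * tor D A c * (xG g p b * xG g (A.neg p) w) := by
          simp only [mul_assoc]
      _ = xG g (A.neg p) (-w) * (tor D A c * xG g (A.neg p) (w / z)) *
            tor D A (Pi.mulSingle i z) * xG g p (b / z) := by
          rw [swap_roots g i b w z hu]; simp only [p, mul_assoc]
      _ = _ := by rw [tor_xG g c hn]; simp only [mul_assoc]

variable (F) in
/-- a conjugate of `y` in the big cell with torus part `c` -/
def St (g : Good D A) (y : GL D.Idx F) (c : Fin D.rank → Fˣ) : Prop :=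
  ∃ x ∈ D.group F, ∃ v ∈ D.negUnipotent F, ∃ w ∈ D.posUnipotent F,
    x * y * x⁻¹ = v * tor D A c * w

theorem move_of_parts (h : Std D A) {y x v w : GL D.Idx F} {c : Fin D.rank → Fˣ} (i : Fin D.rank)
    (hx : x ∈ D.group F) (hv : v ∈ D.negUnipotent F) (hw : w ∈ D.posUnipotent F)
    (e : x * y * x⁻¹ = v * tor D A c * w)
    (hyp : chi D A c (D.simple i) ≠ 1 ∨ v ∉ UP F h.good (negBut D A i) ∨
      w ∉ UP F h.good (posBut D i)) (z : Fˣ) :
    St F h.good y (Pi.mulSingle i z * c) := by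
  have g := h.good
  obtain ⟨v1, hv1, a, rfl⟩ := neg_decomp h i.isLt hv
  obtain ⟨b, w1, hw1, rfl⟩ := pos_decomp' h i.isLt hw
  obtain ⟨k, hk, a', b', ek⟩ := mid_move g i c a b (by
    rcases hyp with h1 | h1 | h1
    · exact Or.inl h1
    · refine Or.inr (Or.inl fun ha => h1 ?_)
      rw [ha, xG_zero, mul_one]; exact hv1
    · refine Or.inr (Or.inr fun hb => h1 ?_)
      rw [hb, xG_zero, one_mul]; exact hw1) z
  have h1 : k * v1 * k⁻¹ ∈ D.negUnipotent F := UP_negBut_le g i
    ((Subgroup.mem_normalizer_iff.1 (rankOne_le_normalizer_neg h i.isLt hk) v1).1 hv1)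
  have h2 : k * w1 * k⁻¹ ∈ D.posUnipotent F := UP_posBut_le g i
    ((Subgroup.mem_normalizer_iff.1 (rankOne_le_normalizer h i.isLt hk) w1).1 hw1)
  refine ⟨k * x, mul_mem (rankOne_le_group g i hk) hx,
    k * v1 * k⁻¹ * xG g (A.neg (D.simple i)) a',
    mul_mem h1 (xG_mem_negUnipotent g (neg_simple_isNeg g i.isLt) _),
    xG g (D.simple i) b' * (k * w1 * k⁻¹),
    mul_mem (xG_mem_posUnipotent g (simple_pos g i.isLt) _) h2, ?_⟩
  calc k * x * y * (k * x)⁻¹ = k * (x * y * x⁻¹) * k⁻¹ := by group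
    _ = (k * v1 * k⁻¹) * (k * (xG g (A.neg (D.simple i)) a * tor D A c *
          xG g (D.simple i) b) * k⁻¹) * (k * w1 * k⁻¹) := by rw [e]; group
    _ = _ := by rw [ek]; group

theorem St.move (h : Std D A) {y : GL D.Idx F} {c : Fin D.rank → Fˣ} (hs : St F h.good y c)
    (i : Fin D.rank) (hc : chi D A c (D.simple i) ≠ 1) (z : Fˣ) :
    St F h.good y (Function.update c i z) := by
  obtain ⟨x, hx, v, hv, w, hw, e⟩ := hs
  convert move_of_parts h i hx hv hw e (Or.inl hc) (z * (c i)⁻¹) using 1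
  funext j
  rcases eq_or_ne j i with rfl | hj
  · simp
  · simp [hj]

end CfsgLib.Thompson
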