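import Cfsg.Agent.Lib.KnownB.Thompson.OddForm

/-!
A conjugate in the big cell with a good Levi part, odd dimension.
-/

set_option autoImplicit false

namespace CfsgLib.Thompson

open Matrix QuadraticMap CfsgLib.Geometry

variable {F : Type*} [Field F] {m : ℕ}

/-- the middle row on the first isotropic space -/
def rowE (g : GL (Unit ⊕ (Fin m ⊕ Fin m)) F) : Fin m → F :=
  fun j => g.1 (Sum.inl ()) (Sum.inr (Sum.inl j))

/-- the corner -/
def cornA (g : GL (Unit ⊕ (Fin m ⊕ Fin m)) F) : Matrix (Fin m) (Fin m) F :=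
  Matrix.of fun i j => g.1 (Sum.inr (Sum.inl i)) (Sum.inr (Sum.inl j))

/-- the lower corner -/
def cornC (g : GL (Unit ⊕ (Fin m ⊕ Fin m)) F) : Matrix (Fin m) (Fin m) F :=
  Matrix.of fun i j => g.1 (Sum.inr (Sum.inr i)) (Sum.inr (Sum.inl j))

lemma mulVec_x (g : GL (Unit ⊕ (Fin m ⊕ Fin m)) F) (x : Fin m → F) :
    g.1 *ᵥ v3 0 x 0 = v3 (rowE g ⬝ᵥ x) (cornA g *ᵥ x) (cornC g *ᵥ x) := by
  funext a
  rcases a with a | a | a <;>
    simp [v3, rowE, cornA, cornC, Matrix.mulVec, dotProduct, Fintype.sum_sum_type]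

lemma mulVec_inj (g : GL (Unit ⊕ (Fin m ⊕ Fin m)) F) {v w : Unit ⊕ (Fin m ⊕ Fin m) → F}
    (h : g.1 *ᵥ v = g.1 *ᵥ w) : v = w := by
  have := congrArg (g⁻¹.1 *ᵥ ·) h
  simpa [mulVec_mulVec, ← Units.val_mul] using this

lemma quad_x {g : GL (Unit ⊕ (Fin m ⊕ Fin m)) F} (hg : g ∈ OO m F) (x : Fin m → F) :
    (rowE g ⬝ᵥ x) * (rowE g ⬝ᵥ x) + (cornA g *ᵥ x) ⬝ᵥ (cornC g *ᵥ x) = 0 := by
  rw [← qO_v3, ← mulVec_x, mem_OO.1 hg]
  simp

lemma rowE_zero_of_ker {g : GL (Unit ⊕ (Fin m ⊕ Fin m)) F} (hg : g ∈ OO m F) {x : Fin m → F}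
    (hx : cornC g *ᵥ x = 0) : rowE g ⬝ᵥ x = 0 := by
  have h := quad_x hg x
  rw [hx, dotProduct_zero, add_zero] at h
  exact mul_self_eq_zero.1 h

/-- an isometry fixing the first isotropic space -/
theorem fix_x_form {u : GL (Unit ⊕ (Fin m ⊕ Fin m)) F} (hu : u ∈ OO m F)
    (h : ∀ x, u.1 *ᵥ v3 0 x 0 = v3 0 x 0) :
    ∃ (α : F) (r : Fin m → F) (X : Matrix (Fin m) (Fin m) F), α * α = 1 ∧
      IsA false (X + vecMulVec r r) ∧
      ∀ z x y, u.1 *ᵥ v3 z x y = v3 (α * (z + r ⬝ᵥ y)) (x - (2 * z) • r + X *ᵥ y) y := by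
  obtain ⟨α, p, s, e1⟩ : ∃ α p s, u.1 *ᵥ v3 1 0 0 = v3 α p s := ⟨_, _, _, v3_eta _⟩
  let β : Fin m → F := fun j => u.1 (Sum.inl ()) (Sum.inr (Sum.inr j))
  let X : Matrix (Fin m) (Fin m) F :=
    Matrix.of fun i j => u.1 (Sum.inr (Sum.inl i)) (Sum.inr (Sum.inr j))
  let D : Matrix (Fin m) (Fin m) F :=
    Matrix.of fun i j => u.1 (Sum.inr (Sum.inr i)) (Sum.inr (Sum.inr j))
  have e2 : ∀ y, u.1 *ᵥ v3 0 0 y = v3 (β ⬝ᵥ y) (X *ᵥ y) (D *ᵥ y) := fun y => by
    funext a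
    rcases a with a | a | a <;>
      simp [v3, β, X, D, Matrix.mulVec, dotProduct, Fintype.sum_sum_type]
  have eu : ∀ z x y, u.1 *ᵥ v3 z x y =
      v3 (z * α + β ⬝ᵥ y) (x + z • p + X *ᵥ y) (z • s + D *ᵥ y) := by
    intro z x y
    rw [show v3 z x y = v3 0 x 0 + z • v3 1 0 0 + v3 0 0 y by
      rw [v3_smul, v3_add, v3_add, v3_inj]; simp]
    rw [mulVec_add, mulVec_add, mulVec_smul, h, e1, e2, v3_smul, v3_add, v3_add, v3_inj]
    simp
  have hq : ∀ z x y, (z * α + β ⬝ᵥ y) * (z * α + β ⬝ᵥ y) +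
      (x + z • p + X *ᵥ y) ⬝ᵥ (z • s + D *ᵥ y) = z * z + x ⬝ᵥ y := fun z x y => by
    rw [← qO_v3, ← eu, mem_OO.1 hu]
  have hys : ∀ (z : F) (y : Fin m → F), z • s + D *ᵥ y = y := by
    intro z y
    funext i
    have a1 := hq z (Pi.single i 1) y
    have a2 := hq z 0 y
    simp only [add_dotProduct, zero_dotProduct, single_dotProduct, one_mul] at a1 a2
    linear_combination a1 - a2
  have hs : s = 0 := by
    have := hys 1 0
    simpa using this
  have hD : ∀ y, D *ᵥ y = y := fun y => by simpa using hys 0 y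
  have hα : α * α = 1 := by
    have := hq 1 0 0
    simpa [hs] using this
  have hα0 : α ≠ 0 := left_ne_zero_of_mul_eq_one hα
  have hX : ∀ y, (β ⬝ᵥ y) * (β ⬝ᵥ y) + (X *ᵥ y) ⬝ᵥ y = 0 := fun y => by
    have := hq 0 0 y
    simpa [hD] using this
  have hp : p = -((2 * α) • β) := by
    funext i
    have a1 := hq 1 0 (Pi.single i 1)
    have a2 := hX (Pi.single i 1)
    simp only [hs, hD, one_smul, zero_add, add_dotProduct, dotProduct_single, mul_one, one_mul,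
      dotProduct_zero, add_zero] at a1 a2
    simp only [Pi.neg_apply, Pi.smul_apply, smul_eq_mul]
    simp only [Pi.add_apply, Pi.zero_apply] at a1
    linear_combination a1 - a2 - hα
  refine ⟨α, α • β, X, hα, ?_, fun z x y => ?_⟩
  · have hq' : ∀ y, y ⬝ᵥ ((X + vecMulVec (α • β) (α • β)) *ᵥ y) = 0 := fun y => by
      rw [add_mulVec, dotProduct_add, vecMulVec_mulVec, op_smul_eq_smul, dotProduct_smul,
        smul_eq_mul, dotProduct_comm y (α • β), smul_dotProduct, smul_eq_mul,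
        dotProduct_comm y (X *ᵥ y)]
      linear_combination hX y + (β ⬝ᵥ y) * (β ⬝ᵥ y) * hα
    obtain ⟨d, t⟩ := alt_of_quad hq'
    exact ⟨t, fun _ => d⟩
  · rw [eu, v3_inj]
    refine ⟨?_, ?_, ?_⟩
    · rw [smul_dotProduct, smul_eq_mul]
      linear_combination -(β ⬝ᵥ y) * hα
    · rw [hp, smul_neg, smul_smul, smul_smul, ← sub_eq_add_neg]
      ring_nf
    · rw [hs, smul_zero, zero_add, hD]

variable [Finite F] (hF : GoodForm (qO m F))

include hF in
/-- decomposition with invertible corner -/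
theorem lduI {g : GL (Unit ⊕ (Fin m ⊕ Fin m)) F} (hg : g ∈ OO m F) {M : GL (Fin m) F}
    (hM : M.1 = cornA g) :
    ∃ (r : Fin m → F) (T : Matrix (Fin m) (Fin m) F) (r' : Fin m → F)
      (X : Matrix (Fin m) (Fin m) F) (hT : IsA false (T + vecMulVec r r))
      (hX : IsA false (X + vecMulVec r' r')) (ζ : OO m F),
      (ζ = 1 ∨ ∃ c : CfsgLib.Geometry.SqClass F, hF.invt ζ = (c, Multiplicative.ofAdd 1)) ∧
      (⟨g, hg⟩ : OO m F) = ⟨loU r T, loU_mem hT⟩ * levJ m F M * ζ * ⟨upU r' X, upU_mem hX⟩ := by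
  set r := (M⁻¹).1ᵀ *ᵥ rowE g with hr
  set T := cornC g * (M⁻¹).1 with hTdef
  have hry : ∀ x, r ⬝ᵥ (cornA g *ᵥ x) = rowE g ⬝ᵥ x := fun x => by
    rw [hr, ← hM, mulVec_transpose, ← dotProduct_mulVec, mulVec_mulVec, Units.inv_mul, one_mulVec]
  have hTy : ∀ x, T *ᵥ (cornA g *ᵥ x) = cornC g *ᵥ x := fun x => by
    rw [hTdef, ← hM, mulVec_mulVec, Matrix.mul_assoc, Units.inv_mul, Matrix.mul_one]
  have hT : IsA false (T + vecMulVec r r) := by
    have hq' : ∀ y, y ⬝ᵥ ((T + vecMulVec r r) *ᵥ y) = 0 := fun y => by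
      have hy : y = cornA g *ᵥ ((M⁻¹).1 *ᵥ y) := by
        rw [← hM, mulVec_mulVec, Units.mul_inv, one_mulVec]
      have := quad_x hg ((M⁻¹).1 *ᵥ y)
      rw [← hry, ← hTy, ← hy] at this
      rw [add_mulVec, dotProduct_add, vecMulVec_mulVec, op_smul_eq_smul, dotProduct_smul,
        smul_eq_mul, dotProduct_comm y r]
      linear_combination this
    obtain ⟨d, t⟩ := alt_of_quad hq'
    exact ⟨t, fun _ => d⟩
  set u := (levI F m M)⁻¹ * ((loU r T)⁻¹ * g) with hudef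
  have hu : u ∈ OO m F :=
    mul_mem (inv_mem (levI_mem M)) (mul_mem (inv_mem (loU_mem hT)) hg)
  have hfix : ∀ x, u.1 *ᵥ v3 0 x 0 = v3 0 x 0 := by
    intro x
    refine mulVec_inj (loU r T * levI F m M) ?_
    rw [mulVec_mulVec, ← Units.val_mul, show loU r T * levI F m M * u = g by rw [hudef]; group,
      mulVec_x, Units.val_mul, ← mulVec_mulVec, levI_mulVec, loU_mulVec, hM, hry, hTy]
    simp
  obtain ⟨α, r', X, hα, hX, hact⟩ := fix_x_form hu hfix
  rcases mul_self_eq_one_iff.1 hα with h | h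
  · refine ⟨r, T, r', X, hT, hX, 1, Or.inl rfl, ?_⟩
    refine Subtype.ext ?_
    show g = loU r T * levI F m M * 1 * upU r' X
    have hu' : u = upU r' X := gl3 fun z x y => by
      rw [hact, upU_val, upMat_mulVec, h, one_mul]
    rw [← hu', hudef]; group
  · obtain ⟨s, c, hs, hsv⟩ := exists_refl_z hF
    refine ⟨r, T, r', X, hT, hX, s, Or.inr ⟨c, hs⟩, ?_⟩
    refine Subtype.ext ?_
    show g = loU r T * levI F m M * s.1 * upU r' X
    have hu' : u = s.1 * upU r' X := gl3 fun z x y => by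
      rw [hact, Units.val_mul, ← mulVec_mulVec, upU_val, upMat_mulVec, hsv, h, neg_one_mul]
    rw [mul_assoc, ← hu', hudef]; group

lemma conj_up_x {g : GL (Unit ⊕ (Fin m ⊕ Fin m)) F} (r : Fin m → F) (X : Matrix (Fin m) (Fin m) F)
    (x : Fin m → F) :
    (upU r X * g * (upU r X)⁻¹).1 *ᵥ v3 0 x 0 =
      v3 (rowE g ⬝ᵥ x + r ⬝ᵥ (cornC g *ᵥ x))
        (cornA g *ᵥ x - (2 * (rowE g ⬝ᵥ x)) • r + X *ᵥ (cornC g *ᵥ x)) (cornC g *ᵥ x) := by
  rw [Units.val_mul, Units.val_mul, ← mulVec_mulVec, ← mulVec_mulVec, upU_inv]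
  simp only [upU_val, upMat_mulVec, dotProduct_zero, add_zero, mul_zero, zero_smul, sub_zero,
    mulVec_zero]
  rw [mulVec_x, upMat_mulVec]

/-- only scalars preserve all conjugates of the first isotropic space -/
theorem exists_cornC {g : GL (Unit ⊕ (Fin m ⊕ Fin m)) F} (hg : g ∈ OO m F) (h1 : g.1 ≠ 1)
    (h2 : g.1 ≠ -1) : ∃ y ∈ OO m F, cornC (y * g * y⁻¹) ≠ 0 := by
  by_contra hcon
  push Not at hcon
  have hgen : ∀ y ∈ OO m F, ∀ x, (y * g * y⁻¹).1 *ᵥ v3 0 x 0 =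
      v3 0 (cornA (y * g * y⁻¹) *ᵥ x) 0 := fun y hy x => by
    have hC := hcon y hy
    have hm : y * g * y⁻¹ ∈ OO m F := mul_mem (mul_mem hy hg) (inv_mem hy)
    rw [mulVec_x, rowE_zero_of_ker hm (by rw [hC, zero_mulVec]), hC, zero_mulVec]
  set A := cornA g with hAdef
  set D := cornA (flipI F m * g * (flipI F m)⁻¹) with hDdef
  have eX : ∀ x, g.1 *ᵥ v3 0 x 0 = v3 0 (A *ᵥ x) 0 := fun x => by
    have h := hgen 1 (one_mem _) x
    rwa [one_mul, inv_one, mul_one] at h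
  have eY : ∀ y, g.1 *ᵥ v3 0 0 y = v3 0 0 (D *ᵥ y) := fun y => by
    have h := hgen _ flipI_mem y
    rw [flipI_inv, Units.val_mul, Units.val_mul, ← mulVec_mulVec, ← mulVec_mulVec,
      flipI_mulVec] at h
    refine mulVec_inj (flipI F m) ?_
    rw [h, flipI_mulVec, hDdef, flipI_inv]
  obtain ⟨α, p, s, eZ⟩ : ∃ α p s, g.1 *ᵥ v3 1 0 0 = v3 α p s := ⟨_, _, _, v3_eta _⟩
  have eg : ∀ z x y, g.1 *ᵥ v3 z x y = v3 (z * α) (z • p + A *ᵥ x) (z • s + D *ᵥ y) := by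
    intro z x y
    rw [show v3 z x y = z • v3 1 0 0 + v3 0 x 0 + v3 0 0 y by
      rw [v3_smul, v3_add, v3_add, v3_inj]; simp]
    rw [mulVec_add, mulVec_add, mulVec_smul, eX, eY, eZ, v3_smul, v3_add, v3_add, v3_inj]
    simp
  have hq : ∀ z x y, (z * α) * (z * α) + (z • p + A *ᵥ x) ⬝ᵥ (z • s + D *ᵥ y) = z * z + x ⬝ᵥ y :=
    fun z x y => by rw [← qO_v3, ← eg, mem_OO.1 hg]
  have hAD : Aᵀ * D = 1 := eq_of_bilin fun x y => by
    have := hq 0 x y
    rw [one_mulVec, ← dot_mm]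
    simpa using this
  have hDA : D * Aᵀ = 1 := mul_eq_one_comm.1 hAD
  have h00 : α * α + p ⬝ᵥ s = 1 := by simpa using hq 1 0 0
  have hp : p = 0 := by
    funext i
    have a := hq 1 0 (Aᵀ *ᵥ Pi.single i 1)
    rw [mulVec_mulVec _ D, hDA, one_mulVec] at a
    simp [dotProduct_add] at a
    rw [Pi.zero_apply]
    linear_combination a - h00
  have hs : s = 0 := by
    funext i
    have a := hq 1 (Dᵀ *ᵥ Pi.single i 1) 0
    rw [mulVec_mulVec _ A, show A * Dᵀ = 1 by simpa using congrArg transpose hDA, one_mulVec] at a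
    simp [add_dotProduct, hp] at a
    rw [Pi.zero_apply]
    simp [hp] at h00
    linear_combination a - h00
  rw [hp, hs] at eg
  simp only [smul_zero, zero_add] at eg
  have hα : α * α = 1 := by simpa [hp] using h00
  have hDr : ∀ (r x : Fin m → F), r ⬝ᵥ (D *ᵥ x) = α * (r ⬝ᵥ x) := by
    intro r x
    have hU : IsA false (-vecMulVec r r + vecMulVec r r) := by rw [neg_add_cancel]; exact isA_zero
    have h := hgen _ (mul_mem flipI_mem (upU_mem hU)) x
    rw [show flipI F m * upU r (-vecMulVec r r) * g * (flipI F m * upU r (-vecMulVec r r))⁻¹ =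
      flipI F m * (upU r (-vecMulVec r r) * g * (upU r (-vecMulVec r r))⁻¹) * (flipI F m)⁻¹ by group,
      flipI_inv, upU_inv, Units.val_mul, Units.val_mul, Units.val_mul, Units.val_mul,
      ← mulVec_mulVec, ← mulVec_mulVec, flipI_mulVec, ← mulVec_mulVec, ← mulVec_mulVec] at h
    simp only [upU_val, upMat_mulVec] at h
    rw [eg, upMat_mulVec, flipI_mulVec] at h
    have := (v3_inj.1 h).1
    simp only [zero_add, neg_dotProduct] at this
    linear_combination this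
  have hD : D = α • (1 : Matrix (Fin m) (Fin m) F) := Matrix.ext_iff_mulVec.2 fun x => by
    funext i
    simpa [smul_mulVec] using hDr (Pi.single i 1) x
  have hA : A = α • (1 : Matrix (Fin m) (Fin m) F) := by
    have h := congrArg transpose hDA
    rw [transpose_mul, transpose_transpose, transpose_one, hD, transpose_smul, transpose_one,
      Matrix.mul_smul, Matrix.mul_one] at h
    rw [← h, smul_smul, hα, one_smul]
  have hsc : g.1 = α • 1 := ext3 fun z x y => by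
    rw [eg, hA, hD, smul_mulVec, smul_mulVec, smul_mulVec, one_mulVec, one_mulVec, one_mulVec,
      v3_smul, mul_comm]
  rcases mul_self_eq_one_iff.1 hα with h | h
  · exact h1 (by rw [hsc, h, one_smul])
  · exact h2 (by rw [hsc, h, neg_one_smul])

include hF in
/-- the big cell with a good corner -/
theorem exists_bigI (hm : 3 ≤ m) [Fintype F] (h4 : 4 ≤ Fintype.card F) (h2 : (2 : F) ≠ 0)
    {g : OO m F} (hg : hF.invt g = 1) (hg1 : g.1.1 ≠ 1) (hg2 : g.1.1 ≠ -1) :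
    ∃ (x : OO m F) (r : Fin m → F) (T : Matrix (Fin m) (Fin m) F) (r' : Fin m → F)
      (X : Matrix (Fin m) (Fin m) F) (M : GL (Fin m) F),
      IsA false (T + vecMulVec r r) ∧ IsA false (X + vecMulVec r' r') ∧
      M.1.det = 1 ∧ (¬ ∃ l : F, M.1 = l • 1) ∧
      x.1 * g.1 * x.1⁻¹ = loU r T * levI F m M * upU r' X := by
  have hlev : ∀ N : GL (Fin m) F, hF.invt (levJ m F N) =
      (sqMk ((Matrix.isUnit_iff_isUnit_det _).1 N.isUnit).ne_zero, 1) := fun N =>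
    invt_levJ hF h4 (by omega) N _ rfl
  have key : ∀ (h : OO m F) (M : GL (Fin m) F), hF.invt h = 1 → M.1 = cornA h.1 →
      IsSquare M.1.det ∧ ∃ (r : Fin m → F) (T : Matrix (Fin m) (Fin m) F) (r' : Fin m → F)
        (X : Matrix (Fin m) (Fin m) F), IsA false (T + vecMulVec r r) ∧
        IsA false (X + vecMulVec r' r') ∧ h.1 = loU r T * levI F m M * upU r' X := by
    intro h M hh hM
    obtain ⟨r, T, r', X, hT, hX, ζ, hζ, e⟩ := lduI hF h.2 hM
    have hh' : hF.invt (⟨h.1, h.2⟩ : OO m F) = 1 := hh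
    rw [e, map_mul, map_mul, map_mul, invt_upU hF h2 hX, invt_loU hF h2 hT, one_mul, mul_one,
      hlev] at hh'
    rcases hζ with rfl | ⟨c, hc⟩
    · rw [map_one, mul_one] at hh'
      refine ⟨(sqMk_eq_one_iff _).1 (congrArg Prod.fst hh'), r, T, r', X, hT, hX, ?_⟩
      exact (congrArg Subtype.val e).trans (by
        show loU r T * levI F m M * 1 * upU r' X = _
        rw [mul_one])
    · exfalso
      rw [hc, Prod.mk_mul_mk, one_mul] at hh'
      exact (by decide : (Multiplicative.ofAdd (1 : ZMod 2)) ≠ 1) (congrArg Prod.snd hh')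
  obtain ⟨y, hy, hyC⟩ := exists_cornC g.2 hg1 hg2
  set g₁ : OO m F := ⟨y, hy⟩ * g * (⟨y, hy⟩)⁻¹ with hg₁
  have hg₁i : hF.invt g₁ = 1 := (hF.invt_conj _ _).trans hg
  obtain ⟨r₀, hr₀⟩ : ∃ r₀ : Fin m → F, ∀ x, rowE g₁.1 ⬝ᵥ x + r₀ ⬝ᵥ (cornC g₁.1 *ᵥ x) = 0 := by
    let φ : (Fin m → F) →ₗ[F] F :=
      { toFun := fun x => rowE g₁.1 ⬝ᵥ x
        map_add' := fun _ _ => dotProduct_add _ _ _
        map_smul' := fun _ _ => dotProduct_smul _ _ _ }
    have hφ : φ ∈ LinearMap.range (Matrix.toLin' (cornC g₁.1)).dualMap := by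
      rw [LinearMap.range_dualMap_eq_dualAnnihilator_ker, Submodule.mem_dualAnnihilator]
      intro x hx
      exact rowE_zero_of_ker g₁.2 hx
    obtain ⟨ψ, hψ⟩ := hφ
    refine ⟨fun i => -ψ (Pi.single i 1), fun x => ?_⟩
    have h : ψ (cornC g₁.1 *ᵥ x) = rowE g₁.1 ⬝ᵥ x := LinearMap.congr_fun hψ x
    rw [← h]
    conv_lhs => arg 1; rw [← Finset.univ_sum_single (cornC g₁.1 *ᵥ x), map_sum]
    rw [dotProduct, ← Finset.sum_add_distrib]
    refine Finset.sum_eq_zero fun i _ => ?_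
    rw [show (Pi.single i ((cornC g₁.1 *ᵥ x) i) : Fin m → F) =
      (cornC g₁.1 *ᵥ x) i • Pi.single i 1 by simp [← Pi.single_smul], map_smul, smul_eq_mul]
    ring
  have hU₀ : IsA false (-vecMulVec r₀ r₀ + vecMulVec r₀ r₀) := by
    rw [neg_add_cancel]; exact isA_zero
  set U₀ : OO m F := ⟨upU r₀ (-vecMulVec r₀ r₀), upU_mem hU₀⟩
  set g₂ : OO m F := U₀ * g₁ * U₀⁻¹ with hg₂
  have hg₂i : hF.invt g₂ = 1 := (hF.invt_conj _ _).trans hg₁i
  set A := cornA g₂.1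
  set C := cornC g₂.1
  have h0 : rowE g₂.1 = 0 ∧ C = cornC g₁.1 := by
    have hx := fun x => v3_inj.1 ((mulVec_x g₂.1 x).symm.trans (conj_up_x (g := g₁.1) r₀ _ x))
    refine ⟨funext fun j => ?_, Matrix.ext_iff_mulVec.2 fun x => (hx x).2.2⟩
    have := (hx (Pi.single j 1)).1
    rw [hr₀] at this
    simpa using this
  have hC : C ≠ 0 := by rw [h0.2]; exact hyC
  have hAC : IsA false (Aᵀ * C) := by
    have hq' : ∀ x, x ⬝ᵥ ((Aᵀ * C) *ᵥ x) = 0 := fun x => by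
      have := quad_x g₂.2 x
      rw [h0.1, zero_dotProduct, mul_zero, zero_add] at this
      rw [← dot_mm]; exact this
    obtain ⟨d, t⟩ := alt_of_quad hq'
    exact ⟨t, fun _ => d⟩
  have hinj : ∀ v, A *ᵥ v = 0 → C *ᵥ v = 0 → v = 0 := fun v hA hC => by
    have h : g₂.1.1 *ᵥ v3 0 v 0 = g₂.1.1 *ᵥ v3 0 0 0 := by
      rw [mulVec_x, mulVec_x, h0.1, hA, hC]; simp
    exact (v3_inj.1 (mulVec_inj g₂.1 h)).2.1
  have hconj : ∀ (w : Fin m → F) (S : Matrix (Fin m) (Fin m) F) (hS : IsA false (S + vecMulVec w w)),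
      cornA (upU w S * g₂.1 * (upU w S)⁻¹) = A + S * C := by
    intro w S hS
    refine Matrix.ext_iff_mulVec.2 fun x => ?_
    have := v3_inj.1 ((mulVec_x _ x).symm.trans (conj_up_x (g := g₂.1) w S x))
    rw [this.2.1, h0.1, zero_dotProduct, mul_zero, zero_smul, sub_zero, add_mulVec, mulVec_mulVec]
  rcases exists_nice (sp := false) (o := true) A C hC hAC hinj (by omega) (fun _ => hm)
    (fun h => absurd h (by simp))
    (fun _ S hS hne => by
      obtain ⟨w, -, hw⟩ := hS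
      let W : OO m F := ⟨upU w S, upU_mem hw⟩
      exact (key (W * g₂ * W⁻¹) (Matrix.GeneralLinearGroup.mkOfDetNeZero (A + S * C) hne)
        ((hF.invt_conj W g₂).trans hg₂i) (hconj w S hw).symm).1) with
    ⟨S, ⟨w, -, hw⟩, hdet, hns⟩ | ⟨-, ho, -⟩
  swap
  · exact absurd ho (by simp)
  set U : OO m F := ⟨upU w S, upU_mem hw⟩
  set M := Matrix.GeneralLinearGroup.mkOfDetNeZero (A + S * C) (by rw [hdet]; exact one_ne_zero)
  obtain ⟨-, r, T, r', X, hT, hX, e⟩ :=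
    key (U * g₂ * U⁻¹) M ((hF.invt_conj _ _).trans hg₂i) (hconj w S hw).symm
  refine ⟨U * U₀ * ⟨y, hy⟩, r, T, r', X, M, hT, hX, hdet, hns, ?_⟩
  rw [← e]
  have : U * g₂ * U⁻¹ = (U * U₀ * ⟨y, hy⟩) * g * (U * U₀ * ⟨y, hy⟩)⁻¹ := by
    rw [hg₂, hg₁]; group
  rw [this]
  simp only [Subgroup.coe_mul, Subgroup.coe_inv]

end CfsgLib.Thompson
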