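import Cfsg.Agent.Lib.KnownB.Thompson.PlusForm
import Cfsg.Agent.Lib.Geometry.POmegaStd

/-!
The odd-dimensional quadratic form in Siegel coordinates.
-/

set_option autoImplicit false

namespace CfsgLib.Thompson

open Matrix QuadraticMap CfsgLib.Geometry

variable {F : Type*} [Field F] {m : ℕ}

/-- coordinates -/
def v3 (z : F) (x y : Fin m → F) : Unit ⊕ (Fin m ⊕ Fin m) → F :=
  Sum.elim (fun _ => z) (Sum.elim x y)

lemma v3_eta (v : Unit ⊕ (Fin m ⊕ Fin m) → F) :
    v = v3 (v (Sum.inl ())) (fun i => v (Sum.inr (Sum.inl i))) (fun i => v (Sum.inr (Sum.inr i))) := by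
  funext a
  rcases a with a | a | a <;> rfl

lemma v3_inj {z z' : F} {x x' y y' : Fin m → F} :
    v3 z x y = v3 z' x' y' ↔ z = z' ∧ x = x' ∧ y = y' := by
  refine ⟨fun h => ⟨congrFun h (Sum.inl ()), funext fun i => congrFun h (Sum.inr (Sum.inl i)),
    funext fun i => congrFun h (Sum.inr (Sum.inr i))⟩, ?_⟩
  rintro ⟨rfl, rfl, rfl⟩; rfl

lemma v3_add (z z' : F) (x x' y y' : Fin m → F) :
    v3 z x y + v3 z' x' y' = v3 (z + z') (x + x') (y + y') := by
  funext a
  rcases a with a | a | a <;> rfl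

lemma v3_smul (c z : F) (x y : Fin m → F) : c • v3 z x y = v3 (c * z) (c • x) (c • y) := by
  funext a
  rcases a with a | a | a <;> rfl

lemma ext3 {M N : Matrix (Unit ⊕ (Fin m ⊕ Fin m)) (Unit ⊕ (Fin m ⊕ Fin m)) F}
    (h : ∀ z x y, M *ᵥ v3 z x y = N *ᵥ v3 z x y) : M = N :=
  Matrix.ext_iff_mulVec.2 fun v => by rw [v3_eta v]; exact h _ _ _

lemma gl3 {g h : GL (Unit ⊕ (Fin m ⊕ Fin m)) F}
    (e : ∀ z x y, g.1 *ᵥ v3 z x y = h.1 *ᵥ v3 z x y) : g = h := Units.ext (ext3 e)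

/-- the upper unipotent matrix -/
def upMat (r : Fin m → F) (X : Matrix (Fin m) (Fin m) F) :
    Matrix (Unit ⊕ (Fin m ⊕ Fin m)) (Unit ⊕ (Fin m ⊕ Fin m)) F :=
  fromBlocks 1 (Matrix.of fun _ => Sum.elim 0 r)
    (Matrix.of fun a _ => Sum.elim (-((2 : F) • r)) 0 a) (fromBlocks 1 X 0 1)

lemma upMat_mulVec (r : Fin m → F) (X : Matrix (Fin m) (Fin m) F) (z : F) (x y : Fin m → F) :
    upMat r X *ᵥ v3 z x y = v3 (z + r ⬝ᵥ y) (x - (2 * z) • r + X *ᵥ y) y := by
  funext a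
  rcases a with a | a | a
  · simp [upMat, v3, fromBlocks_mulVec, Matrix.mulVec, dotProduct, Fintype.sum_sum_type]
  · simp [upMat, v3, fromBlocks_mulVec, Matrix.mulVec, dotProduct, Fintype.sum_sum_type,
      Matrix.one_apply]
    ring
  · simp [upMat, v3, fromBlocks_mulVec, Matrix.mulVec, dotProduct, Fintype.sum_sum_type,
      Matrix.one_apply]

lemma upMat_mul (r r' : Fin m → F) (X X' : Matrix (Fin m) (Fin m) F) :
    upMat r X * upMat r' X' = upMat (r + r') (X + X' - (2 : F) • vecMulVec r r') := by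
  refine ext3 fun z x y => ?_
  rw [← mulVec_mulVec, upMat_mulVec, upMat_mulVec, upMat_mulVec, v3_inj]
  refine ⟨by rw [add_dotProduct]; ring, ?_, rfl⟩
  funext i
  simp [sub_mulVec, add_mulVec, smul_mulVec, vecMulVec_mulVec]
  ring

lemma upMat_zero : upMat (0 : Fin m → F) 0 = 1 :=
  ext3 fun z x y => by rw [upMat_mulVec]; simp

/-- upper unipotent element -/
def upU (r : Fin m → F) (X : Matrix (Fin m) (Fin m) F) : GL (Unit ⊕ (Fin m ⊕ Fin m)) F :=
  ⟨upMat r X, upMat (-r) (-X - (2 : F) • vecMulVec r r),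
    by rw [upMat_mul, ← upMat_zero]; congr 1 <;> simp; module,
    by rw [upMat_mul, ← upMat_zero]; congr 1 <;> simp; module⟩

lemma upU_val (r : Fin m → F) (X : Matrix (Fin m) (Fin m) F) : (upU r X).1 = upMat r X := rfl
lemma upU_inv (r : Fin m → F) (X : Matrix (Fin m) (Fin m) F) :
    (upU r X)⁻¹ = upU (-r) (-X - (2 : F) • vecMulVec r r) := Units.ext rfl

lemma upU_mul (r r' : Fin m → F) (X X' : Matrix (Fin m) (Fin m) F) :
    upU r X * upU r' X' = upU (r + r') (X + X' - (2 : F) • vecMulVec r r') :=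
  Units.ext (upMat_mul r r' X X')

lemma upU_zero : upU (0 : Fin m → F) 0 = 1 := Units.ext upMat_zero

variable (F m) in
/-- embedding of the even-dimensional group -/
def exH : GL (Fin m ⊕ Fin m) F →* GL (Unit ⊕ (Fin m ⊕ Fin m)) F where
  toFun g := ⟨fromBlocks 1 0 0 g.1, fromBlocks 1 0 0 (g⁻¹).1,
    by simp [fromBlocks_multiply], by simp [fromBlocks_multiply]⟩
  map_one' := Units.ext (by simp)
  map_mul' M N := Units.ext (by simp [fromBlocks_multiply])

variable (F m) in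
/-- Levi elements in odd dimension -/
noncomputable def levI : GL (Fin m) F →* GL (Unit ⊕ (Fin m ⊕ Fin m)) F :=
  (exH F m).comp (levH F m)

variable (F m) in
/-- the flip in odd dimension -/
def flipI : GL (Unit ⊕ (Fin m ⊕ Fin m)) F := exH F m (flipM F m false)

lemma levI_mulVec (M : GL (Fin m) F) (z : F) (x y : Fin m → F) :
    (levI F m M).1 *ᵥ v3 z x y = v3 z (M.1 *ᵥ x) ((ti M).1 *ᵥ y) := by
  show fromBlocks 1 0 0 (levH F m M).1 *ᵥ v3 z x y = _
  rw [levH_val]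
  simp [v3, fromBlocks_mulVec]

lemma flipI_mulVec (z : F) (x y : Fin m → F) :
    (flipI F m).1 *ᵥ v3 z x y = v3 z y x := by
  show fromBlocks 1 0 0 (flipM F m false).1 *ᵥ v3 z x y = _
  rw [flipM_val]
  simp [v3, fromBlocks_mulVec, eps]

lemma flipI_sq : flipI F m * flipI F m = 1 :=
  gl3 fun z x y => by
    rw [Units.val_mul, ← mulVec_mulVec, flipI_mulVec, flipI_mulVec, Units.val_one, one_mulVec]

lemma flipI_inv : (flipI F m)⁻¹ = flipI F m := inv_eq_of_mul_eq_one_left flipI_sq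

lemma flip_conj_levI (M : GL (Fin m) F) :
    flipI F m * levI F m M * (flipI F m)⁻¹ = levI F m (ti M) := by
  rw [flipI_inv]
  refine gl3 fun z x y => ?_
  rw [Units.val_mul, Units.val_mul, ← mulVec_mulVec, ← mulVec_mulVec, flipI_mulVec, levI_mulVec,
    flipI_mulVec, levI_mulVec, ti_ti]

lemma levI_conj_upU (M : GL (Fin m) F) (r : Fin m → F) (X : Matrix (Fin m) (Fin m) F) :
    levI F m M * upU r X * (levI F m M)⁻¹ = upU (M.1 *ᵥ r) (M.1 * X * M.1ᵀ) := by
  rw [← map_inv]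
  refine gl3 fun z x y => ?_
  rw [Units.val_mul, Units.val_mul, ← mulVec_mulVec, ← mulVec_mulVec, levI_mulVec, upU_val,
    upMat_mulVec, levI_mulVec, upU_val, upMat_mulVec, map_inv, ti_inv_val, v3_inj]
  refine ⟨?_, ?_, ?_⟩
  · rw [dotProduct_mulVec, vecMul_transpose]
  · rw [mulVec_add, mulVec_sub, mulVec_smul, mulVec_mulVec, Units.mul_inv, one_mulVec,
      mulVec_mulVec, mulVec_mulVec]
  · rw [mulVec_mulVec, ti_val, ← transpose_mul, Units.mul_inv, transpose_one, one_mulVec]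

/-- lower unipotent element -/
def loU (r : Fin m → F) (T : Matrix (Fin m) (Fin m) F) : GL (Unit ⊕ (Fin m ⊕ Fin m)) F :=
  flipI F m * upU r T * (flipI F m)⁻¹

lemma loU_mulVec (r : Fin m → F) (T : Matrix (Fin m) (Fin m) F) (z : F) (x y : Fin m → F) :
    (loU r T).1 *ᵥ v3 z x y = v3 (z + r ⬝ᵥ x) x (y - (2 * z) • r + T *ᵥ x) := by
  rw [loU, flipI_inv, Units.val_mul, Units.val_mul, ← mulVec_mulVec, ← mulVec_mulVec, flipI_mulVec,
    upU_val, upMat_mulVec, flipI_mulVec]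

/-- the form -/
noncomputable abbrev qO (m : ℕ) (F : Type*) [Field F] :
    QuadraticForm F (Unit ⊕ (Fin m ⊕ Fin m) → F) :=
  matQuad (oddMat m F)

lemma qO_v3 (z : F) (x y : Fin m → F) : qO m F (v3 z x y) = z * z + x ⬝ᵥ y := by
  simp [qO, matQuad_apply, oddMat, plusMat, v3, fromBlocks_mulVec, dotProduct,
    Fintype.sum_sum_type]

lemma qO_good [Fintype F] (h9 : 9 ≤ Fintype.card F) (h2 : (2 : F) ≠ 0) : GoodForm (qO m F) :=
  GoodForm.of_matQuad h9 (by
    rw [det_odd_gram]; exact mul_ne_zero h2 (pow_ne_zero _ (neg_ne_zero.2 one_ne_zero)))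

/-- the isometry group -/
noncomputable abbrev OO (m : ℕ) (F : Type*) [Field F] : Subgroup (GL (Unit ⊕ (Fin m ⊕ Fin m)) F) :=
  Cfsg.isometryGroup F ⇑(qO m F)

lemma mem_OO {g : GL (Unit ⊕ (Fin m ⊕ Fin m)) F} :
    g ∈ OO m F ↔ ∀ z x y, qO m F (g.1 *ᵥ v3 z x y) = z * z + x ⬝ᵥ y := by
  refine ⟨fun h z x y => (h (v3 z x y) (v3 z x y)).trans (qO_v3 z x y), fun h u _ => ?_⟩
  show qO m F (g.1 *ᵥ u) = qO m F u
  rw [v3_eta u, h, qO_v3]

lemma exH_mem {g : GL (Fin m ⊕ Fin m) F} (hg : g ∈ Cfsg.isometryGroup F ⇑(qP m F)) :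
    exH F m g ∈ OO m F := by
  refine mem_OO.2 fun z x y => ?_
  have h := hg (Sum.elim x y) (Sum.elim x y)
  change qP m F (g.1 *ᵥ Sum.elim x y) = qP m F (Sum.elim x y) at h
  rw [qP_elim] at h
  have e : (exH F m g).1 *ᵥ v3 z x y = v3 z ((g.1 *ᵥ Sum.elim x y) ∘ Sum.inl)
      ((g.1 *ᵥ Sum.elim x y) ∘ Sum.inr) := by
    show fromBlocks 1 0 0 g.1 *ᵥ v3 z x y = _
    simp [v3, fromBlocks_mulVec]
  rw [e, qO_v3, ← qP_elim ((g.1 *ᵥ Sum.elim x y) ∘ Sum.inl), Sum.elim_comp_inl_inr, h]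

lemma levI_mem (M : GL (Fin m) F) : levI F m M ∈ OO m F := exH_mem (Spec.plus.levH_mem M)

lemma flipI_mem : flipI F m ∈ OO m F := exH_mem Spec.plus.flip_mem

lemma upU_mem {r : Fin m → F} {X : Matrix (Fin m) (Fin m) F}
    (h : IsA false (X + vecMulVec r r)) : upU r X ∈ OO m F := by
  refine mem_OO.2 fun z x y => ?_
  rw [upU_val, upMat_mulVec, qO_v3]
  have h' := h.dot_self y
  rw [add_mulVec, dotProduct_add, vecMulVec_mulVec, op_smul_eq_smul, dotProduct_smul,
    smul_eq_mul, dotProduct_comm y r] at h'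
  rw [add_dotProduct, sub_dotProduct, smul_dotProduct, smul_eq_mul, dotProduct_comm (X *ᵥ y) y]
  linear_combination h'

lemma loU_mem {r : Fin m → F} {T : Matrix (Fin m) (Fin m) F}
    (h : IsA false (T + vecMulVec r r)) : loU r T ∈ OO m F :=
  mul_mem (mul_mem flipI_mem (upU_mem h)) (inv_mem flipI_mem)

lemma isA_half {r : Fin m → F} {X : Matrix (Fin m) (Fin m) F} (h2 : (2 : F) ≠ 0)
    (h : IsA false (X + vecMulVec r r)) :
    ∃ s Y, IsA false (Y + vecMulVec s s) ∧ upU s Y * upU s Y = upU r X := by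
  refine ⟨(2 : F)⁻¹ • r, (2 : F)⁻¹ • X + ((2 : F)⁻¹ * (2 : F)⁻¹) • vecMulVec r r, ?_, ?_⟩
  · convert h.smul ((2 : F)⁻¹) using 1
    ext i j
    simp [vecMulVec_apply]
    field_simp
    ring
  · rw [upU_mul]
    congr 1
    · funext i; simp; field_simp; ring
    · ext i j
      simp [vecMulVec_apply]
      field_simp
      ring

lemma single_z : (Pi.single (Sum.inl ()) 1 : Unit ⊕ (Fin m ⊕ Fin m) → F) = v3 1 0 0 := by
  funext a; rcases a with a | a | a <;> simp [v3]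

lemma single_x (j : Fin m) : (Pi.single (Sum.inr (Sum.inl j)) 1 : Unit ⊕ (Fin m ⊕ Fin m) → F) =
    v3 0 (Pi.single j 1) 0 := by
  funext a; rcases a with a | a | a <;> simp [v3, Pi.single_apply]

lemma single_y (j : Fin m) : (Pi.single (Sum.inr (Sum.inr j)) 1 : Unit ⊕ (Fin m ⊕ Fin m) → F) =
    v3 0 0 (Pi.single j 1) := by
  funext a; rcases a with a | a | a <;> simp [v3, Pi.single_apply]

lemma polar_v3 (z z' : F) (x x' y y' : Fin m → F) :
    polar (qO m F) (v3 z x y) (v3 z' x' y') = 2 * z * z' + x ⬝ᵥ y' + x' ⬝ᵥ y := by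
  simp only [QuadraticMap.polar]
  rw [v3_add, qO_v3, qO_v3, qO_v3]
  simp only [add_dotProduct, dotProduct_add]
  ring

variable [Finite F] (hF : GoodForm (qO m F))

/-- Levi elements as isometries -/
noncomputable def levJ (m : ℕ) (F : Type*) [Field F] : GL (Fin m) F →* OO m F :=
  (levI F m).codRestrict _ levI_mem

include hF in
/-- the reflection in the middle coordinate -/
lemma exists_refl_z : ∃ (s : OO m F) (c : CfsgLib.Geometry.SqClass F),
    hF.invt s = (c, Multiplicative.ofAdd 1) ∧ ∀ z x y, s.1.1 *ᵥ v3 z x y = v3 (-z) x y := by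
  have hQ : qO m F (v3 1 0 0) = 1 := by rw [qO_v3]; simp
  obtain ⟨s, hs, hsv⟩ := hF.exists_refl (a := v3 1 0 0) (by rw [hQ]; exact one_ne_zero)
  refine ⟨s, _, hs, fun z x y => ?_⟩
  rw [hsv, hQ, polar_v3, v3_smul, sub_eq_add_neg, ← neg_one_smul F, v3_smul, v3_add, v3_inj]
  refine ⟨by simp; ring, by simp, by simp⟩

include hF in
/-- the invariant of a diagonal element -/
lemma invt_diagJ (j : Fin m) {d : F} (hd : d ≠ 0) {D : GL (Fin m) F}
    (hD : D.1 = diagonal (Function.update 1 j d)) : hF.invt (levJ m F D) = (sqMk hd, 1) := by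
  obtain ⟨s, hs, hsv⟩ := hF.exists_scale (e := v3 0 (Pi.single j 1) 0) (f := v3 0 0 (Pi.single j 1))
    (by rw [qO_v3]; simp) (by rw [qO_v3]; simp) (by rw [polar_v3]; simp) hd
  rw [← hs]
  refine hF.invt_eq_of _ _ (ext3 fun z x y => ?_)
  rw [hsv, show (levJ m F D).1 = levI F m D from rfl, levI_mulVec, polar_v3, polar_v3, v3_smul,
    v3_smul, v3_add, v3_add, v3_inj, ti_diag hD, hD]
  refine ⟨by simp, ?_, ?_⟩ <;> funext a <;> rw [mulVec_diagonal] <;> by_cases ha : a = j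
  · subst ha; simp; ring
  · simp [ha]
  · subst ha; simp; ring
  · simp [ha]

include hF in
/-- the invariant of a Levi element -/
lemma invt_levJ [Fintype F] (h4 : 4 ≤ Fintype.card F) (hm : 2 ≤ m) (M : GL (Fin m) F) {d : F}
    (hd : d ≠ 0) (e : M.1.det = d) : hF.invt (levJ m F M) = (sqMk hd, 1) := by
  set j : Fin m := ⟨0, by omega⟩
  have hdet : (diagonal (Function.update (1 : Fin m → F) j d)).det = d := by
    rw [det_diagonal, Finset.prod_update_of_mem (Finset.mem_univ _)]; simp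
  set D := Matrix.GeneralLinearGroup.mkOfDetNeZero _ (hdet.trans_ne hd) with hDdef
  have hD : D.1 = diagonal (Function.update (1 : Fin m → F) j d) := rfl
  have h1 : (M * D⁻¹).1.det = 1 := by
    have h2 : (M * D⁻¹).1.det * D.1.det = M.1.det := by
      rw [← det_mul, ← Units.val_mul, inv_mul_cancel_right]
    rw [hD, hdet, e] at h2
    exact mul_right_cancel₀ hd (h2.trans (one_mul d).symm)
  rw [← inv_mul_cancel_right M D, map_mul, map_mul, hF.invt_of_sl h4 hm _ h1, one_mul,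
    invt_diagJ hF j hd hD]

omit [Finite F] in
include hF in
/-- squares have trivial invariant -/
lemma invt_sq (a : OO m F) : hF.invt (a * a) = 1 := by
  rw [map_mul]
  exact Prod.ext (sqClass_mul_self _) ((by decide : ∀ t : Multiplicative (ZMod 2), t * t = 1) _)

omit [Finite F] in
include hF in
lemma invt_upU (h2 : (2 : F) ≠ 0) {r : Fin m → F} {X : Matrix (Fin m) (Fin m) F}
    (h : IsA false (X + vecMulVec r r)) : hF.invt ⟨upU r X, upU_mem h⟩ = 1 := by
  obtain ⟨s, Y, hY, e⟩ := isA_half h2 h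
  rw [show (⟨upU r X, upU_mem h⟩ : OO m F) = ⟨upU s Y, upU_mem hY⟩ * ⟨upU s Y, upU_mem hY⟩ from
    Subtype.ext e.symm]
  exact invt_sq hF _

omit [Finite F] in
include hF in
lemma invt_loU (h2 : (2 : F) ≠ 0) {r : Fin m → F} {T : Matrix (Fin m) (Fin m) F}
    (h : IsA false (T + vecMulVec r r)) : hF.invt ⟨loU r T, loU_mem h⟩ = 1 :=
  (hF.invt_conj ⟨flipI F m, flipI_mem⟩ ⟨upU r T, upU_mem h⟩).trans (invt_upU hF h2 h)

end CfsgLib.Thompson
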