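import Cfsg.Agent.Lib.KnownB.Thompson.Linear

/-!
A scaled model of the two-eigenvalue form and its factorisation property, as general linear elements.
-/

set_option autoImplicit false

namespace CfsgLib.Thompson

open Matrix Module CfsgLib.KnownB.Sourour

variable {F : Type*} [Field F]

/-- inverse transpose -/
noncomputable def ti {n : Type} [Fintype n] [DecidableEq n] : GL n F →* GL n F where
  toFun M := ⟨(M⁻¹).1ᵀ, M.1ᵀ, by rw [← transpose_mul, Units.mul_inv, transpose_one],
    by rw [← transpose_mul, Units.inv_mul, transpose_one]⟩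
  map_one' := by ext : 1; simp
  map_mul' M N := by
    ext : 1
    simp only [_root_.mul_inv_rev, Units.val_mul, transpose_mul]

lemma ti_val {n : Type} [Fintype n] [DecidableEq n] (M : GL n F) : (ti M).1 = (M⁻¹).1ᵀ := rfl

lemma ti_inv_val {n : Type} [Fintype n] [DecidableEq n] (M : GL n F) : ((ti M)⁻¹).1 = M.1ᵀ := rfl

lemma ti_ti {n : Type} [Fintype n] [DecidableEq n] (M : GL n F) : ti (ti M) = M := by
  ext : 1
  rw [ti_val, ti_inv_val, transpose_transpose]

/-- the matrix of determinant one as a general linear element -/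
lemma exists_gl_of_det {n : Type} [Fintype n] [DecidableEq n] {E : End F (n → F)}
    (h : LinearMap.det E = 1) : ∃ S : GL n F, S.1 = LinearMap.toMatrix' E ∧ S.1.det = 1 := by
  have hd : (LinearMap.toMatrix' E).det = 1 := by rw [LinearMap.det_toMatrix', h]
  exact ⟨Matrix.GeneralLinearGroup.mkOfDetNeZero _ (by rw [hd]; exact one_ne_zero), rfl, hd⟩

variable {k : ℕ}

/-- eigenvalues of the model -/
def dv (k : ℕ) (a : F) (i : Fin (k + 2)) : F :=
  if i.val < k then 1 else if i.val = k then a else a⁻¹

/-- the nilpotent part of the model -/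
def shiftN (k : ℕ) : Matrix (Fin (k + 2)) (Fin (k + 2)) F :=
  Matrix.of fun i j => if i.val = j.val + 1 ∧ i.val < k then 1 else 0

/-- the model -/
def modelN (k : ℕ) (a : F) : Matrix (Fin (k + 2)) (Fin (k + 2)) F :=
  Matrix.diagonal (dv k a) + shiftN k

lemma dv_ne {a : F} (ha : a ≠ 0) (i : Fin (k + 2)) : dv k a i ≠ 0 := by
  unfold dv; split_ifs <;> simp [ha]

/-- node of the chain or eigenvector -/
def node (k : ℕ) (r : Bool) : Fin k ⊕ Fin 2 ≃ Fin (k + 2) :=
  ((if r then Fin.revPerm else Equiv.refl _).sumCongr (Equiv.refl _)).trans finSumFinEquiv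

lemma node_inl (r : Bool) (i : Fin k) :
    (node k r (Sum.inl i)).val = if r then k - (i.val + 1) else i.val := by
  cases r <;> simp [node, Fin.val_rev]

lemma node_inr (r : Bool) (j : Fin 2) : (node k r (Sum.inr j)).val = k + j.val := by
  cases r <;> simp [node]

lemma model_form {a : F} (r : Bool) :
    Nonempty (HasForm (Matrix.toLin' (if r then (modelN k a)ᵀ else modelN k a)) k (pairMu a)) := by
  set M := if r then (modelN k a)ᵀ else modelN k a with hM
  have hcol : ∀ x y, (Matrix.toLin' M (Pi.single x 1)) y = M y x := fun x y => by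
    simp [Matrix.toLin'_apply, mulVec_single_one]
  have hent : ∀ x y : Fin (k + 2), M y x = (if y = x then dv k a x else 0) +
      if (if r then x.val = y.val + 1 ∧ x.val < k else y.val = x.val + 1 ∧ y.val < k) then 1
        else 0 := by
    intro x y
    cases r
    · simp only [hM, Bool.false_eq_true, if_false, modelN, Matrix.add_apply, Matrix.diagonal_apply,
        shiftN, Matrix.of_apply]
      by_cases e : y = x
      · subst e; simp
      · simp [e]
    · simp only [hM, if_true, Matrix.transpose_apply, modelN, Matrix.add_apply,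
        Matrix.diagonal_apply, shiftN, Matrix.of_apply]
      by_cases e : y = x
      · subst e; simp
      · simp [e, Ne.symm e]
  let B : Basis (Fin k ⊕ Fin 2) F (Fin (k + 2) → F) :=
    (Pi.basisFun F (Fin (k + 2))).reindex (node k r).symm
  have hB : ∀ z, B z = Pi.single (node k r z) 1 := fun z => by simp [B]
  refine form_of_basis B _ (fun j => B (Sum.inr j)) (fun i => funext fun y => ?_)
    (fun j => funext fun y => ?_) (fun j => B.ne_zero _)
  · have hi := i.isLt
    have hy := y.isLt
    have hx : (node k r (Sum.inl i)).val < k := by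
      rw [node_inl]; cases r <;> simp <;> omega
    rw [hB, hcol, hent, Pi.add_apply, Pi.single_apply, dv, if_pos hx]
    congr 1
    cases r <;> simp only [Bool.false_eq_true, if_false, if_true]
    all_goals
      split_ifs with h1 h2 h2
      · rw [node_inl] at h1
        rw [hB, Pi.single_apply, if_pos]
        refine Fin.ext ?_
        rw [node_inl]
        simp at h1 ⊢
        omega
      · exfalso
        rw [node_inl] at h1
        simp at h1
        omega
      · rw [hB, Pi.single_apply, if_neg]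
        intro e
        apply h1
        have e' := congrArg Fin.val e
        rw [node_inl] at e'
        rw [node_inl]
        simp at e' ⊢
        omega
      · rfl
  · have hx : (node k r (Sum.inr j)).val = k + j.val := node_inr r j
    rw [hB, hcol, hent, Pi.smul_apply, Pi.single_apply, smul_eq_mul]
    rw [if_neg (c := (if r then _ else _)) (by cases r <;> simp <;> omega), add_zero]
    by_cases e : y = node k r (Sum.inr j)
    · rw [if_pos e, if_pos e, mul_one, dv, if_neg (by omega)]
      fin_cases j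
      · rw [if_pos (by simpa using hx)]; rfl
      · simp at hx ⊢
        rw [if_neg (by omega)]; rfl
    · rw [if_neg e, if_neg e, mul_zero]

variable [Fintype F]

lemma model_pow (a : F) :
    modelN k a ^ (Fintype.card F ^ (k + 2)) = Matrix.diagonal (dv k a) := by
  obtain ⟨p, hp⟩ := CharP.exists F
  obtain ⟨f, hprime, hf⟩ := FiniteField.card F p
  have : Fact p.Prime := ⟨hprime⟩
  have hle : k + 2 ≤ Fintype.card F ^ (k + 2) := (Nat.lt_pow_self Fintype.one_lt_card).le
  have hc : Commute (Matrix.diagonal (dv k a)) (shiftN k) := by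
    ext i j
    simp only [Matrix.diagonal_mul, Matrix.mul_diagonal, shiftN, Matrix.of_apply]
    split_ifs with h
    · rw [dv, dv, if_pos h.2, if_pos (by omega)]
    · ring
  have e := add_pow_char_pow_of_commute p ((f : ℕ) * (k + 2)) hc
  rw [pow_mul, ← hf] at e
  have h0 : (shiftN k : Matrix (Fin (k + 2)) (Fin (k + 2)) F) ^ (k + 2) = 0 := by
    ext i j
    exact (pow_lower (N := (shiftN k : Matrix (Fin (k + 2)) (Fin (k + 2)) F))
      (fun i j hij => by simp only [shiftN, Matrix.of_apply]; rw [if_neg (by omega)]) (k + 2)).1 i j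
      (by omega)
  rw [modelN, e, pow_eq_zero_of_le hle h0, add_zero, Matrix.diagonal_pow]
  congr 1
  funext i
  rw [Pi.pow_apply]
  exact FiniteField.pow_card_pow _ _

/-- The scaled model: its power is diagonal and a non-scalar matrix of determinant one is a product
of conjugates of it and of its inverse transpose. -/
theorem exists_scaled (h4 : 4 ≤ ENat.card F) {a c : F} (ha : Adm a) (hc : c ≠ 0) (k : ℕ) :
    ∃ B : GL (Fin (k + 2)) F, B.1 = c • modelN k a ∧
      (B ^ (Fintype.card F ^ (k + 2))).1 = Matrix.diagonal (fun i => c * dv k a i) ∧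
      ∀ M : GL (Fin (k + 2)) F, M.1.det = 1 →
        (M = 1 ∨ ¬ ∃ l : F, M.1 = l • 1) →
        ∃ S T : GL (Fin (k + 2)) F, S.1.det = 1 ∧ T.1.det = 1 ∧
          M = (S * B * S⁻¹) * (T * ti B * T⁻¹) := by
  obtain ⟨hN⟩ := model_form (F := F) (k := k) (a := a) false
  obtain ⟨hNt⟩ := model_form (F := F) (k := k) (a := a) true
  simp only [Bool.false_eq_true, if_false, if_true] at hN hNt
  have hd : (modelN k a).det = 1 := by rw [← LinearMap.det_toLin', ha.det_form hN]
  let N₀ : GL (Fin (k + 2)) F :=
    Matrix.GeneralLinearGroup.mkOfDetNeZero (modelN k a) (by rw [hd]; exact one_ne_zero)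
  let B : GL (Fin (k + 2)) F :=
    Matrix.GeneralLinearGroup.mkOfDetNeZero (c • modelN k a)
      (by rw [Matrix.det_smul, hd, mul_one]; exact pow_ne_zero _ hc)
  have hBi : (B⁻¹).1 = c⁻¹ • (N₀⁻¹).1 := by
    refine (Units.eq_inv_of_mul_eq_one_left (u := B) ?_).symm
    show c • modelN k a * (c⁻¹ • (N₀⁻¹).1) = 1
    rw [smul_mul_smul_comm, mul_inv_cancel₀ hc, one_smul]
    exact N₀.mul_inv
  refine ⟨B, rfl, ?_, fun M hM hM' => ?_⟩
  · rw [Units.val_pow_eq_pow_val]
    show (c • modelN k a) ^ _ = _
    rw [_root_.smul_pow, model_pow, FiniteField.pow_card_pow, ← Matrix.diagonal_smul]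
    rfl
  have hA : Matrix.toLin' M.1 = 1 ∨ ¬ ∃ l : F, Matrix.toLin' M.1 = l • 1 := by
    rcases hM' with rfl | h
    · exact Or.inl (by rw [Units.val_one, Matrix.toLin'_one]; rfl)
    · exact Or.inr fun ⟨l, hl⟩ => h ⟨l, Matrix.toLin'.injective (by
        rw [hl, map_smul, Matrix.toLin'_one]; rfl)⟩
  obtain ⟨L, U, hLU, ⟨hL⟩, ⟨hU⟩⟩ :=
    two_forms (m := k) h4 ha (by simp) (Matrix.toLin' M.1) (by rw [LinearMap.det_toLin', hM]) hA
  have hTi : HasForm (Matrix.toLin' (ti N₀).1) k (pairMu a) := by
    refine hNt.inv _ ?_ ?_ ![1, 0] ha.mul_swap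
    · rw [Module.End.mul_eq_comp, ← Matrix.toLin'_mul]
      show Matrix.toLin' ((modelN k a)ᵀ * (N₀⁻¹).1ᵀ) = _
      rw [← transpose_mul, show (N₀⁻¹).1 * modelN k a = 1 from N₀.inv_mul, transpose_one,
        Matrix.toLin'_one]
      rfl
    · rw [Module.End.mul_eq_comp, ← Matrix.toLin'_mul]
      show Matrix.toLin' ((N₀⁻¹).1ᵀ * (modelN k a)ᵀ) = _
      rw [← transpose_mul, show modelN k a * (N₀⁻¹).1 = 1 from N₀.mul_inv, transpose_one,
        Matrix.toLin'_one]
      rfl
  have key : ∀ (X : GL (Fin (k + 2)) F) (W : End F (Fin (k + 2) → F)),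
      HasForm (Matrix.toLin' X.1) k (pairMu a) → HasForm W k (pairMu a) →
      ∃ S : GL (Fin (k + 2)) F, S.1.det = 1 ∧ (S * X * S⁻¹).1 = LinearMap.toMatrix' W := by
    intro X W hX hW
    obtain ⟨E, hE, eE⟩ := form_conj ha hX hW
    obtain ⟨S, hS, hSd⟩ := exists_gl_of_det hE
    refine ⟨S, hSd, ?_⟩
    have e' : S.1 * X.1 = LinearMap.toMatrix' W * S.1 := by
      rw [hS, ← LinearMap.toMatrix'_mul, ← eE, LinearMap.toMatrix'_mul, LinearMap.toMatrix'_toLin']
    rw [Units.val_mul, Units.val_mul, e', Units.mul_inv_cancel_right]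
  obtain ⟨S, hSd, hS⟩ := key N₀ L hN hL
  obtain ⟨T, hTd, hT⟩ := key (ti N₀) U hTi hU
  refine ⟨S, T, hSd, hTd, Units.ext ?_⟩
  rw [show M.1 = LinearMap.toMatrix' L * LinearMap.toMatrix' U by
    rw [← LinearMap.toMatrix'_mul, ← hLU, LinearMap.toMatrix'_toLin'], ← hS, ← hT]
  simp only [Units.val_mul, ti_val, hBi, Matrix.transpose_smul, Matrix.mul_smul, Matrix.smul_mul]
  show _ = _ • (S.1 * (c • modelN k a) * (S⁻¹).1 * _)
  simp only [Matrix.mul_smul, Matrix.smul_mul, smul_smul, inv_mul_cancel₀ hc, one_smul]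
  rfl

end CfsgLib.Thompson
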