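import Cfsg.Agent.Lib.KnownB.Thompson.Pair

/-!
Choosing `S` in a space of (skew-)symmetric matrices so that `A + S C` has determinant one and is not
scalar, when `Aᵀ C` lies in that space.
-/

set_option autoImplicit false

namespace CfsgLib.Thompson

open Matrix

variable {F : Type*} [Field F]

/-- symmetric (`sp`) or alternating matrices -/
def IsA (sp : Bool) {n : Type*} (X : Matrix n n F) : Prop :=
  Xᵀ = (if sp then X else -X) ∧ (sp = false → ∀ i, X i i = 0)

/-- the allowed upper corners -/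
def Cls (sp o : Bool) {n : Type*} (X : Matrix n n F) : Prop :=
  ∃ w : n → F, (o = false → w = 0) ∧ IsA sp (X + vecMulVec w w)

variable {sp o : Bool} {n p : Type*}

lemma isA_zero : IsA sp (0 : Matrix n n F) := by
  refine ⟨?_, fun _ i => rfl⟩
  cases sp <;> simp

lemma IsA.add {X Y : Matrix n n F} (hX : IsA sp X) (hY : IsA sp Y) : IsA sp (X + Y) := by
  refine ⟨?_, fun h i => by rw [Matrix.add_apply, hX.2 h, hY.2 h, add_zero]⟩
  rw [transpose_add, hX.1, hY.1]
  cases sp
  · simp; abel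
  · simp

lemma IsA.neg {X : Matrix n n F} (hX : IsA sp X) : IsA sp (-X) := by
  refine ⟨?_, fun h i => by rw [Matrix.neg_apply, hX.2 h, neg_zero]⟩
  rw [transpose_neg, hX.1]
  cases sp <;> simp

lemma IsA.transpose {X : Matrix n n F} (hX : IsA sp X) : IsA sp Xᵀ := by
  cases sp
  · rw [hX.1]; exact hX.neg
  · rw [hX.1]; exact hX

lemma IsA.smul {X : Matrix n n F} (hX : IsA sp X) (c : F) : IsA sp (c • X) := by
  refine ⟨?_, fun h i => by rw [Matrix.smul_apply, hX.2 h, smul_zero]⟩
  rw [transpose_smul, hX.1]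
  cases sp <;> simp

variable [Fintype n] [Fintype p]

/-- an alternating matrix has zero quadratic form -/
lemma IsA.dot_self {X : Matrix n n F} (hX : IsA false X) (u : n → F) : u ⬝ᵥ (X *ᵥ u) = 0 := by
  classical
  have ht : ∀ i j, X i j = -X j i := fun i j => by
    have := congrFun (congrFun hX.1 j) i
    simpa using this
  simp only [dotProduct, Matrix.mulVec, Finset.mul_sum]
  rw [← Finset.sum_product']
  refine Finset.sum_involution (fun x _ => (x.2, x.1)) (fun x _ => ?_) (fun x _ hx e => ?_)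
    (fun _ _ => Finset.mem_univ _) (fun _ _ => rfl)
  · dsimp only
    rw [ht x.2 x.1]; ring
  · apply hx
    have : x.2 = x.1 := congrArg Prod.fst e
    rw [this, hX.2 rfl]; ring

lemma IsA.congr {X : Matrix n n F} (hX : IsA sp X) (P : Matrix n p F) : IsA sp (Pᵀ * X * P) := by
  refine ⟨?_, fun h i => ?_⟩
  · rw [transpose_mul, transpose_mul, transpose_transpose, hX.1]
    cases sp <;> simp [Matrix.mul_assoc]
  · subst h
    rw [← hX.dot_self (fun a => P a i)]
    simp only [Matrix.mul_apply, Matrix.transpose_apply, dotProduct, Matrix.mulVec, Finset.sum_mul,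
      Finset.mul_sum]
    rw [Finset.sum_comm]
    exact Finset.sum_congr rfl fun a _ => Finset.sum_congr rfl fun b _ => mul_assoc _ _ _

lemma Cls.congr {X : Matrix n n F} (hX : Cls sp o X) (P : Matrix n p F) :
    Cls sp o (Pᵀ * X * P) := by
  obtain ⟨w, hw, hA⟩ := hX
  refine ⟨Pᵀ *ᵥ w, fun h => by rw [hw h, mulVec_zero], ?_⟩
  have := hA.congr P
  rw [Matrix.mul_add, Matrix.add_mul, mul_vecMulVec, vecMulVec_mul, ← mulVec_transpose] at this
  exact this

omit [Fintype n] in
lemma Cls.of_isA {X : Matrix n n F} (hX : IsA sp X) : Cls sp o X :=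
  ⟨0, fun _ => rfl, by rwa [zero_vecMulVec, add_zero]⟩

omit [Fintype n] in
lemma Cls.add_isA {X Y : Matrix n n F} (hX : Cls sp o X) (hY : IsA sp Y) : Cls sp o (X + Y) := by
  obtain ⟨w, hw, hA⟩ := hX
  exact ⟨w, hw, by have := hA.add hY; rwa [add_right_comm] at this⟩

omit [Fintype n] [Fintype p] in
lemma IsA.submatrix {X : Matrix n n F} (hX : IsA sp X) (e : p → n) : IsA sp (X.submatrix e e) := by
  refine ⟨?_, fun h i => hX.2 h _⟩
  rw [transpose_submatrix, hX.1]
  cases sp <;> rfl

omit [Fintype n] [Fintype p] in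
lemma Cls.submatrix {X : Matrix n n F} (hX : Cls sp o X) (e : p → n) :
    Cls sp o (X.submatrix e e) := by
  obtain ⟨w, hw, hA⟩ := hX
  exact ⟨w ∘ e, fun h => by rw [hw h]; rfl, hA.submatrix e⟩

omit [Fintype n] [Fintype p] in
lemma IsA.blocks {X : Matrix n n F} (hX : IsA sp X) {Y : Matrix p p F} (hY : IsA sp Y)
    (E : Matrix p n F) : IsA sp (fromBlocks X (if sp then E else -E)ᵀ E Y) := by
  refine ⟨?_, fun h i => ?_⟩
  · rw [fromBlocks_transpose, hX.1, hY.1]
    cases sp
    · simp [fromBlocks_neg]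
    · simp
  · cases i with
    | inl i => exact hX.2 h i
    | inr i => exact hY.2 h i

omit [Fintype n] [Fintype p] in
lemma Cls.blocks {X : Matrix n n F} (hX : Cls sp o X) (E : Matrix p n F) :
    Cls sp o (fromBlocks X (if sp then E else -E)ᵀ E (0 : Matrix p p F)) := by
  obtain ⟨w, hw, hA⟩ := hX
  refine ⟨Sum.elim w 0, fun h => by rw [hw h]; funext i; cases i <;> rfl, ?_⟩
  have e : vecMulVec (Sum.elim w (0 : p → F)) (Sum.elim w (0 : p → F)) =
      fromBlocks (vecMulVec w w) 0 0 0 := by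
    ext i j
    cases i <;> cases j <;> simp [vecMulVec_apply]
  rw [e, fromBlocks_add, add_zero, add_zero, add_zero]
  exact hA.blocks isA_zero E

/-- the corner matrix and its congruent partner -/
lemma corner_partner {R : Type*} [Fintype R] [DecidableEq R] {x : F} (hx : x ≠ 0) (i₀ : R)
    {K : Matrix R R F} (hX : Cls sp o (fromBlocks (x • (1 : Matrix Unit Unit F)) 0 0 K)) :
    ∃ X' : Matrix (Unit ⊕ R) (Unit ⊕ R) F, Cls sp o X' ∧
      X'.det = (fromBlocks (x • (1 : Matrix Unit Unit F)) 0 0 K).det ∧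
      ∀ s : F, X' ≠ s • fromBlocks (x • (1 : Matrix Unit Unit F)) 0 0 K := by
  classical
  let b : Matrix Unit R F := Matrix.of fun _ j => if j = i₀ then 1 else 0
  let T : Matrix (Unit ⊕ R) (Unit ⊕ R) F := fromBlocks 1 b 0 1
  refine ⟨Tᵀ * fromBlocks (x • (1 : Matrix Unit Unit F)) 0 0 K * T, hX.congr T, ?_, fun s e => ?_⟩
  · rw [det_mul, det_mul, det_transpose, show T.det = 1 by simp [T], one_mul, mul_one]
  · simp only [T, fromBlocks_transpose, fromBlocks_multiply, fromBlocks_smul] at e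
    obtain ⟨e1, e2, -, -⟩ := fromBlocks_inj.1 e
    have h1 := congrFun (congrFun e1 ()) ()
    have h2 := congrFun (congrFun e2 ()) i₀
    simp [b, Matrix.mul_apply] at h1 h2
    exact hx h2

/-- the hyperbolic block and its congruent partner -/
lemma hyp_partner {R : Type*} [Fintype R] [DecidableEq R] {D : Matrix R R F} (hD : D.det ≠ 0)
    {i j : R} (hij : i ≠ j) (hX : Cls sp o (fromBlocks 0 D (-Dᵀ) 0)) :
    ∃ X' : Matrix (R ⊕ R) (R ⊕ R) F, Cls sp o X' ∧
      X'.det = (fromBlocks 0 D (-Dᵀ) 0).det ∧ ∀ s : F, X' ≠ s • fromBlocks 0 D (-Dᵀ) 0 := by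
  let T : Matrix (R ⊕ R) (R ⊕ R) F := fromBlocks 1 0 0 (transvection i j 1)
  refine ⟨Tᵀ * fromBlocks 0 D (-Dᵀ) 0 * T, hX.congr T, ?_, fun s e => ?_⟩
  · rw [det_mul, det_mul, det_transpose,
      show T.det = 1 by simp [T, det_transvection_of_ne i j hij], one_mul, mul_one]
  · simp only [T, fromBlocks_transpose, fromBlocks_multiply, fromBlocks_smul] at e
    obtain ⟨-, e2, -, -⟩ := fromBlocks_inj.1 e
    simp only [transpose_one, one_mul, transpose_zero, zero_mul, add_zero, mul_zero, zero_add] at e2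
    have e3 := congrArg (D⁻¹ * ·) e2
    simp only [← Matrix.mul_assoc, Matrix.mul_smul, nonsing_inv_mul _ (isUnit_iff_ne_zero.2 hD),
      one_mul] at e3
    have h1 := congrFun (congrFun e3 i) j
    simp [transvection, Matrix.one_apply, hij] at h1

/-- the standard alternating block -/
def hyp (l : ℕ) (D : Matrix (Fin l) (Fin l) F) : Matrix (Fin l ⊕ Fin l) (Fin l ⊕ Fin l) F :=
  fromBlocks 0 D (-Dᵀ) 0

lemma hyp_isA {l : ℕ} (D : Matrix (Fin l) (Fin l) F) : IsA false (hyp l D) := by
  refine ⟨?_, fun _ i => ?_⟩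
  · simp [hyp, fromBlocks_transpose, fromBlocks_neg]
  · cases i <;> simp [hyp]

lemma hyp_det {l : ℕ} (d : Fin l → F) : (hyp l (diagonal d)).det = (∏ i, d i) * ∏ i, d i := by
  have e : hyp l (diagonal d) =
      Matrix.J (Fin l) F * fromBlocks (-diagonal d) 0 0 (-diagonal d) := by
    simp only [hyp, Matrix.J, fromBlocks_multiply, zero_mul, mul_zero, neg_mul, neg_neg, one_mul,
      add_zero, zero_add, diagonal_transpose]
  rw [e, det_mul, SymplecticGroup.det_eq_one (SymplecticGroup.J_mem _ _), one_mul,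
    det_fromBlocks_zero₁₂, det_neg, det_diagonal, Fintype.card_fin]
  have : ((-1 : F) ^ l) * (-1) ^ l = 1 := by rw [← mul_pow]; simp
  linear_combination ((∏ i, d i) * ∏ i, d i) * this

lemma hyp_one_det (l : ℕ) : (hyp l (1 : Matrix (Fin l) (Fin l) F)).det = 1 := by
  rw [← diagonal_one, hyp_det]; simp

variable {m : ℕ}

/-- the normal form -/
theorem exists_nf (A C : Matrix (Fin m) (Fin m) F) (hAC : IsA sp (Aᵀ * C))
    (hinj : ∀ v, A *ᵥ v = 0 → C *ᵥ v = 0 → v = 0) {R : Type} [Fintype R] [DecidableEq R]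
    (hR : Fintype.card R = C.rank) :
    ∃ (k : ℕ) (e : Fin m ≃ R ⊕ Fin k) (P Q : GL (Fin m) F) (A22 : Matrix (Fin k) (Fin k) F),
      C = Q.1 * (fromBlocks (1 : Matrix R R F) 0 0 (0 : Matrix (Fin k) (Fin k) F)).submatrix e e * P.1 ∧
      A22.det ≠ 0 ∧
      ∀ X, Cls sp o X → ∀ E : Matrix (Fin k) R F, ∃ S, Cls sp o S ∧
        A + S * C = (ti Q).1 * (fromBlocks X 0 E A22).submatrix e e * P.1 := by
  classical
  obtain ⟨k, e, V, U, hV, hU, e1⟩ : ∃ (k : ℕ) (e : Fin m ≃ R ⊕ Fin k) (V U : Matrix (Fin m) (Fin m) F),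
      IsUnit V ∧ IsUnit U ∧
        (fromBlocks (1 : Matrix R R F) 0 0 (0 : Matrix (Fin k) (Fin k) F)).submatrix e e = V * C * U := by
    obtain ⟨V, U, e₀, hV, hU, hVU⟩ := C.exists_rank_normal_form
    let f : Fin C.rank ≃ R := (Fintype.equivFinOfCardEq hR).symm
    refine ⟨_, e₀.trans (f.sumCongr (Equiv.refl _)), V, U, hV, hU, ?_⟩
    rw [hVU]
    ext x y
    simp only [submatrix_apply, Equiv.trans_apply]
    rcases e₀ x with i | i <;> rcases e₀ y with j | j <;>
      simp [Matrix.one_apply, f.injective.eq_iff]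
  let P : GL (Fin m) F := hU.unit⁻¹
  let Q : GL (Fin m) F := hV.unit⁻¹
  let C₀ : Matrix (R ⊕ Fin k) (R ⊕ Fin k) F := fromBlocks 1 0 0 0
  have hC : C = Q.1 * C₀.submatrix e e * P.1 := by
    rw [show C₀.submatrix e e = V * C * U from e1, ← Matrix.mul_assoc, ← Matrix.mul_assoc,
      hV.val_inv_mul, Matrix.one_mul, Matrix.mul_assoc, hU.mul_val_inv, Matrix.mul_one]
  set At := (Q.1ᵀ * A * (P⁻¹).1).submatrix e.symm e.symm with hAt
  have hAx : At.submatrix e e = Q.1ᵀ * A * (P⁻¹).1 := by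
    simp [hAt, submatrix_submatrix]
  set A11 := At.toBlocks₁₁
  set A12 := At.toBlocks₁₂
  set A21 := At.toBlocks₂₁
  set A22 := At.toBlocks₂₂
  have hblk : At = fromBlocks A11 A12 A21 A22 := (fromBlocks_toBlocks At).symm
  have h1 := (hAC.congr (P⁻¹).1).submatrix e.symm
  have h2 : ((P⁻¹).1ᵀ * (Aᵀ * C) * (P⁻¹).1).submatrix e.symm e.symm = Atᵀ * C₀ := by
    rw [hC, show (P⁻¹).1ᵀ * (Aᵀ * (Q.1 * C₀.submatrix e e * P.1)) * (P⁻¹).1 =
      (Q.1ᵀ * A * (P⁻¹).1)ᵀ * C₀.submatrix e e * (P.1 * (P⁻¹).1) by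
        simp only [transpose_mul, transpose_transpose, Matrix.mul_assoc],
      Units.mul_inv, Matrix.mul_one, ← hAx, transpose_submatrix, submatrix_mul_equiv,
      submatrix_submatrix]
    simp
  rw [h2, hblk, fromBlocks_transpose, fromBlocks_multiply] at h1
  simp only [C₀, Matrix.mul_one, Matrix.mul_zero, add_zero] at h1
  have h12 : A12 = 0 := by
    have := congrArg Matrix.toBlocks₁₂ h1.1
    cases sp <;> simp [fromBlocks_transpose, fromBlocks_neg] at this <;> exact this
  have h11 : IsA sp A11 := by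
    have := (h1.submatrix Sum.inl).transpose
    exact this
  refine ⟨k, e, P, Q, A22, hC, ?_, fun X hX E => ?_⟩
  · intro h0
    obtain ⟨v, hv0, hv⟩ := exists_mulVec_eq_zero_iff.2 h0
    let u : Fin m → F := Sum.elim 0 v ∘ e
    have hu : ∀ Y : Matrix (R ⊕ Fin k)
        (R ⊕ Fin k) F,
        Y.submatrix e e *ᵥ u = (Y *ᵥ Sum.elim 0 v) ∘ e := fun Y => by
      rw [submatrix_mulVec_equiv]
      simp [u, Function.comp_assoc]
    have hCu : C *ᵥ ((P⁻¹).1 *ᵥ u) = 0 := by
      rw [hC, mulVec_mulVec, Matrix.mul_assoc, Units.mul_inv, Matrix.mul_one, ← mulVec_mulVec, hu]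
      simp [C₀, fromBlocks_mulVec]
    have hAu : A *ᵥ ((P⁻¹).1 *ᵥ u) = 0 := by
      have e2 : Q.1ᵀ *ᵥ (A *ᵥ ((P⁻¹).1 *ᵥ u)) = 0 := by
        rw [mulVec_mulVec, mulVec_mulVec, ← hAx, hu, hblk, h12, fromBlocks_mulVec]
        simp [hv]
      have := congrArg ((ti Q).1 *ᵥ ·) e2
      simp only [mulVec_mulVec, mulVec_zero] at this
      rw [← ti_inv_val, Units.mul_inv_cancel_left, ← mulVec_mulVec] at this
      exact this
    have h3 : u = 0 := by
      have := congrArg (P.1 *ᵥ ·) (hinj _ hAu hCu)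
      simpa [mulVec_mulVec] using this
    exact hv0 (funext fun i => by simpa [u] using congrFun h3 (e.symm (Sum.inr i)))
  · let St := fromBlocks (X + -A11) (if sp then E - A21 else -(E - A21))ᵀ (E - A21) 0
    refine ⟨(Q⁻¹).1ᵀ * St.submatrix e e * (Q⁻¹).1,
      (((hX.add_isA h11.neg).blocks (E - A21)).submatrix e).congr _, ?_⟩
    have eA : A = (ti Q).1 * At.submatrix e e * P.1 := by
      rw [hAx, ← ti_inv_val]
      simp [Matrix.mul_assoc]
    have e3 : (Q⁻¹).1ᵀ * St.submatrix e e * (Q⁻¹).1 * C =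
        (ti Q).1 * (St * C₀).submatrix e e * P.1 := by
      rw [hC, ti_val]
      simp only [Matrix.mul_assoc, Units.inv_mul_cancel_left]
      rw [← Matrix.mul_assoc (St.submatrix _ _), submatrix_mul_equiv]
    rw [e3, eA, ← Matrix.add_mul, ← Matrix.mul_add]
    congr 2
    rw [hblk, h12]
    ext x y
    rw [Matrix.add_apply, submatrix_apply, submatrix_apply, submatrix_apply]
    simp only [St, C₀, fromBlocks_multiply, Matrix.mul_one, Matrix.mul_zero, add_zero]
    rcases e x with i | i <;> rcases e y with j | j <;> simp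

/-- choosing the corner -/
theorem exists_nice (A C : Matrix (Fin m) (Fin m) F) (hC : C ≠ 0) (hAC : IsA sp (Aᵀ * C))
    (hinj : ∀ v, A *ᵥ v = 0 → C *ᵥ v = 0 → v = 0) (hm : 2 ≤ m) (hm3 : sp = false → 3 ≤ m)
    (hso : sp = true → o = false)
    (hsq : sp = false → ∀ S, Cls sp o S → (A + S * C).det ≠ 0 → IsSquare (A + S * C).det) :
    (∃ S, Cls sp o S ∧ (A + S * C).det = 1 ∧ ¬ ∃ l : F, A + S * C = l • 1) ∨
      (sp = false ∧ o = false ∧ ∃ S, Cls sp o S ∧ ∃ (P₀ : GL (Fin m) F) (j : Fin m),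
        ((P₀.1 * (A + S * C)).updateRow j (((ti P₀).1 * C) j)).det ≠ 0) := by
  classical
  have hr : 0 < C.rank := Nat.pos_of_ne_zero fun h => hC (by
    have h' : LinearMap.range C.mulVecLin = ⊥ := Submodule.finrank_eq_zero.1 h
    refine Matrix.ext_iff_mulVec.2 fun v => ?_
    have := LinearMap.congr_fun (LinearMap.range_eq_bot.1 h') v
    simpa using this)
  have key : ∀ {R : Type} [Fintype R] [DecidableEq R], Fintype.card R = C.rank →
      ∀ X : F → Matrix R R F, (∀ x, x ≠ 0 → Cls sp o (X x)) → (X 1).det ≠ 0 →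
      (∀ x, (X x).det = if sp then x * (X 1).det else x * x * (X 1).det) →
      (∀ x, x ≠ 0 → Fintype.card R = m → ∃ X', Cls sp o X' ∧ X'.det = (X x).det ∧
        ∀ s : F, X' ≠ s • X x) →
      ∃ S, Cls sp o S ∧ (A + S * C).det = 1 ∧ ¬ ∃ l : F, A + S * C = l • 1 := by
    intro R _ _ hR X hX h1 hdet hpartner
    obtain ⟨k, e, P, Q, A22, -, h22, hfam⟩ := exists_nf (o := o) A C hAC hinj hR
    set κ := (ti Q).1.det * P.1.det * A22.det
    have hκ : κ ≠ 0 := mul_ne_zero (mul_ne_zero ((Matrix.isUnit_iff_isUnit_det _).1 (ti Q).isUnit).ne_zero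
      ((Matrix.isUnit_iff_isUnit_det _).1 P.isUnit).ne_zero) h22
    have hdetY : ∀ (Y : Matrix R R F) (E : Matrix (Fin k) R F),
        ((ti Q).1 * (fromBlocks Y 0 E A22).submatrix e e * P.1).det = Y.det * κ := by
      intro Y E
      rw [det_mul, det_mul, det_submatrix_equiv_self, det_fromBlocks_zero₁₂]
      ring
    obtain ⟨x, hx0, hx⟩ : ∃ x, x ≠ 0 ∧ (X x).det * κ = 1 := by
      cases sp with
      | true =>
        refine ⟨((X 1).det * κ)⁻¹, inv_ne_zero (mul_ne_zero h1 hκ), ?_⟩
        rw [hdet, if_pos rfl, mul_assoc, inv_mul_cancel₀ (mul_ne_zero h1 hκ)]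
      | false =>
        obtain ⟨S, hS, eS⟩ := hfam (X 1) (hX 1 one_ne_zero) 0
        have hne : (A + S * C).det ≠ 0 := by rw [eS, hdetY]; exact mul_ne_zero h1 hκ
        obtain ⟨σ, hσ⟩ := hsq rfl S hS hne
        rw [eS, hdetY] at hσ
        have hσ0 : σ ≠ 0 := fun h => mul_ne_zero h1 hκ (by rw [hσ, h, mul_zero])
        refine ⟨σ⁻¹, inv_ne_zero hσ0, ?_⟩
        rw [hdet, if_neg Bool.false_ne_true, mul_assoc, hσ]
        field_simp
    have fin : ∀ Y Y' : Matrix R R F, ∀ E E' : Matrix (Fin k) R F, Cls sp o Y → Cls sp o Y' →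
        Y.det * κ = 1 → Y'.det * κ = 1 →
        (∀ s : F, fromBlocks Y' 0 E' A22 ≠ s • fromBlocks Y 0 E A22) →
        ∃ S, Cls sp o S ∧ (A + S * C).det = 1 ∧ ¬ ∃ l : F, A + S * C = l • 1 := by
      intro Y Y' E E' hY hY' hd hd' hne
      obtain ⟨S, hS, eS⟩ := hfam Y hY E
      obtain ⟨S', hS', eS'⟩ := hfam Y' hY' E'
      by_contra hcon
      push Not at hcon
      obtain ⟨l, hl⟩ := hcon S hS (by rw [eS, hdetY, hd])
      obtain ⟨l', hl'⟩ := hcon S' hS' (by rw [eS', hdetY, hd'])
      rw [eS] at hl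
      rw [eS'] at hl'
      have hl0 : l ≠ 0 := by
        intro h0
        have := congrArg Matrix.det hl
        have : Nonempty (Fin m) := ⟨⟨0, by omega⟩⟩
        rw [hdetY, hd, h0, zero_smul, det_zero] at *
        exact one_ne_zero (α := F) (by assumption)
      refine hne (l' / l) ?_
      have e4 : (ti Q).1 * (fromBlocks Y' 0 E' A22).submatrix e e * P.1 =
          (ti Q).1 * ((l' / l) • fromBlocks Y 0 E A22).submatrix e e * P.1 := by
        rw [hl', submatrix_smul]
        simp only [Pi.smul_apply, Matrix.mul_smul, Matrix.smul_mul]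
        rw [hl, smul_smul, div_mul_cancel₀ _ hl0]
      have e5 := congrArg (fun Z => ((ti Q)⁻¹).1 * Z * (P⁻¹).1) e4
      simp only [← Matrix.mul_assoc, Units.inv_mul, Matrix.one_mul] at e5
      simp only [Matrix.mul_assoc, Units.mul_inv, Matrix.mul_one] at e5
      have := congrArg (fun Z : Matrix (Fin m) (Fin m) F => Z.submatrix e.symm e.symm) e5
      simpa [submatrix_submatrix] using this
    by_cases hk : k = 0
    · subst hk
      have hcard : Fintype.card R = m := by
        have := Fintype.card_congr e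
        simpa using this.symm
      obtain ⟨X', hX', hd', hne⟩ := hpartner x hx0 hcard
      refine fin (X x) X' 0 0 (hX x hx0) hX' hx (by rw [hd', hx]) fun s hs => hne s ?_
      rw [fromBlocks_smul] at hs
      exact (fromBlocks_inj.1 hs).1
    · obtain ⟨i₀⟩ : Nonempty (Fin k) := ⟨⟨0, Nat.pos_of_ne_zero hk⟩⟩
      obtain ⟨r₀⟩ : Nonempty R := Fintype.card_pos_iff.1 (by rw [hR]; exact hr)
      refine fin (X x) (X x) 0 (Matrix.single i₀ r₀ 1) (hX x hx0) (hX x hx0) hx hx fun s hs => ?_
      rw [fromBlocks_smul] at hs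
      obtain ⟨-, -, e3, -⟩ := fromBlocks_inj.1 hs
      simpa using congrFun (congrFun e3 i₀) r₀
  cases sp with
  | true =>
    have ho := hso rfl
    subst ho
    obtain ⟨l, hl⟩ : ∃ l, C.rank = l + 1 := ⟨C.rank - 1, by omega⟩
    refine Or.inl (key (R := Unit ⊕ Fin l) (by simp [hl, add_comm])
      (fun x => fromBlocks (x • 1) 0 0 1) (fun x _ => Cls.of_isA ⟨by simp [fromBlocks_transpose], by simp⟩)
      (by simp) (fun x => by simp [det_fromBlocks_zero₁₂]) (fun x hx hc => ?_))
    simp at hc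
    exact corner_partner hx (⟨0, by omega⟩ : Fin l) (Cls.of_isA ⟨by simp [fromBlocks_transpose], by simp⟩)
  | false =>
    have h3 := hm3 rfl
    rcases Nat.even_or_odd C.rank with ⟨l, hl⟩ | ⟨l, hl⟩
    · have hl0 : 0 < l := by omega
      let D : F → Fin l → F := fun x => Function.update 1 ⟨0, hl0⟩ x
      have hD : ∀ x, ∏ i, D x i = x := fun x => by
        rw [Finset.prod_update_of_mem (Finset.mem_univ _)]; simp
      refine Or.inl (key (R := Fin l ⊕ Fin l) (by simp [hl]) (fun x => hyp l (diagonal (D x)))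
        (fun x _ => Cls.of_isA (hyp_isA _)) (by rw [hyp_det, hD]; simp)
        (fun x => by rw [hyp_det, hyp_det, hD, hD]; simp) (fun x hx hc => ?_))
      simp at hc
      exact hyp_partner (D := diagonal (D x)) (by rw [det_diagonal, hD]; exact hx)
        (i := (⟨0, hl0⟩ : Fin l)) (j := ⟨1, by omega⟩) (by simp [Fin.ext_iff]) (Cls.of_isA (hyp_isA _))
    · cases o with
      | true =>
        refine Or.inl (key (R := Unit ⊕ (Fin l ⊕ Fin l)) (by simp [hl]; omega)
          (fun x => fromBlocks (-(x * x) • 1) 0 0 (hyp l 1)) (fun x _ => ?_) ?_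
          (fun x => by simp [det_fromBlocks_zero₁₂, hyp_one_det]) (fun x hx hc => ?_))
        · exact cls_corner l x
        · simp [det_fromBlocks_zero₁₂, hyp_one_det]
        · simp at hc
          exact corner_partner (neg_ne_zero.2 (mul_ne_zero hx hx))
            (Sum.inl (⟨0, by omega⟩ : Fin l)) (cls_corner l x)
      | false =>
        refine Or.inr ⟨rfl, rfl, ?_⟩
        obtain ⟨k, e, P, Q, A22, hCe, h22, hfam⟩ := exists_nf (o := false) A C hAC hinj
          (R := Unit ⊕ (Fin l ⊕ Fin l)) (by simp [hl]; omega)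
        obtain ⟨S, hS, eS⟩ := hfam (fromBlocks 0 0 0 (hyp l 1))
          (Cls.of_isA (by
            have := (isA_zero (sp := false) (n := Unit) (F := F)).blocks
              (hyp_isA (1 : Matrix (Fin l) (Fin l) F)) 0
            simpa using this)) 0
        refine ⟨S, hS, (ti Q)⁻¹, e.symm (Sum.inl (Sum.inl ())), ?_⟩
        have e1 : ((ti Q)⁻¹).1 * (A + S * C) =
            (fromBlocks (fromBlocks 0 0 0 (hyp l 1)) 0 0 A22).submatrix e e * P.1 := by
          rw [eS, ← Matrix.mul_assoc, ← Matrix.mul_assoc, Units.inv_mul, Matrix.one_mul]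
        have e2 : (ti (ti Q)⁻¹).1 * C =
            (fromBlocks (1 : Matrix (Unit ⊕ (Fin l ⊕ Fin l)) (Unit ⊕ (Fin l ⊕ Fin l)) F) 0 0
              (0 : Matrix (Fin k) (Fin k) F)).submatrix e e * P.1 := by
          rw [map_inv, ti_ti]
          conv_lhs => rw [hCe]
          rw [← Matrix.mul_assoc, ← Matrix.mul_assoc, Units.inv_mul, Matrix.one_mul]
        have e3 : ((((ti Q)⁻¹).1 * (A + S * C)).updateRow (e.symm (Sum.inl (Sum.inl ())))
            (((ti (ti Q)⁻¹).1 * C) (e.symm (Sum.inl (Sum.inl ()))))) =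
            (fromBlocks (fromBlocks (1 : Matrix Unit Unit F) 0 0 (hyp l 1)) 0 0
              A22).submatrix e e * P.1 := by
          rw [e1, e2]
          ext x y
          rw [Matrix.updateRow_apply, Matrix.mul_apply, Matrix.mul_apply, Matrix.mul_apply]
          by_cases hxj : x = e.symm (Sum.inl (Sum.inl ()))
          · subst hxj
            rw [if_pos rfl]
            refine Finset.sum_congr rfl fun z _ => ?_
            simp only [submatrix_apply, Equiv.apply_symm_apply]
            rcases e z with (u | u) | u <;> simp [Matrix.one_apply]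
          · rw [if_neg hxj]
            refine Finset.sum_congr rfl fun z _ => ?_
            simp only [submatrix_apply]
            have : e x ≠ Sum.inl (Sum.inl ()) := fun h => hxj (by rw [← h, e.symm_apply_apply])
            rcases hx : e x with (u | u) | u
            · exact absurd hx this
            all_goals rcases e z with (w | w) | w <;> simp
        rw [e3, det_mul, det_submatrix_equiv_self, det_fromBlocks_zero₁₂, det_fromBlocks_zero₁₂,
          hyp_one_det, det_one]
        simpa [h22] using ((Matrix.isUnit_iff_isUnit_det _).1 P.isUnit).ne_zero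
where
  cls_corner (l : ℕ) (x : F) : Cls false true
      (fromBlocks (-(x * x) • (1 : Matrix Unit Unit F)) 0 0 (hyp l 1)) := by
    refine ⟨Sum.elim (fun _ => x) 0, by simp, ?_⟩
    have e : fromBlocks (-(x * x) • (1 : Matrix Unit Unit F)) 0 0 (hyp l 1) +
        vecMulVec (Sum.elim (fun _ : Unit => x) (0 : Fin l ⊕ Fin l → F))
          (Sum.elim (fun _ => x) 0) = fromBlocks 0 0 0 (hyp l 1) := by
      ext i j
      cases i <;> cases j <;> simp [vecMulVec_apply]
    rw [e]
    simpa using (isA_zero (sp := false) (n := Unit) (F := F)).blocks (hyp_isA 1) 0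

end CfsgLib.Thompson
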