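import Cfsg.Agent.Lib.KnownB.Thompson.RankNF
import Cfsg.Agent.Lib.KnownB.Thompson.Cover

/-!
The Siegel parabolic argument for the symplectic and the split orthogonal groups in even dimension.
-/

set_option autoImplicit false

namespace CfsgLib.Thompson

open Matrix

/-- The covering step: a conjugate in the big cell with a good Levi part. -/
theorem cover_levi {H G : Type*} [Group H] [Group G] [Finite G] (lev : H →* G) {X Rn Rp : Subgroup G}
    (hn : Rn ≤ X) (hp : Rp ≤ X) (hX : ∀ M, lev M ∈ X) (hnn : ∀ M, ∀ r, lev M * r * (lev M)⁻¹ ∈ Rn ↔ r ∈ Rn)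
    (hnp : ∀ M, ∀ r, lev M * r * (lev M)⁻¹ ∈ Rp ↔ r ∈ Rp)
    {B B' : H} {σ : G} (hσ : σ ∈ X) (eσ : σ * lev B * σ⁻¹ = lev B')
    (fn : Fpf Rn (lev B)) (fp : Fpf Rp (lev B')) {g : G} {S T : H} {v w x : G} (hx : x ∈ X)
    (hv : v ∈ Rn) (hw : w ∈ Rp)
    (e : x * g * x⁻¹ = v * lev ((S * B * S⁻¹) * (T * B' * T⁻¹)) * w) :
    ∃ x ∈ X, ∃ z ∈ X, g = (x * lev B * x⁻¹) * (z * lev B * z⁻¹) :=
  cover_two hn hp (fn.conj (hnn S)) (fp.conj (hnp T))
    ⟨lev S, hX S, rfl⟩ ⟨lev T * σ, mul_mem (hX T) hσ, by rw [← eσ]; group⟩ hv hw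
    ⟨x, hx, by rw [e]; simp only [map_mul, map_inv]⟩

variable {F : Type*} [Field F] {m : ℕ}


/-- the sign of the form -/
def eps (sp : Bool) : F := if sp then -1 else 1

lemma eps_mul (sp : Bool) : (eps sp : F) * eps sp = 1 := by cases sp <;> simp [eps]

/-- the conditions on the blocks of an isometry -/
def Cond (sp : Bool) (g : Matrix (Fin m ⊕ Fin m) (Fin m ⊕ Fin m) F) : Prop :=
  IsA sp (g.toBlocks₁₁ᵀ * g.toBlocks₂₁) ∧ IsA sp (g.toBlocks₁₂ᵀ * g.toBlocks₂₂) ∧
    g.toBlocks₁₁ᵀ * g.toBlocks₂₂ + (eps sp : F) • (g.toBlocks₂₁ᵀ * g.toBlocks₁₂) = 1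

lemma cond_blocks (sp : Bool) (A B C D : Matrix (Fin m) (Fin m) F) :
    Cond sp (fromBlocks A B C D) ↔
      IsA sp (Aᵀ * C) ∧ IsA sp (Bᵀ * D) ∧ Aᵀ * D + (eps sp : F) • (Cᵀ * B) = 1 := by
  simp only [Cond, toBlocks_fromBlocks₁₁, toBlocks_fromBlocks₁₂, toBlocks_fromBlocks₂₁,
    toBlocks_fromBlocks₂₂]

/-- upper unipotent element -/
def upM (S : Matrix (Fin m) (Fin m) F) : GL (Fin m ⊕ Fin m) F :=
  ⟨fromBlocks 1 S 0 1, fromBlocks 1 (-S) 0 1, by simp [fromBlocks_multiply],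
    by simp [fromBlocks_multiply]⟩

/-- lower unipotent element -/
def loM (T : Matrix (Fin m) (Fin m) F) : GL (Fin m ⊕ Fin m) F :=
  ⟨fromBlocks 1 0 T 1, fromBlocks 1 0 (-T) 1, by simp [fromBlocks_multiply],
    by simp [fromBlocks_multiply]⟩

lemma upM_val (S : Matrix (Fin m) (Fin m) F) : (upM S).1 = fromBlocks 1 S 0 1 := rfl
lemma upM_inv_val (S : Matrix (Fin m) (Fin m) F) : (upM S)⁻¹.1 = fromBlocks 1 (-S) 0 1 := rfl
lemma loM_val (T : Matrix (Fin m) (Fin m) F) : (loM T).1 = fromBlocks 1 0 T 1 := rfl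
lemma loM_inv_val (T : Matrix (Fin m) (Fin m) F) : (loM T)⁻¹.1 = fromBlocks 1 0 (-T) 1 := rfl

variable (F m) in
/-- upper unipotent subgroup -/
def Upper : Subgroup (GL (Fin m ⊕ Fin m) F) where
  carrier := Set.range upM
  one_mem' := ⟨0, Units.ext (by simp [upM_val])⟩
  mul_mem' := by
    rintro _ _ ⟨S, rfl⟩ ⟨T, rfl⟩
    exact ⟨T + S, Units.ext (by simp [upM_val, fromBlocks_multiply])⟩
  inv_mem' := by
    rintro _ ⟨S, rfl⟩
    exact ⟨-S, Units.ext (by rw [upM_val, upM_inv_val])⟩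

variable (F m) in
/-- lower unipotent subgroup -/
def Lower : Subgroup (GL (Fin m ⊕ Fin m) F) where
  carrier := Set.range loM
  one_mem' := ⟨0, Units.ext (by simp [loM_val])⟩
  mul_mem' := by
    rintro _ _ ⟨S, rfl⟩ ⟨T, rfl⟩
    exact ⟨S + T, Units.ext (by simp [loM_val, fromBlocks_multiply])⟩
  inv_mem' := by
    rintro _ ⟨S, rfl⟩
    exact ⟨-S, Units.ext (by rw [loM_val, loM_inv_val])⟩

variable (F m) in
/-- Levi elements -/
noncomputable def levH : GL (Fin m) F →* GL (Fin m ⊕ Fin m) F where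
  toFun M := ⟨fromBlocks M.1 0 0 (ti M).1, fromBlocks (M⁻¹).1 0 0 ((ti M)⁻¹).1,
    by simp [fromBlocks_multiply], by simp [fromBlocks_multiply]⟩
  map_one' := Units.ext (by simp)
  map_mul' M N := Units.ext (by simp [fromBlocks_multiply])

lemma levH_val (M : GL (Fin m) F) : (levH F m M).1 = fromBlocks M.1 0 0 (ti M).1 := rfl
lemma levH_inv_val (M : GL (Fin m) F) :
    ((levH F m M)⁻¹).1 = fromBlocks (M⁻¹).1 0 0 ((ti M)⁻¹).1 := rfl

variable (F m) in
/-- the flip -/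
def flipM (sp : Bool) : GL (Fin m ⊕ Fin m) F :=
  ⟨fromBlocks 0 ((eps sp : F) • 1) 1 0, fromBlocks 0 1 ((eps sp : F) • 1) 0,
    by simp [fromBlocks_multiply, Matrix.smul_mul, Matrix.mul_smul, smul_smul, eps_mul],
    by simp [fromBlocks_multiply, Matrix.smul_mul, Matrix.mul_smul, smul_smul, eps_mul]⟩

lemma flipM_val (sp : Bool) : (flipM F m sp).1 = fromBlocks 0 ((eps sp : F) • 1) 1 0 := rfl
lemma flipM_inv_val (sp : Bool) :
    (flipM F m sp)⁻¹.1 = fromBlocks 0 1 ((eps sp : F) • 1) 0 := rfl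

lemma flip_conj_val (sp : Bool) (g : GL (Fin m ⊕ Fin m) F) (A B C D : Matrix (Fin m) (Fin m) F)
    (hg : g.1 = fromBlocks A B C D) :
    (flipM F m sp * g * (flipM F m sp)⁻¹).1 = fromBlocks D ((eps sp : F) • C) ((eps sp : F) • B) A := by
  simp only [Units.val_mul, flipM_val, flipM_inv_val, hg, fromBlocks_multiply]
  simp [smul_smul, eps_mul]

lemma flip_conj_lev (sp : Bool) (M : GL (Fin m) F) :
    flipM F m sp * levH F m M * (flipM F m sp)⁻¹ = levH F m (ti M) := by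
  ext : 1
  rw [flip_conj_val sp _ _ _ _ _ (levH_val M), levH_val, ti_ti]
  simp

lemma IsA.of_zero (sp : Bool) : IsA sp (0 : Matrix (Fin m) (Fin m) F) := isA_zero

/-- the specification of the isometry group -/
def Spec (sp : Bool) (G : Subgroup (GL (Fin m ⊕ Fin m) F)) : Prop := ∀ g : GL (Fin m ⊕ Fin m) F, g ∈ G ↔ Cond sp g.1

variable {sp : Bool} {G : Subgroup (GL (Fin m ⊕ Fin m) F)}

lemma Spec.upM_mem (hG : Spec sp G) {S : Matrix (Fin m) (Fin m) F} :
    upM S ∈ G ↔ IsA sp S := by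
  rw [hG, upM_val, cond_blocks]
  simp only [transpose_one, Matrix.one_mul, Matrix.mul_one, transpose_zero, Matrix.zero_mul,
    smul_zero, add_zero, and_true, isA_zero, true_and]
  exact ⟨fun h => by simpa using h.transpose, fun h => h.transpose⟩

lemma Spec.loM_mem (hG : Spec sp G) {T : Matrix (Fin m) (Fin m) F} :
    loM T ∈ G ↔ IsA sp T := by
  rw [hG, loM_val, cond_blocks]
  simp [isA_zero]

lemma Spec.levH_mem (hG : Spec sp G) (M : GL (Fin m) F) : levH F m M ∈ G := by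
  rw [hG, levH_val, cond_blocks]
  simp only [Matrix.mul_zero, transpose_zero, Matrix.zero_mul, isA_zero, smul_zero, add_zero,
    true_and]
  rw [← ti_inv_val, Units.inv_mul]

lemma Spec.flip_mem (hG : Spec sp G) : flipM F m sp ∈ G := by
  rw [hG, flipM_val, cond_blocks]
  simp [isA_zero, smul_smul, eps_mul]

/-- isometries with invertible corner -/
theorem Spec.ldu (hG : Spec sp G) {g : GL (Fin m ⊕ Fin m) F} (hg : g ∈ G) {A B C D : Matrix (Fin m) (Fin m) F}
    (e : g.1 = fromBlocks A B C D) {M : GL (Fin m) F} (hM : M.1 = A) :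
    ∃ T S, IsA sp T ∧ IsA sp S ∧ g = loM T * levH F m M * upM S := by
  have hc := (hG g).1 hg
  rw [e, cond_blocks] at hc
  obtain ⟨h1, -, -⟩ := hc
  set T := C * (M⁻¹).1 with hTdef
  have hT : IsA sp T := by
    have h := h1.congr (M⁻¹).1
    rwa [← hM, show (M⁻¹).1ᵀ * (M.1ᵀ * C) * (M⁻¹).1 = C * (M⁻¹).1 by
      rw [← Matrix.mul_assoc (M⁻¹).1ᵀ, ← transpose_mul, Units.mul_inv, transpose_one,
        Matrix.one_mul]] at h
  set w := (levH F m M)⁻¹ * (loM T)⁻¹ * g with hw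
  have hwG : w ∈ G :=
    mul_mem (mul_mem (inv_mem (hG.levH_mem M)) (inv_mem (hG.loM_mem.2 hT))) hg
  have hTA : -T * A + C = 0 := by
    rw [hTdef, ← hM, Matrix.neg_mul, Matrix.mul_assoc, Units.inv_mul, Matrix.mul_one,
      neg_add_cancel]
  have hwv : w.1 = fromBlocks 1 ((M⁻¹).1 * B) 0 (((ti M)⁻¹).1 * (-T * B + D)) := by
    rw [hw, Units.val_mul, Units.val_mul, levH_inv_val, loM_inv_val, e, fromBlocks_multiply,
      fromBlocks_multiply]
    simp only [Matrix.mul_one, Matrix.zero_mul, Matrix.mul_zero, add_zero, zero_add]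
    congr 1
    · rw [← hM, Units.inv_mul]
    · rw [Matrix.mul_assoc, ← Matrix.mul_add, hTA, Matrix.mul_zero]
    · rw [Matrix.mul_assoc, ← Matrix.mul_add]
  have hc := (hG w).1 hwG
  rw [hwv, cond_blocks] at hc
  simp only [transpose_one, Matrix.one_mul, transpose_zero, Matrix.zero_mul, smul_zero,
    add_zero] at hc
  obtain ⟨-, h4, h5⟩ := hc
  have hwu : w = upM ((M⁻¹).1 * B) := Units.ext (by rw [hwv, upM_val, h5])
  refine ⟨T, _, hT, hG.upM_mem.1 (hwu ▸ hwG), ?_⟩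
  rw [← hwu, hw]; group

variable [Finite F]

lemma levH_norm_upper (hG : Spec sp G) (M : GL (Fin m) F) (r : GL (Fin m ⊕ Fin m) F) :
    levH F m M * r * (levH F m M)⁻¹ ∈ G ⊓ Upper F m ↔ r ∈ G ⊓ Upper F m := by
  have key : ∀ (N : GL (Fin m) F) r, r ∈ G ⊓ Upper F m →
      levH F m N * r * (levH F m N)⁻¹ ∈ G ⊓ Upper F m := by
    intro N r hr
    obtain ⟨hr1, S, rfl⟩ := hr
    refine ⟨G.mul_mem (G.mul_mem (hG.levH_mem N) hr1) (G.inv_mem (hG.levH_mem N)),
      ⟨N.1 * S * ((ti N)⁻¹).1, Units.ext ?_⟩⟩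
    simp only [Units.val_mul, upM_val, levH_val, levH_inv_val, fromBlocks_multiply]
    simp [Matrix.mul_assoc]
  refine ⟨fun h => ?_, key M r⟩
  have := key M⁻¹ _ h
  simpa [map_inv, mul_assoc] using this

lemma levH_norm_lower (hG : Spec sp G) (M : GL (Fin m) F) (r : GL (Fin m ⊕ Fin m) F) :
    levH F m M * r * (levH F m M)⁻¹ ∈ G ⊓ Lower F m ↔ r ∈ G ⊓ Lower F m := by
  have key : ∀ (N : GL (Fin m) F) r, r ∈ G ⊓ Lower F m →
      levH F m N * r * (levH F m N)⁻¹ ∈ G ⊓ Lower F m := by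
    intro N r hr
    obtain ⟨hr1, S, rfl⟩ := hr
    refine ⟨G.mul_mem (G.mul_mem (hG.levH_mem N) hr1) (G.inv_mem (hG.levH_mem N)),
      ⟨(ti N).1 * S * (N⁻¹).1, Units.ext ?_⟩⟩
    simp only [Units.val_mul, loM_val, levH_val, levH_inv_val, fromBlocks_multiply]
    simp [Matrix.mul_assoc]
  refine ⟨fun h => ?_, key M r⟩
  have := key M⁻¹ _ h
  simpa [map_inv, mul_assoc] using this

lemma ti_diag {M : GL (Fin m) F} {d : Fin m → F} (hd : M.1 = diagonal d) :
    (ti M).1 = diagonal (fun i => (d i)⁻¹) := by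
  have h0 : ∀ i, d i ≠ 0 := fun i h => by
    have h1 := (Matrix.isUnit_iff_isUnit_det _).1 M.isUnit
    rw [hd, det_diagonal] at h1
    exact h1.ne_zero (Finset.prod_eq_zero (Finset.mem_univ i) h)
  have hinv : (M⁻¹).1 = diagonal (fun i => (d i)⁻¹) := by
    refine (Units.eq_inv_of_mul_eq_one_left (u := M) ?_).symm
    rw [hd, diagonal_mul_diagonal, ← diagonal_one]
    congr 1
    funext i
    exact mul_inv_cancel₀ (h0 i)
  rw [ti_val, hinv, diagonal_transpose]

/-- entries which survive a diagonal weight -/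
lemma IsA.eq_zero_of_weights {S : Matrix (Fin m) (Fin m) F} (hS : IsA sp S) {d : Fin m → F}
    (hw : ∀ i j, (sp = false → i ≠ j) → d i * d j ≠ 1)
    (h : ∀ i j, S i j ≠ 0 → d i * d j = 1) : S = 0 := by
  ext i j
  rw [Matrix.zero_apply]
  by_contra hne
  exact hw i j (fun hs e => hne (e ▸ hS.2 hs i)) (h i j hne)

theorem fpf_upper (hG : Spec sp G) {M : GL (Fin m) F} {N : ℕ} {d : Fin m → F}
    (hN : (M ^ N).1 = diagonal d) (hw : ∀ i j, (sp = false → i ≠ j) → d i * d j ≠ 1) :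
    Fpf (G ⊓ Upper F m) (levH F m M) := by
  refine ⟨fun r hr => (levH_norm_upper hG M r).2 hr, fun r hr e => ?_⟩
  obtain ⟨hr1, S, rfl⟩ := hr
  have hS := hG.upM_mem.1 hr1
  have hc := Commute.pow_left (show Commute (levH F m M) (upM S) from e) N
  rw [← map_pow] at hc
  have h := congrArg Units.val hc.eq
  rw [Units.val_mul, Units.val_mul, levH_val, upM_val, hN, ti_diag hN, fromBlocks_multiply,
    fromBlocks_multiply] at h
  have h2 := congrArg Matrix.toBlocks₁₂ h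
  simp only [toBlocks_fromBlocks₁₂, Matrix.zero_mul, Matrix.mul_zero, add_zero, zero_add,
    Matrix.one_mul] at h2
  have hS0 : S = 0 := hS.eq_zero_of_weights hw fun i j hne => by
    have h3 := congrFun (congrFun h2 i) j
    rw [Matrix.diagonal_mul, Matrix.mul_diagonal, mul_comm] at h3
    have h4 := mul_left_cancel₀ hne h3
    rw [h4, inv_mul_cancel₀]
    intro h0
    have h1 := (Matrix.isUnit_iff_isUnit_det _).1 (M ^ N).isUnit
    rw [hN, det_diagonal] at h1
    exact h1.ne_zero (Finset.prod_eq_zero (Finset.mem_univ j) h0)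
  subst hS0
  ext : 1
  simp [upM_val]

theorem fpf_lower (hG : Spec sp G) {M : GL (Fin m) F} {N : ℕ} {d : Fin m → F}
    (hN : (M ^ N).1 = diagonal d) (hw : ∀ i j, (sp = false → i ≠ j) → d i * d j ≠ 1) :
    Fpf (G ⊓ Lower F m) (levH F m M) := by
  refine ⟨fun r hr => (levH_norm_lower hG M r).2 hr, fun r hr e => ?_⟩
  obtain ⟨hr1, S, rfl⟩ := hr
  have hS := hG.loM_mem.1 hr1
  have hc := Commute.pow_left (show Commute (levH F m M) (loM S) from e) N
  rw [← map_pow] at hc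
  have h := congrArg Units.val hc.eq
  rw [Units.val_mul, Units.val_mul, levH_val, loM_val, hN, ti_diag hN, fromBlocks_multiply,
    fromBlocks_multiply] at h
  have h2 := congrArg Matrix.toBlocks₂₁ h
  simp only [toBlocks_fromBlocks₂₁, Matrix.zero_mul, Matrix.mul_zero, add_zero, zero_add,
    Matrix.mul_one] at h2
  have hS0 : S = 0 := hS.eq_zero_of_weights hw fun i j hne => by
    have h3 := congrFun (congrFun h2 i) j
    rw [Matrix.diagonal_mul, Matrix.mul_diagonal, mul_comm] at h3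
    have h4 := mul_left_cancel₀ hne h3
    rw [← h4, mul_inv_cancel₀]
    intro h0
    have h1 := (Matrix.isUnit_iff_isUnit_det _).1 (M ^ N).isUnit
    rw [hN, det_diagonal] at h1
    exact h1.ne_zero (Finset.prod_eq_zero (Finset.mem_univ i) h0)
  subst hS0
  ext : 1
  simp [loM_val]

/-- only signs fix all forms -/
theorem isA_fixed (hm : 2 ≤ m) (hm3 : sp = false → 3 ≤ m) {A D : Matrix (Fin m) (Fin m) F}
    (hAD : D * Aᵀ = 1) (h : ∀ S, IsA sp S → A * S = S * D) : A = 1 ∨ A = -1 := by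
  have hfix : ∀ S, IsA sp S → A * S * Aᵀ = S := fun S hS => by
    rw [h S hS, Matrix.mul_assoc, hAD, Matrix.mul_one]
  have hpair : ∀ i j : Fin m, i ≠ j →
      IsA sp (Matrix.single i j (1 : F) + (if sp then 1 else -1 : F) • Matrix.single j i 1) := by
    intro i j hij
    refine ⟨?_, fun hs x => ?_⟩
    · cases sp <;> simp [Matrix.transpose_single] <;> abel
    · have h1 : ¬ (i = x ∧ j = x) := fun hh => hij (hh.1.trans hh.2.symm)
      have h2 : ¬ (j = x ∧ i = x) := fun hh => hij (hh.2.trans hh.1.symm)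
      subst hs
      simp [Matrix.single_apply, h1, h2]
  have hdiag : ∀ x i : Fin m, x ≠ i → A x i = 0 := by
    intro x i hxi
    cases sp with
    | true =>
      have h1 := congrFun (congrFun (hfix (Matrix.single i i 1)
        ⟨by simp [Matrix.transpose_single], by simp⟩) x) x
      simpa [Matrix.mul_apply, Matrix.single_apply, ite_and, hxi, Ne.symm hxi] using h1
    | false =>
      obtain ⟨j, hjx, hji⟩ : ∃ j : Fin m, j ≠ x ∧ j ≠ i := by
        have h3 := hm3 rfl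
        by_contra hc
        push Not at hc
        have hsub : (Finset.univ : Finset (Fin m)) ⊆ {x, i} := fun l _ => by
          by_cases hl : l = x
          · simp [hl]
          · simp [hc l hl]
        have := (Finset.card_le_card hsub).trans Finset.card_le_two
        simp at this
        omega
      have h1 := congrFun (congrFun (h _ (hpair i j hji.symm)) x) j
      simpa [Matrix.mul_apply, Matrix.single_apply, hxi, Ne.symm hxi, hjx, Ne.symm hjx, hji,
        Ne.symm hji] using h1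
  have hA : A = diagonal fun i => A i i := by
    ext i j
    by_cases e : i = j
    · subst e; simp
    · simp [e, hdiag i j e]
  have hprod : ∀ i j : Fin m, i ≠ j → A i i * A j j = 1 := by
    intro i j hij
    have h1 := congrFun (congrFun (hfix _ (hpair i j hij)) i) j
    rw [hA, diagonal_transpose, Matrix.mul_diagonal, Matrix.diagonal_mul] at h1
    cases sp <;> simpa [Matrix.single_apply, hij, Ne.symm hij] using h1
  have hsq : ∀ i : Fin m, A i i = 1 ∨ A i i = -1 := by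
    intro i
    refine mul_self_eq_one_iff.1 ?_
    cases sp with
    | true =>
      have h1 := congrFun (congrFun (hfix (Matrix.single i i 1)
        ⟨by simp [Matrix.transpose_single], by simp⟩) i) i
      rw [hA, diagonal_transpose, Matrix.mul_diagonal, Matrix.diagonal_mul] at h1
      simpa using h1
    | false =>
      have h3 := hm3 rfl
      obtain ⟨j, l, hji, hli, hjl⟩ : ∃ j l : Fin m, j ≠ i ∧ l ≠ i ∧ j ≠ l := by
        obtain ⟨j, hj⟩ : ∃ j : Fin m, j ≠ i := Fintype.exists_ne_of_one_lt_card (by simp; omega) i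
        have : ∃ l : Fin m, l ∉ ({i, j} : Finset (Fin m)) := by
          by_contra hc
          push Not at hc
          have := (Finset.card_le_card (s := Finset.univ) fun l _ => hc l).trans Finset.card_le_two
          simp at this
          omega
        obtain ⟨l, hl⟩ := this
        simp at hl
        exact ⟨j, l, hj, hl.1, Ne.symm hl.2⟩
      have e1 := hprod i j hji.symm
      have e2 := hprod i l hli.symm
      have e3 := hprod j l hjl
      linear_combination (A i i * A l l) * e1 + e2 - (A i i * A i i) * e3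
  obtain ⟨i₀⟩ : Nonempty (Fin m) := ⟨⟨0, by omega⟩⟩
  have hall : ∀ j, A j j = A i₀ i₀ := by
    intro j
    rcases eq_or_ne j i₀ with rfl | hj
    · rfl
    · have e := hprod i₀ j (Ne.symm hj)
      rcases hsq i₀ with h' | h' <;> rw [h'] at e ⊢
      · linear_combination e
      · linear_combination -e
  rcases hsq i₀ with h' | h'
  · left; rw [hA, ← diagonal_one]; congr 1; funext j; rw [hall, h']
  · right
    rw [hA, ← diagonal_one, diagonal_neg]
    congr 1; funext j; rw [hall, h']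

variable (m) in
/-- exchange of the `j`-th pair of coordinates -/
def swapFun (j : Fin m) : (Fin m ⊕ Fin m) → (Fin m ⊕ Fin m) := Equiv.swap (Sum.inl j) (Sum.inr j)

/-- a non-trivial conjugate with lower left block -/
theorem exists_lower (hG : Spec sp G) (hm : 2 ≤ m) (hm3 : sp = false → 3 ≤ m) {g : GL (Fin m ⊕ Fin m) F}
    (hg : g ∈ G) (h1 : g.1 ≠ 1) (h2 : g.1 ≠ -1) :
    ∃ x ∈ G, (x * g * x⁻¹).1.toBlocks₂₁ ≠ 0 := by
  set A := g.1.toBlocks₁₁
  set B := g.1.toBlocks₁₂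
  set C := g.1.toBlocks₂₁
  set D := g.1.toBlocks₂₂
  have e : g.1 = fromBlocks A B C D := (fromBlocks_toBlocks g.1).symm
  by_contra hcon
  push Not at hcon
  have hC : C = 0 := by simpa [C] using hcon 1 (one_mem _)
  have he : ∀ x : F, (eps sp : F) * x = 0 → x = 0 := fun x hx => by
    cases sp <;> simpa [eps] using hx
  have hB : B = 0 := by
    have := hcon _ hG.flip_mem
    rw [flip_conj_val sp g A B C D e, toBlocks_fromBlocks₂₁] at this
    ext i j
    exact he _ (congrFun (congrFun this i) j)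
  have hc := (hG g).1 hg
  rw [e, cond_blocks, hC, hB] at hc
  simp only [transpose_zero, Matrix.zero_mul, smul_zero, add_zero] at hc
  have hAD : D * Aᵀ = 1 := mul_eq_one_comm.1 hc.2.2
  have hfix : ∀ S, IsA sp S → A * S = S * D := by
    intro S hS
    have hx : upM S ∈ G := hG.upM_mem.2 hS
    have := hcon _ (mul_mem hG.flip_mem hx)
    rw [show flipM F m sp * upM S * g * (flipM F m sp * upM S)⁻¹ =
      flipM F m sp * (upM S * g * (upM S)⁻¹) * (flipM F m sp)⁻¹ by group,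
      flip_conj_val sp _ A (A * (-S) + S * D) 0 D (by
        rw [Units.val_mul, Units.val_mul, upM_val, upM_inv_val, e, hC, hB, fromBlocks_multiply,
          fromBlocks_multiply]
        simp), toBlocks_fromBlocks₂₁] at this
    ext i j
    have h3 := he _ (congrFun (congrFun this i) j)
    rw [Matrix.add_apply, Matrix.mul_neg, Matrix.neg_apply] at h3
    linear_combination -h3
  rcases isA_fixed hm hm3 hAD hfix with hA | hA
  · refine h1 ?_
    rw [e, hC, hB, hA, show D = 1 by simpa [hA] using hAD, fromBlocks_one]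
  · refine h2 ?_
    rw [e, hC, hB, hA, show D = -1 by
      have := hAD
      rw [hA, transpose_neg, transpose_one, Matrix.mul_neg, Matrix.mul_one] at this
      rw [← neg_neg D, this], ← fromBlocks_one, fromBlocks_neg]
    simp

/-- the hypotheses on a normal subgroup -/
structure SubSpec (sp : Bool) (G Γ : Subgroup (GL (Fin m ⊕ Fin m) F)) : Prop where
  le : Γ ≤ G
  norm : ∀ x ∈ G, ∀ g ∈ Γ, x * g * x⁻¹ ∈ Γ
  up : ∀ S, IsA sp S → upM S ∈ Γ
  lo : ∀ S, IsA sp S → loM S ∈ Γ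
  square : sp = false → ∀ M : GL (Fin m) F, levH F m M ∈ Γ → IsSquare M.1.det
  parity : sp = false → ∀ (j : Fin m) (s : GL (Fin m ⊕ Fin m) F), s ∈ G →
    s.1 = (1 : Matrix (Fin m ⊕ Fin m) (Fin m ⊕ Fin m) F).submatrix (swapFun m j) id → ∀ M, levH F m M * s ∉ Γ
  swap : sp = false → ∀ j : Fin m, ∃ s ∈ G, s.1 = (1 : Matrix (Fin m ⊕ Fin m) (Fin m ⊕ Fin m) F).submatrix (swapFun m j) id

/-- the big cell with a good corner -/
theorem exists_big (hG : Spec sp G) {Γ : Subgroup (GL (Fin m ⊕ Fin m) F)} (hΓ : SubSpec sp G Γ) (hm : 2 ≤ m)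
    (hm3 : sp = false → 3 ≤ m) {g : GL (Fin m ⊕ Fin m) F} (hg : g ∈ Γ) (h1 : g.1 ≠ 1) (h2 : g.1 ≠ -1) :
    ∃ x ∈ G, ∃ v ∈ G ⊓ Lower F m, ∃ w ∈ G ⊓ Upper F m, ∃ M : GL (Fin m) F,
      M.1.det = 1 ∧ (¬ ∃ l : F, M.1 = l • 1) ∧ x * g * x⁻¹ = v * levH F m M * w := by
  obtain ⟨y, hy, hy21⟩ := exists_lower hG hm hm3 (hΓ.le hg) h1 h2
  set g₁ := y * g * y⁻¹ with hg₁
  have hg₁Γ : g₁ ∈ Γ := hΓ.norm y hy g hg
  set A := g₁.1.toBlocks₁₁
  set B := g₁.1.toBlocks₁₂
  set C := g₁.1.toBlocks₂₁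
  set D := g₁.1.toBlocks₂₂
  have e : g₁.1 = fromBlocks A B C D := (fromBlocks_toBlocks g₁.1).symm
  have hAC : IsA sp (Aᵀ * C) := ((hG g₁).1 (hΓ.le hg₁Γ)).1
  have hinj : ∀ v, A *ᵥ v = 0 → C *ᵥ v = 0 → v = 0 := by
    intro v hA hC
    have h3 : g₁.1 *ᵥ Sum.elim v 0 = 0 := by
      rw [e, fromBlocks_mulVec]
      simp [hA, hC]
    have h4 := congrArg (g₁⁻¹.1 *ᵥ ·) h3
    simp only [mulVec_mulVec, Units.inv_mul, one_mulVec, mulVec_zero] at h4
    funext i
    simpa using congrFun h4 (Sum.inl i)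
  have hconj : ∀ S, ((upM S) * g₁ * (upM S)⁻¹).1 =
      fromBlocks (A + S * C) (-((A + S * C) * S) + (B + S * D)) C (-(C * S) + D) := fun S => by
    rw [Units.val_mul, Units.val_mul, upM_val, upM_inv_val, e, fromBlocks_multiply,
      fromBlocks_multiply]
    simp [Matrix.mul_neg]
  rcases exists_nice (sp := sp) (o := false) A C hy21 hAC hinj hm hm3 (fun _ => rfl)
    (fun hs S hS hne => by
      obtain ⟨w, hw, hA⟩ := hS
      rw [hw rfl, zero_vecMulVec, add_zero] at hA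
      let M := Matrix.GeneralLinearGroup.mkOfDetNeZero (A + S * C) hne
      obtain ⟨T, S', hT, hS', e'⟩ := hG.ldu
        (hΓ.le (hΓ.norm _ (hG.upM_mem.2 hA) _ hg₁Γ)) (hconj S) (M := M) rfl
      refine hΓ.square hs M ?_
      rw [show levH F m M = (loM T)⁻¹ * (upM S * g₁ * (upM S)⁻¹) * (upM S')⁻¹ by rw [e']; group]
      exact mul_mem (mul_mem (inv_mem (hΓ.lo T hT)) (hΓ.norm _ (hG.upM_mem.2 hA) _ hg₁Γ))
        (inv_mem (hΓ.up S' hS'))) with
    ⟨S, ⟨w, hw, hA⟩, hdet, hns⟩ | ⟨hs, -, S, ⟨w, hw, hA⟩, P₀, j, hP⟩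
  · rw [hw rfl, zero_vecMulVec, add_zero] at hA
    have hx : upM S * y ∈ G := mul_mem (hG.upM_mem.2 hA) hy
    let M := Matrix.GeneralLinearGroup.mkOfDetNeZero (A + S * C) (by rw [hdet]; exact one_ne_zero)
    obtain ⟨T, S', hT, hS', e'⟩ := hG.ldu
      (hΓ.le (hΓ.norm _ (hG.upM_mem.2 hA) _ hg₁Γ)) (hconj S) (M := M) rfl
    refine ⟨upM S * y, hx, loM T, ⟨hG.loM_mem.2 hT, T, rfl⟩, upM S', ⟨hG.upM_mem.2 hS', S', rfl⟩, M,
      hdet, hns, ?_⟩
    rw [← e', hg₁]; group
  · exfalso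
    rw [hw rfl, zero_vecMulVec, add_zero] at hA
    obtain ⟨s, hs', es⟩ := hΓ.swap hs j
    set g₂ := levH F m P₀ * (upM S * g₁ * (upM S)⁻¹) * (levH F m P₀)⁻¹
    have hg₂ : g₂ ∈ Γ := hΓ.norm _ (hG.levH_mem P₀) _ (hΓ.norm _ (hG.upM_mem.2 hA) _ hg₁Γ)
    have hg₂v : g₂.1.toBlocks₁₁ = P₀.1 * (A + S * C) * (P₀⁻¹).1 ∧
        g₂.1.toBlocks₂₁ = (ti P₀).1 * C * (P₀⁻¹).1 := by
      simp only [g₂, Units.val_mul (levH F m P₀ * _), Units.val_mul (levH F m P₀),
        hconj, levH_val, levH_inv_val, fromBlocks_multiply]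
      simp
    have h11 : (s * g₂).1.toBlocks₁₁ =
        ((P₀.1 * (A + S * C)).updateRow j (((ti P₀).1 * C) j)) * (P₀⁻¹).1 := by
      rw [Units.val_mul, es, show (1 : Matrix (Fin m ⊕ Fin m) (Fin m ⊕ Fin m) F).submatrix (swapFun m j) id * g₂.1 =
        g₂.1.submatrix (swapFun m j) id by ext a b; simp [Matrix.mul_apply, Matrix.one_apply]]
      ext a b
      simp only [toBlocks₁₁, of_apply, submatrix_apply, id_eq]
      rw [Matrix.mul_apply (M := (P₀.1 * (A + S * C)).updateRow j (((ti P₀).1 * C) j))]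
      by_cases haj : a = j
      · subst haj
        simp only [swapFun, Equiv.swap_apply_left, updateRow_self]
        have := congrFun (congrFun hg₂v.2 a) b
        rw [Matrix.mul_apply (M := (ti P₀).1 * C)] at this
        exact this
      · rw [swapFun, Equiv.swap_apply_of_ne_of_ne (by simp [haj]) (by simp)]
        simp only [updateRow_ne haj]
        have := congrFun (congrFun hg₂v.1 a) b
        rw [Matrix.mul_apply (M := P₀.1 * (A + S * C))] at this
        exact this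
    have hne : ((s * g₂).1.toBlocks₁₁).det ≠ 0 := by
      rw [h11, det_mul]
      exact mul_ne_zero hP ((Matrix.isUnit_iff_isUnit_det _).1 (P₀⁻¹).isUnit).ne_zero
    let M := Matrix.GeneralLinearGroup.mkOfDetNeZero _ hne
    obtain ⟨T, S', hT, hS', e'⟩ := hG.ldu (mul_mem hs' (hΓ.le hg₂))
      (fromBlocks_toBlocks (s * g₂).1).symm (M := M) rfl
    refine hΓ.parity hs j s hs' es M⁻¹ ?_
    rw [map_inv, show (levH F m M)⁻¹ * s =
      (levH F m M)⁻¹ * (loM T * levH F m M) * upM S' * g₂⁻¹ by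
        rw [mul_assoc ((levH F m M)⁻¹), ← e']; group]
    refine mul_mem (mul_mem ?_ (hΓ.up S' hS')) (inv_mem hg₂)
    have := hΓ.norm _ (inv_mem (hG.levH_mem M)) _ (hΓ.lo T hT)
    rw [inv_inv] at this
    rwa [← mul_assoc]

/-- every admissible element is a product of two conjugates -/
theorem two_block_square (hG : Spec sp G) {Γ : Subgroup (GL (Fin m ⊕ Fin m) F)} (hΓ : SubSpec sp G Γ)
    {B : GL (Fin m) F} {N : ℕ} {d : Fin m → F} (hN : (B ^ N).1 = diagonal d)
    (hw : ∀ i j, (sp = false → i ≠ j) → d i * d j ≠ 1)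
    (hfac : ∀ M : GL (Fin m) F, M.1.det = 1 → (M = 1 ∨ ¬ ∃ l : F, M.1 = l • 1) →
      ∃ S T : GL (Fin m) F, S.1.det = 1 ∧ T.1.det = 1 ∧ M = (S * B * S⁻¹) * (T * ti B * T⁻¹))
    (hm : 2 ≤ m) (hm3 : sp = false → 3 ≤ m) {g : GL (Fin m ⊕ Fin m) F} (hg : g ∈ Γ)
    (h : g = 1 ∨ (g.1 ≠ 1 ∧ g.1 ≠ -1)) :
    ∃ x ∈ G, ∃ z ∈ G, g = (x * levH F m B * x⁻¹) * (z * levH F m B * z⁻¹) := by
  have hti : ((ti B) ^ N).1 = diagonal fun i => (d i)⁻¹ := by
    rw [← map_pow, ti_diag hN]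
  have hd : ∀ i, d i ≠ 0 := fun i h0 => by
    have h1 := (Matrix.isUnit_iff_isUnit_det _).1 (B ^ N).isUnit
    rw [hN, det_diagonal] at h1
    exact h1.ne_zero (Finset.prod_eq_zero (Finset.mem_univ i) h0)
  have hw' : ∀ i j, (sp = false → i ≠ j) → (d i)⁻¹ * (d j)⁻¹ ≠ 1 := fun i j hij e =>
    hw i j hij (by rwa [← mul_inv, inv_eq_one] at e)
  obtain ⟨x, hx, v, hv, w, hw0, M, hM, hM', e⟩ :
      ∃ x ∈ G, ∃ v ∈ G ⊓ Lower F m, ∃ w ∈ G ⊓ Upper F m, ∃ M : GL (Fin m) F,
        M.1.det = 1 ∧ (M = 1 ∨ ¬ ∃ l : F, M.1 = l • 1) ∧ x * g * x⁻¹ = v * levH F m M * w := by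
    rcases h with rfl | ⟨h1, h2⟩
    · exact ⟨1, one_mem _, 1, one_mem _, 1, one_mem _, 1, by simp, Or.inl rfl, by simp⟩
    · obtain ⟨x, hx, v, hv, w, hw0, M, hM, hM', e⟩ := exists_big hG hΓ hm hm3 hg h1 h2
      exact ⟨x, hx, v, hv, w, hw0, M, hM, Or.inr hM', e⟩
  obtain ⟨S, T, -, -, rfl⟩ := hfac M hM hM'
  exact cover_levi (levH F m) inf_le_left inf_le_left hG.levH_mem (levH_norm_lower hG)
    (levH_norm_upper hG) hG.flip_mem (flip_conj_lev sp B) (fpf_lower hG hN hw)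
    (fpf_upper hG hti hw') hx hv hw0 e

end CfsgLib.Thompson
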